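import Cfsg.Agent.H4.T8F

/-!
More tools for modules of coded groups.
-/

set_option autoImplicit false
set_option linter.unusedSectionVars false

namespace Cfsg.Agent.H4.T8

open Module BP

section
variable {k V : Type*} [Field k] [AddCommGroup V] [Module k V]

theorem els_fix {zs : List (End k V)} {v : V} (hv : v ∈ fx zs) : ∀ g ∈ els zs, g v = v :=
  els_ind (P := fun g => g v = v) rfl (fun a b ha hb => by rw [End.mul_apply, hb, ha]) (mem_fx.1 hv)

theorem els_sum_mem (zs N : List (End k V)) (U : Submodule k V) (hU : ∀ z ∈ zs, ∀ v ∈ U, z v ∈ U)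
    (hN : ∀ n ∈ N, ∀ v ∈ U, n v = v) (hc : Chain N zs) {v : V} (hv : v ∈ U) : (els zs).sum v ∈ U ⊓ fx zs := by
  induction zs generalizing N U v with
  | nil => simpa [els, fx] using hv
  | cons z zs ih =>
    obtain ⟨c1, c2, c3⟩ := hc
    have h1 : ∀ y ∈ zs, ∀ v ∈ U, y v ∈ U ∧ y (z v) = z (y v) := fun y hy v hv => by
      obtain ⟨n, hn, e⟩ := c2 y hy
      exact ⟨hU y (List.mem_cons_of_mem _ hy) v hv, by simpa [hN n hn v hv] using LinearMap.congr_fun e v⟩
    have h3 := els_ind (P := fun y => ∀ v ∈ U, y v ∈ U ∧ y (z v) = z (y v)) (fun v hv => ⟨hv, rfl⟩)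
      (fun a b ha hb v hv => ⟨(ha _ (hb v hv).1).1, by simp [(hb v hv).2, (ha _ (hb v hv).1).2]⟩) h1
    have h4 := ih (N ++ N.map (z * ·)) (U ⊓ z.eigenspace 1) (fun y hy v hv => ⟨(h1 y hy v hv.1).1, by
      have := End.mem_eigenspace_iff.1 hv.2
      rw [one_smul] at this
      simp [← (h1 y hy v hv.1).2, this]⟩) (fun n hn v hv => by
        rcases List.mem_append.1 hn with hn | hn
        · exact hN n hn v hv.1
        · obtain ⟨n, hn', rfl⟩ := List.mem_map.1 hn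
          simpa [hN n hn' v hv.1] using End.mem_eigenspace_iff.1 hv.2) c3 (v := v + z v)
      ⟨add_mem hv (hU z (by simp) v hv), by simp [show z (z v) = v from hN _ c1 v hv, add_comm]⟩
    have h5 : ∀ l : List (End k V), (∀ g ∈ l, g (z v) = z (g v)) → (l.map (z * ·)).sum v = l.sum (z v) := fun l hl => by
      induction l with
      | nil => simp
      | cons g l ih => simp [ih fun g hg => hl g (List.mem_cons_of_mem _ hg), hl g (by simp)]
    rw [els, List.sum_append, LinearMap.add_apply, h5 _ fun g hg => (h3 g hg v hv).2, ← map_add]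
    rwa [inf_assoc] at h4

theorem finrank_le_three [FiniteDimensional k V] (U X : Submodule k V) (f : End k V) (h : ∀ v ∈ U, f v ∈ U)
    (h0 : ∀ v ∈ U, f v = 0 → v ∈ X) (h3 : ∀ v ∈ U, f (f (f v)) = 0) : finrank k U ≤ 3 * finrank k X := by
  have h1 := finrank_le_add U (U ⊓ LinearMap.ker (f * f)) X (f * f) (fun v hv => h0 _ (h _ (h v hv)) (h3 v hv))
    fun v hv e => ⟨hv, e⟩
  have h2 := finrank_le_add (U ⊓ LinearMap.ker (f * f)) X X f (fun v hv => h0 _ (h v hv.1) hv.2) fun v hv => h0 v hv.1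
  omega

theorem finrank_le_one [FiniteDimensional k V] (U Y : Submodule k V) (f : End k V) (h : ∀ v ∈ U, f v ∈ Y)
    (h0 : ∀ v ∈ U, f v = 0 → v = 0) : finrank k U ≤ finrank k Y := by
  simpa using finrank_le_add U ⊥ Y f h h0

theorem finrank_le_two [FiniteDimensional k V] (U X Y : Submodule k V) (f g : End k V) (h : ∀ v, f v ∈ Y)
    (h' : ∀ v, g v ∈ Y) (h0 : ∀ v ∈ U, f v = 0 → g v = 0 → v ∈ X) : finrank k U ≤ 2 * finrank k Y + finrank k X := by
  have h1 := finrank_le_add U (U ⊓ LinearMap.ker f) Y f (fun v _ => h v) fun v hv e => ⟨hv, e⟩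
  have h2 := finrank_le_add (U ⊓ LinearMap.ker f) X Y g (fun v _ => h' v) fun v hv => h0 v hv.1 hv.2
  omega

theorem mem_eig {g : End k V} {v : V} : v ∈ ⊤ ⊓ g.eigenspace 1 ↔ g v = v := by simp

theorem eq_zero_of_mem [FiniteDimensional k V] {U : Submodule k V} (h : finrank k U = 0) {v : V} (hv : v ∈ U) : v = 0 := by
  rwa [Submodule.finrank_eq_zero.1 h] at hv

theorem card_mod {V : Type*} [AddCommGroup V] [Module (ZMod 3) V] [FiniteDimensional (ZMod 3) V]
    (U : Submodule (ZMod 3) V) (f : End (ZMod 3) V) (h : ∀ v ∈ U, f v ∈ U) (h5 : f ^ 5 = 1) :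
    3 ^ finrank (ZMod 3) U ≡ 3 ^ dm U f 1 [MOD 5] := by
  classical
  have := Module.finite_of_finite (ZMod 3) (M := V)
  have := Fintype.ofFinite V
  have := Fact.mk Nat.prime_five
  have h1 := Equiv.Perm.card_fixedPoints_modEq (α := U) (f := fun v => ⟨f v.1, h _ v.2⟩) (p := 5) (n := 1)
    (funext fun v => Subtype.ext (LinearMap.congr_fun h5 v.1))
  rw [Fintype.card_congr (α := Function.fixedPoints _) (β := ↥(U ⊓ f.eigenspace 1)) ⟨fun v => ⟨v.1.1, v.1.2, by simpa using congrArg Subtype.val v.2⟩,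
    fun v => ⟨⟨v.1, v.2.1⟩, Subtype.ext (by simpa using End.mem_eigenspace_iff.1 v.2.2)⟩, fun _ => rfl, fun _ => rfl⟩,
    Module.card_eq_pow_finrank (K := ZMod 3) (V := U), Module.card_eq_pow_finrank (K := ZMod 3) (V := ↥(U ⊓ _)),
    ZMod.card] at h1
  exact h1

end

section
variable (mu : ℕ → ℕ → ℕ) (e : ℕ) (vb : ℕ → Bool)

/-- a power -/
noncomputable def pwN (a k : ℕ) : ℕ := Nat.rec (motive := fun _ => ℕ) e (fun _ ih => force ih (mu a)) k

/-- normalising element -/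
noncomputable def nrmB (zs : List ℕ) (r : ℕ) : Bool := vb (r / 2) && forceL (elsC mu e zs) fun l =>
  zs.all fun z => force (smu mu z r) fun a => l.any fun n => Nat.beq a (smu mu r n)

/-- the points of a seed -/
noncomputable def seedB (act : ℕ → ℕ → ℕ) (n p : ℕ) (l : List ℕ) (r : ℕ) (sd : List ℕ) : Bool :=
  vb (r / 2) && sd.all (fun a => Nat.blt (a / 2) n) &&
    decide ((l.map fun a => force (smu mu a r) fun b => 2 * act (b / 2) p + b % 2) = sd)

end

variable {k V : Type*} [Field k] [AddCommGroup V] [Module k V] {G : Type*} [Group G]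
  {mu : ℕ → ℕ → ℕ} {e : ℕ} {vb : ℕ → Bool} {Val : ℕ → Prop} {φ : ℕ → G} (M : Mdl mu e vb Val φ) (ρ : G →* End k V)

/-- the operator of a seed -/
def sop (φ : ℕ → G) (l : List ℕ) (r : ℕ) : End k V := (l.map (op ρ φ)).sum * op ρ φ r

theorem op_two (a : ℕ) : op ρ φ (2 * a) = ρ (φ a) := by simp [op]

include M

theorem pwN_spec {a : ℕ} (h : Val a) (k : ℕ) : Val (pwN mu e a k) ∧ φ (pwN mu e a k) = φ a ^ k := by
  induction k with
  | zero => exact ⟨M.val_e, M.φ_e.trans (pow_zero _).symm⟩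
  | succ k ih =>
    rw [show pwN mu e a (k + 1) = mu a (pwN mu e a k) from force_eq ..]
    exact ⟨M.val_mu _ _ h ih.1, by rw [M.φ_mu _ _ h ih.1, ih.2, pow_succ']⟩

theorem elsC_fix {zs : List ℕ} (h : ∀ z ∈ zs, Val (z / 2)) {v : V} (hv : v ∈ fx (zs.map (op ρ φ))) {a : ℕ}
    (ha : a ∈ elsC mu e zs) : Val (a / 2) ∧ op ρ φ a v = v :=
  ⟨(elsC_spec M ρ h).1 a ha, els_fix hv _ ((elsC_spec M ρ h).2 ▸ List.mem_map_of_mem ha)⟩

theorem nrmB_spec {zs : List ℕ} (h : ∀ z ∈ zs, Val (z / 2)) {r : ℕ} (hr : nrmB mu e vb zs r = true) (v : V)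
    (hv : v ∈ fx (zs.map (op ρ φ))) : op ρ φ r v ∈ fx (zs.map (op ρ φ)) := by
  simp only [nrmB, forceL_eq, force_eq, Bool.and_eq_true, List.all_eq_true, List.any_eq_true, Nat.beq_eq] at hr
  refine mem_fx.2 (List.forall_mem_map.2 fun z hz => ?_)
  obtain ⟨n, hn, e⟩ := hr.2 z hz
  have h1 := elsC_fix M ρ h hv hn
  rw [← End.mul_apply, ← (op_smu M ρ (h z hz) (M.vb _ hr.1)).2, e, (op_smu M ρ (M.vb _ hr.1) h1.1).2, End.mul_apply,
    h1.2]

theorem seedB_spec {act : ℕ → ℕ → ℕ} {n p : ℕ} {f : ℕ → V}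
    (ha : ∀ h p, Val h → p < n → act h p < n → ρ (φ h) (f p) = f (act h p)) (hp : p < n) {l : List ℕ}
    (hl : ∀ a ∈ l, Val (a / 2)) {r : ℕ} {sd : List ℕ} (h : seedB mu vb act n p l r sd = true) :
    (∀ a ∈ sd, a / 2 < n) ∧ sg f sd = (l.map (op ρ φ)).sum (op ρ φ r (f p)) := by
  simp only [seedB, force_eq, Bool.and_eq_true, List.all_eq_true, Nat.blt_eq, decide_eq_true_eq] at h
  obtain ⟨⟨h1, h2⟩, rfl⟩ := h
  refine ⟨h2, ?_⟩
  induction l with
  | nil => simp [sg]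
  | cons a l ih =>
    have h3 := op_smu M ρ (hl a (by simp)) (M.vb _ h1)
    have h4 := h2 _ (List.mem_cons_self ..)
    have h5 := ih (fun b hb => hl b (List.mem_cons_of_mem _ hb)) fun b hb => h2 b (List.mem_cons_of_mem _ hb)
    obtain ⟨b, hb⟩ : ∃ b, smu mu a r = b := ⟨_, rfl⟩
    simp only [hb] at h3 h4
    have h6 : (2 * act (b / 2) p + b % 2) / 2 = act (b / 2) p := by omega
    rw [sg] at h5
    rw [sg, List.map_cons, List.map_cons, List.sum_cons, List.map_cons, List.sum_cons, h5, LinearMap.add_apply,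
      ← End.mul_apply (op ρ φ a), ← h3.2, hb, h6, ← ha _ _ h3.1 hp (h6 ▸ h4), neg_one_pow_eq_pow_mod_two,
      show (2 * act (b / 2) p + b % 2) % 2 = b % 2 by omega, ← neg_one_pow_eq_pow_mod_two]
    rcases Nat.even_or_odd b with h | h <;> simp [op, h.neg_one_pow]

theorem grpB_chain {rep : ℕ → ℕ} {zs cj : List ℕ} {cs : List ℤ} (h : grpB mu e vb rep zs cj cs = true) :
    (∀ z ∈ zs, Val (z / 2)) ∧ ∀ r v, sop ρ φ (elsC mu e zs) r v ∈ fx (zs.map (op ρ φ)) := by
  simp only [grpB, Bool.and_eq_true, List.all_eq_true] at h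
  have h1 := fun z hz => M.vb _ (h.1.1 z hz)
  refine ⟨h1, fun r v => ?_⟩
  rw [sop]
  exact (elsC_spec M ρ h1).2 ▸ (els_sum_mem _ _ ⊤ (fun _ _ _ _ => trivial) (by simp [op, M.φ_e])
    (chainB_spec M ρ h1 (by simpa using M.val_e) h.1.2) trivial).2

theorem cert (h3 : ∀ v : V, v + v + v = 0) {n : ℕ} {rp Z idx pt : ℕ → ℕ} (hr : allLt (fun p => vb (rp p)) n = true)
    {v : V} (hZ : ∀ i, Val (Z i) ∧ ρ (φ (Z i)) v = v) {p : ℕ} (hp : p < n) (he : rp p = e) {L : List (List ℕ)}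
    (hs : ∀ s ∈ L, ∃ l r, (∀ a ∈ l, Val (a / 2)) ∧ seedB mu vb (cact mu n rp Z idx pt) n p l r s = true ∧
      sop ρ φ l r v = 0) {l : List ℕ} {P N P' N' : ℕ}
    (hc : accS vb (cact mu n rp Z idx pt) n (gt L []) l (fun P N => Nat.beq P P' && Nat.beq N N') P N = true) :
    cv (fun p => ρ (φ (rp p)) v) n P N = cv (fun p => ρ (φ (rp p)) v) n P' N' := by
  have ha := cact_spec M ρ (idx := idx) (pt := pt) (fun p hp => M.vb _ (allLt_spec hr p hp)) hZ
  have h1 : ∀ i, (∀ a ∈ gt L [] i, a / 2 < n) ∧ sg (fun p => ρ (φ (rp p)) v) (gt L [] i) = 0 := fun i => by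
    rcases gt_mem L [] i with h | h
    · simp [h, sg]
    · obtain ⟨l, r, h1, h2, h4⟩ := hs _ h
      have := seedB_spec M ρ (f := fun p => ρ (φ (rp p)) v) ha hp h1 h2
      exact ⟨this.1, by rw [this.2, he, M.φ_e, map_one, End.one_apply]; exact h4⟩
  obtain ⟨P1, N1, h4, h5⟩ := accS_spec M ρ (f := fun p => ρ (φ (rp p)) v) h3 ha (fun i => (h1 i).1) (fun i => (h1 i).2) hc
  simp only [Bool.and_eq_true, Nat.beq_eq] at h4
  rw [← h5, h4.1, h4.2]

omit M in
theorem cv_self (f : ℕ → V) (n P : ℕ) : cv f n P P = 0 := by simp [cv]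

omit M in
theorem cv_pow (f : ℕ → V) {n p : ℕ} (hp : p < n) (N : ℕ) : cv f n (Nat.pow 2 p) N = f p + cv f n 0 N := by
  simpa [add_comm] using cv_xor f hp 0 N

omit M in
theorem cv_one (f : ℕ → V) {n p : ℕ} (hp : p < n) : cv f n (Nat.pow 2 p) 0 = f p := by
  rw [cv_pow f hp, cv_self, add_zero]

omit M in
theorem cv_two (f : ℕ → V) {n p q : ℕ} (hp : p < n) (hq : q < n) : cv f n (Nat.pow 2 p) (Nat.pow 2 q) = f p - f q := by
  rw [cv_pow f hp, cv_swap, cv_one f hq, sub_eq_add_neg]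

omit M in
theorem pow_fix {g : End k V} {v : V} (h : g v = v) (n : ℕ) : (g ^ n) v = v := by
  induction n with
  | zero => rfl
  | succ n ih => rw [pow_succ, End.mul_apply, h, ih]

end Cfsg.Agent.H4.T8
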