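import Mathlib

/-!
Bit-parallel computations with permutations of the natural numbers given by swap networks.
-/

set_option autoImplicit false

namespace Cfsg.Agent.H4.BP

open Equiv

/-- one swap stage as a function -/
def swf (d m i : ℕ) : ℕ := if m.testBit i then i + d else if d ≤ i ∧ m.testBit (i - d) then i - d else i

theorem wf_bit {d m : ℕ} (h : m &&& (m <<< d) = 0) (i : ℕ) (hi : m.testBit i) (hd : d ≤ i) :
    m.testBit (i - d) = false := by
  have := congrArg (fun x => x.testBit i) h
  simpa [Nat.testBit_and, Nat.testBit_shiftLeft, hi, hd] using this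

theorem swf_invol {d m : ℕ} (h : m &&& (m <<< d) = 0) : Function.Involutive (swf d m) := by
  intro i
  by_cases h1 : m.testBit i
  · have h2 : m.testBit (i + d) = false := by
      by_contra h3
      have := wf_bit h (i + d) (by simpa using h3) (by omega)
      simp [h1] at this
    simp [swf, h1, h2]
  · by_cases h2 : d ≤ i ∧ m.testBit (i - d)
    · have : swf d m i = i - d := by simp [swf, h1, h2]
      rw [this]
      simp only [swf, h2.2, if_true]
      omega
    · have : swf d m i = i := by simp only [swf, h1, h2]; simp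
      rw [this, this]

/-- one swap stage as a permutation -/
def sw (a : ℕ × ℕ) : Perm ℕ := if h : a.2 &&& (a.2 <<< a.1) = 0 then (swf_invol h).toPerm else 1

/-- the permutation of a network -/
def net (l : List (ℕ × ℕ)) : Perm ℕ := (l.map sw).prod

/-- one swap stage on bit sets -/
def st (d m x : ℕ) : ℕ :=
  (fun t => Nat.xor x (Nat.xor t (Nat.shiftLeft t d))) (Nat.land (Nat.xor (Nat.shiftRight x d) x) m)

theorem st_eq (d m x : ℕ) :
    st d m x = x ^^^ ((((x >>> d) ^^^ x) &&& m) ^^^ ((((x >>> d) ^^^ x) &&& m) <<< d)) := rfl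

theorem testBit_st {d m : ℕ} (h : m &&& (m <<< d) = 0) (x i : ℕ) :
    (st d m x).testBit i = x.testBit (swf d m i) := by
  rw [st_eq]
  simp only [Nat.testBit_xor, Nat.testBit_and, Nat.testBit_shiftLeft, Nat.testBit_shiftRight, swf]
  by_cases h1 : m.testBit i
  · by_cases hd : d ≤ i
    · simp only [h1, wf_bit h i h1 hd, Nat.add_comm d i, if_true]
      cases x.testBit i <;> cases x.testBit (i + d) <;> simp
    · simp only [h1, hd, Nat.add_comm d i, if_true]
      cases x.testBit i <;> cases x.testBit (i + d) <;> simp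
  · by_cases hd : d ≤ i
    · have : d + (i - d) = i := by omega
      by_cases h2 : m.testBit (i - d)
      · simp [h1, hd, h2, this]
      · simp [h1, hd, h2]
    · simp [h1, hd]

/-- a network on bit sets -/
noncomputable def app (l : List (ℕ × ℕ)) : ℕ → ℕ :=
  List.rec (motive := fun _ => ℕ → ℕ) (fun x => x) (fun a _ ih x => ih (st a.1 a.2 x)) l

theorem testBit_app (l : List (ℕ × ℕ)) (h : ∀ a ∈ l, a.2 &&& (a.2 <<< a.1) = 0) (x i : ℕ) :
    (app l x).testBit i = x.testBit (net l i) := by
  induction l generalizing x with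
  | nil => rfl
  | cons a l ih =>
    have h1 := h a (by simp)
    change (app l (st a.1 a.2 x)).testBit i = _
    rw [ih (fun b hb => h b (by simp [hb])), testBit_st h1]
    simp [net, sw, h1]

/-- evaluate a number before going on -/
noncomputable def force {β : Type} (x : ℕ) (k : ℕ → β) : β :=
  Nat.rec (motive := fun _ => β) (k 0) (fun y _ => k (Nat.succ y)) x

@[simp] theorem force_eq {β : Type} (x : ℕ) (k : ℕ → β) : force x k = k x := by cases x <;> rfl

/-- bounded universal quantifier -/
noncomputable def allLt (f : ℕ → Bool) (n : ℕ) : Bool :=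
  Nat.rec (motive := fun _ => Bool) true (fun k ih => Bool.rec false ih (f k)) n

theorem allLt_spec {f : ℕ → Bool} {n : ℕ} (h : allLt f n = true) : ∀ i < n, f i = true := by
  induction n with
  | zero => intro i hi; omega
  | succ n ih =>
    change Bool.rec false (allLt f n) (f n) = true at h
    cases hf : f n
    · rw [hf] at h; exact absurd h (by simp)
    · rw [hf] at h
      intro i hi
      rcases Nat.lt_succ_iff_lt_or_eq.1 hi with h1 | h1
      · exact ih h i h1
      · rw [h1, hf]

/-- bit test -/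
def tb (x i : ℕ) : Bool := Nat.beq (Nat.land (Nat.shiftRight x i) 1) 1

theorem tb_eq (x i : ℕ) : tb x i = x.testBit i := by
  change Nat.beq ((x >>> i) &&& 1) 1 = _
  rw [Nat.and_one_is_mod, Nat.testBit_eq_decide_div_mod_eq, Nat.shiftRight_eq_div_pow]
  rcases Nat.mod_two_eq_zero_or_one (x / 2 ^ i) with h | h <;> rw [h] <;> rfl

/-- the permutations fixing all numbers from `N` on -/
def Fx (N : ℕ) : Subgroup (Perm ℕ) where
  carrier := {g | ∀ i, N ≤ i → g i = i}
  one_mem' := fun _ _ => rfl
  mul_mem' := fun {a b} ha hb i hi => by rw [Perm.mul_apply, hb i hi, ha i hi]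
  inv_mem' := fun {a} ha i hi => by rw [Perm.inv_eq_iff_eq, ha i hi]

theorem Fx.lt {N : ℕ} {g : Perm ℕ} (h : g ∈ Fx N) {i : ℕ} (hi : i < N) : g i < N := by
  by_contra h1
  have := g.injective (h (g i) (by omega))
  omega

instance finite_Fx (N : ℕ) : Finite (Fx N) :=
  Finite.of_injective (fun (g : Fx N) (i : Fin N) => (⟨g.1 i, Fx.lt g.2 i.2⟩ : Fin N)) fun g h e => by
    ext i
    by_cases hi : i < N
    · exact congrArg Fin.val (congrFun e ⟨i, hi⟩)
    · rw [g.2 i (by omega), h.2 i (by omega)]

/-- the check that a stage is well formed -/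
def wf1 (N : ℕ) (a : ℕ × ℕ) : Bool :=
  Nat.beq (Nat.land a.2 (Nat.shiftLeft a.2 a.1)) 0 && Nat.beq (Nat.shiftRight (Nat.shiftLeft a.2 a.1) N) 0

theorem wf1_spec {N : ℕ} {a : ℕ × ℕ} (h : wf1 N a = true) : a.2 &&& (a.2 <<< a.1) = 0 ∧ sw a ∈ Fx N := by
  simp only [wf1, Bool.and_eq_true, Nat.beq_eq] at h
  have h1 : a.2 &&& (a.2 <<< a.1) = 0 := h.1
  have h2 : (a.2 <<< a.1) >>> N = 0 := h.2
  refine ⟨h1, fun i hi => ?_⟩
  have h3 : ∀ j, N ≤ j → a.1 ≤ j → a.2.testBit (j - a.1) = false := fun j hj hd => by
    have := congrArg (fun x => x.testBit (j - N)) h2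
    simp only [Nat.testBit_shiftRight, Nat.testBit_shiftLeft, Nat.zero_testBit] at this
    rw [show N + (j - N) = j by omega] at this
    simpa [hd] using this
  have h4 := h3 (i + a.1) (by omega) (by omega)
  rw [Nat.add_sub_cancel] at h4
  simp only [sw, h1, dif_pos, Function.Involutive.coe_toPerm, swf, h4]
  by_cases hd : a.1 ≤ i
  · simp [h3 i hi hd]
  · simp [hd]

/-- the bit planes of the numbers below `2 ^ k` -/
noncomputable def pl (j k : ℕ) : ℕ :=
  Nat.rec (motive := fun _ => ℕ) 0 (fun k x => Bool.rec (Nat.lor x (Nat.shiftLeft x (Nat.pow 2 k)))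
    (Nat.shiftLeft (Nat.sub (Nat.pow 2 (Nat.pow 2 k)) 1) (Nat.pow 2 k)) (Nat.beq k j)) k

theorem testBit_pl (j k i : ℕ) : (pl j k).testBit i = (decide (i < 2 ^ k) && i.testBit j) := by
  induction k generalizing i with
  | zero =>
    change (0 : ℕ).testBit i = _
    by_cases h : i = 0
    · simp [h]
    · simp [h]
  | succ k ih =>
    have e : pl j (k + 1) = Bool.rec (pl j k ||| (pl j k <<< 2 ^ k)) ((2 ^ 2 ^ k - 1) <<< 2 ^ k) (Nat.beq k j) := rfl
    rw [e]
    have hp : 2 ^ (k + 1) = 2 ^ k + 2 ^ k := by ring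
    by_cases hk : k = j
    · subst hk
      rw [Nat.beq_refl]
      simp only [Nat.testBit_shiftLeft, Nat.testBit_two_pow_sub_one]
      by_cases h1 : i < 2 ^ k
      · simp [Nat.testBit_lt_two_pow h1, show ¬ 2 ^ k ≤ i by omega]
      · by_cases h2 : i < 2 ^ (k + 1)
        · have : i.testBit k = true := by
            rw [show i = 2 ^ k + (i - 2 ^ k) by omega, Nat.testBit_two_pow_add_eq,
              Nat.testBit_lt_two_pow (by omega)]; rfl
          simp only [this, h2, decide_true, Bool.and_true, Bool.and_eq_true, decide_eq_true_eq]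
          omega
        · simp only [h2, decide_false, Bool.false_and, Bool.and_eq_false_imp, decide_eq_true_eq,
            decide_eq_false_iff_not]
          omega
    · have : Nat.beq k j = false := by rw [Bool.eq_false_iff]; simpa using hk
      rw [this]
      simp only [Nat.testBit_or, Nat.testBit_shiftLeft, ih]
      by_cases h1 : i < 2 ^ k
      · simp [h1, show ¬ 2 ^ k ≤ i by omega, show i < 2 ^ (k + 1) by omega]
      · by_cases h2 : i < 2 ^ (k + 1)
        · have h3 : i.testBit j = (i - 2 ^ k).testBit j := by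
            rcases lt_or_gt_of_ne hk with h4 | h4
            · have h5 : 2 ^ (k + 1) ≤ 2 ^ j := Nat.pow_le_pow_right (by norm_num) h4
              rw [Nat.testBit_lt_two_pow (by omega), Nat.testBit_lt_two_pow (by omega)]
            · conv_lhs => rw [show i = 2 ^ k + (i - 2 ^ k) by omega]
              exact Nat.testBit_two_pow_add_gt h4 _
          simp [h1, h2, h3, show 2 ^ k ≤ i by omega, show i - 2 ^ k < 2 ^ k by omega]
        · simp only [h1, h2, decide_false, Bool.false_and, Bool.false_or, Bool.and_eq_false_imp, decide_eq_true_eq]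
          intro _ h4
          omega

theorem eq_of_bits {k a b : ℕ} (ha : a < 2 ^ k) (hb : b < 2 ^ k) (h : ∀ j < k, a.testBit j = b.testBit j) : a = b := by
  apply Nat.eq_of_testBit_eq
  intro j
  by_cases hj : j < k
  · exact h j hj
  · have h5 : 2 ^ k ≤ 2 ^ j := Nat.pow_le_pow_right (by norm_num) (by omega)
    rw [Nat.testBit_lt_two_pow (by omega), Nat.testBit_lt_two_pow (by omega)]

/-- a system of networks -/
abbrev Nets := List (List (ℕ × ℕ))

/-- list access -/
noncomputable def gt {α : Type} (l : List α) (d : α) : ℕ → α :=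
  List.rec (motive := fun _ => ℕ → α) (fun _ => d) (fun a _ ih s => Nat.rec (motive := fun _ => α) a (fun s _ => ih s) s) l

theorem gt_mem {α : Type} (l : List α) (d : α) (s : ℕ) : gt l d s = d ∨ gt l d s ∈ l := by
  induction l generalizing s with
  | nil => exact Or.inl rfl
  | cons a l ih =>
    cases s with
    | zero => exact Or.inr (List.mem_cons_self ..)
    | succ s => exact (ih s).imp id (List.mem_cons_of_mem _)

/-- the generators -/
noncomputable def gen (S : Nets) (s : ℕ) : Perm ℕ := net (gt S [] s)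

/-- the value of a word -/
noncomputable def ev (S : Nets) (w : List ℕ) : Perm ℕ := (w.map (gen S)).prod

@[simp] theorem ev_nil (S : Nets) : ev S [] = 1 := rfl
@[simp] theorem ev_cons (S : Nets) (s : ℕ) (w : List ℕ) : ev S (s :: w) = gen S s * ev S w := by simp [ev]
@[simp] theorem ev_append (S : Nets) (v w : List ℕ) : ev S (v ++ w) = ev S v * ev S w := by simp [ev]

/-- all networks are well formed -/
def WF (S : Nets) (k : ℕ) : Prop := (S.all fun l => l.all (wf1 (2 ^ k))) = true

variable {S : Nets} {k : ℕ}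

theorem WF.wf (h : WF S k) (s : ℕ) : ∀ a ∈ gt S [] s, wf1 (2 ^ k) a = true := by
  rcases gt_mem S [] s with h1 | h1
  · simp [h1]
  · exact List.all_eq_true.1 (List.all_eq_true.1 h _ h1)

theorem WF.gen_mem (h : WF S k) (s : ℕ) : gen S s ∈ Fx (2 ^ k) :=
  Subgroup.list_prod_mem _ fun x hx => by
    obtain ⟨a, ha, rfl⟩ := List.mem_map.1 hx
    exact (wf1_spec (h.wf s a ha)).2

theorem WF.ev_mem (h : WF S k) (w : List ℕ) : ev S w ∈ Fx (2 ^ k) :=
  Subgroup.list_prod_mem _ fun x hx => by
    obtain ⟨a, -, rfl⟩ := List.mem_map.1 hx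
    exact h.gen_mem a

/-- a generator on bit sets -/
noncomputable def ap (S : Nets) (s x : ℕ) : ℕ := app (gt S [] s) x

theorem WF.ap (h : WF S k) (s x i : ℕ) : (ap S s x).testBit i = x.testBit (gen S s i) :=
  testBit_app _ (fun a ha => (wf1_spec (h.wf s a ha)).1) x i

/-- a word on bit sets -/
noncomputable def apW (S : Nets) (w : List ℕ) : ℕ → ℕ :=
  List.rec (motive := fun _ => ℕ → ℕ) (fun x => x) (fun s _ ih x => force (ap S s x) ih) w

theorem WF.apW (h : WF S k) (w : List ℕ) (x i : ℕ) : (apW S w x).testBit i = x.testBit (ev S w i) := by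
  induction w generalizing x with
  | nil => rfl
  | cons s w ih =>
    change (force (BP.ap S s x) (BP.apW S w)).testBit i = _
    rw [force_eq, ih, h.ap, ev_cons, Perm.mul_apply]

/-- the word fixes all numbers from `n` on -/
noncomputable def agree (S : Nets) (k n : ℕ) (w : List ℕ) : Bool :=
  allLt (fun j => Nat.beq (Nat.shiftRight (apW S w (pl j k)) n) (Nat.shiftRight (pl j k) n)) k

theorem WF.agree (h : WF S k) {n : ℕ} {w : List ℕ} (ha : agree S k n w = true) : ev S w ∈ Fx n := by
  intro i hi
  by_cases h1 : i < 2 ^ k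
  · refine eq_of_bits (Fx.lt (h.ev_mem w) h1) h1 fun j hj => ?_
    have h2 : BP.apW S w (pl j k) >>> n = pl j k >>> n := Nat.eq_of_beq_eq_true (allLt_spec ha j hj)
    have h3 := congrArg (fun x => x.testBit (i - n)) h2
    simp only [Nat.testBit_shiftRight, show n + (i - n) = i by omega, h.apW, testBit_pl] at h3
    simpa [h1, Fx.lt (h.ev_mem w) h1] using h3
  · exact h.ev_mem w i (by omega)

theorem WF.eq_one (h : WF S k) {w : List ℕ} (ha : BP.agree S k 0 w = true) : ev S w = 1 :=
  Equiv.ext fun i => h.agree ha i (Nat.zero_le _)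

/-- table look-up with nine-bit entries -/
def lk (T i : ℕ) : ℕ := Nat.land (Nat.shiftRight T (Nat.mul 9 i)) 511

/-- the word agrees with the table below `m` -/
noncomputable def low (S : Nets) (k m : ℕ) (w : List ℕ) (T : ℕ) : Bool :=
  allLt (fun j => force (Nat.land (apW S w (pl j k)) (Nat.sub (Nat.pow 2 m) 1)) fun y =>
    allLt (fun i => Bool.rec (Bool.rec true false (tb y i)) (tb y i) (tb (lk T i) j)) m) k

theorem lk_lt (T i : ℕ) : lk T i < 512 := Nat.and_lt_two_pow (n := 9) _ (by norm_num)

theorem WF.low (h : WF S k) (h9 : 9 ≤ k) {m : ℕ} (hm : m ≤ 2 ^ k) {w : List ℕ} {T : ℕ} (ha : low S k m w T = true) :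
    ∀ i < m, ev S w i = lk T i := by
  intro i hi
  have h1 : i < 2 ^ k := by omega
  have h5 : 2 ^ 9 ≤ 2 ^ k := Nat.pow_le_pow_right (by norm_num) h9
  refine eq_of_bits (Fx.lt (h.ev_mem w) h1) (by have := lk_lt T i; omega) fun j hj => ?_
  have h2 := allLt_spec ha j hj
  rw [force_eq] at h2
  have h3 := allLt_spec h2 i hi
  have h4 : (Nat.land (BP.apW S w (pl j k)) (Nat.sub (Nat.pow 2 m) 1)).testBit i = (ev S w i).testBit j := by
    change (BP.apW S w (pl j k) &&& (2 ^ m - 1)).testBit i = _
    simp [h.apW, testBit_pl, Fx.lt (h.ev_mem w) h1, hi]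
  simp only [tb_eq, h4] at h3
  revert h3
  cases (ev S w i).testBit j <;> cases (lk T i).testBit j <;> simp

/-- evaluation at a point -/
theorem WF.pt (h : WF S k) {w : List ℕ} {p q : ℕ} (ha : tb (BP.apW S w (Nat.pow 2 q)) p = true) : ev S w p = q := by
  rw [tb_eq, h.apW] at ha
  change (2 ^ q).testBit _ = true at ha
  rw [Nat.testBit_two_pow] at ha
  exact (of_decide_eq_true ha).symm

/-- closure of a set under words -/
noncomputable def reach (S : Nets) (W : List (List ℕ)) (l : List ℕ) : ℕ → ℕ :=
  List.rec (motive := fun _ => ℕ → ℕ) (fun x => x) (fun s _ ih x => force (Nat.lor x (apW S (gt W [] s) x)) ih) l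

theorem WF.reach (h : WF S k) {W : List (List ℕ)} {P : ℕ → Prop} (hP : ∀ w ∈ W, ∀ p, P (ev S w p) → P p)
    (l : List ℕ) (x : ℕ) (hx : ∀ p, x.testBit p → P p) : ∀ p, (reach S W l x).testBit p → P p := by
  induction l generalizing x with
  | nil => exact hx
  | cons s l ih =>
    change ∀ p, (force (x ||| BP.apW S (gt W [] s) x) (BP.reach S W l)).testBit p → P p
    rw [force_eq]
    refine ih _ fun p hp => ?_
    rw [Nat.testBit_or, Bool.or_eq_true, h.apW] at hp
    rcases hp with hp | hp
    · exact hx p hp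
    · rcases gt_mem W [] s with h1 | h1
      · rw [h1] at hp; exact hx p hp
      · exact hP _ h1 p (hx _ hp)

/-- the set contains all numbers below `n` -/
def covers (x n : ℕ) : Bool := Nat.beq (Nat.land x (Nat.sub (Nat.pow 2 n) 1)) (Nat.sub (Nat.pow 2 n) 1)

theorem covers_spec {x n : ℕ} (h : covers x n = true) : ∀ p < n, x.testBit p := by
  intro p hp
  have h1 : x &&& (2 ^ n - 1) = 2 ^ n - 1 := Nat.eq_of_beq_eq_true h
  have := congrArg (fun y => y.testBit p) h1
  simpa [Nat.testBit_and, Nat.testBit_two_pow_sub_one, hp] using this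

/-- the set of points moved by a word -/
noncomputable def mv (S : Nets) (k : ℕ) (w : List ℕ) (j : ℕ) : ℕ :=
  Nat.rec (motive := fun _ => ℕ) 0 (fun j x => Nat.lor x (Nat.xor (apW S w (pl j k)) (pl j k))) j

theorem WF.mv (h : WF S k) (w : List ℕ) (p : ℕ) : (mv S k w k).testBit p = false ↔ ev S w p = p := by
  have key : ∀ j, (BP.mv S k w j).testBit p = false ↔
      ∀ i < j, (pl i k).testBit (ev S w p) = (pl i k).testBit p := by
    intro j
    induction j with
    | zero => exact ⟨fun _ i hi => by omega, fun _ => Nat.zero_testBit p⟩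
    | succ j ih =>
      change (BP.mv S k w j ||| (BP.apW S w (pl j k) ^^^ pl j k)).testBit p = false ↔ _
      rw [Nat.testBit_or, Bool.or_eq_false_iff, ih, Nat.testBit_xor, h.apW, Nat.forall_lt_succ_right]
      simp
  rw [key]
  refine ⟨fun h1 => ?_, fun h1 i _ => by rw [h1]⟩
  by_cases h2 : p < 2 ^ k
  · refine eq_of_bits (Fx.lt (h.ev_mem w) h2) h2 fun j hj => ?_
    simpa [testBit_pl, h2, Fx.lt (h.ev_mem w) h2] using h1 j hj
  · exact h.ev_mem w p (by omega)

end Cfsg.Agent.H4.BP
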