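import Cfsg.Agent.H4.BP

/-!
Bit-parallel verification of coset tables.
-/

set_option autoImplicit false

namespace Cfsg.Agent.H4.BP

open Equiv

theorem gt_of_le {α : Type} (l : List α) (d : α) (s : ℕ) (h : l.length ≤ s) : gt l d s = d := by
  induction l generalizing s with
  | nil => rfl
  | cons a l ih =>
    cases s with
    | zero => simp at h
    | succ s => exact ih s (by simpa using h)

theorem gen_of_le (S : Nets) (s : ℕ) (h : S.length ≤ s) : gen S s = 1 := by rw [gen, gt_of_le _ _ _ h]; rfl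

/-- the field of a generator -/
def fld (k K s : ℕ) : ℕ :=
  Nat.land (Nat.shiftRight K (Nat.mul s (Nat.pow 2 k))) (Nat.sub (Nat.pow 2 (Nat.pow 2 k)) 1)

/-- enlarge the field of a generator -/
def put (k K s x : ℕ) : ℕ :=
  Nat.lor K (Nat.shiftLeft (Nat.land x (Nat.sub (Nat.pow 2 (Nat.pow 2 k)) 1)) (Nat.mul s (Nat.pow 2 k)))

theorem fld_put {k K s x t p : ℕ} (h : (fld k (put k K s x) t).testBit p) :
    (fld k K t).testBit p ∨ (t = s ∧ x.testBit p) := by
  change (((K ||| ((x &&& (2 ^ 2 ^ k - 1)) <<< (s * 2 ^ k))) >>> (t * 2 ^ k)) &&& (2 ^ 2 ^ k - 1)).testBit p at h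
  change ((K >>> (t * 2 ^ k)) &&& (2 ^ 2 ^ k - 1)).testBit p ∨ _
  generalize 2 ^ k = N at *
  simp only [Nat.testBit_and, Nat.testBit_or, Nat.testBit_shiftLeft, Nat.testBit_shiftRight,
    Nat.testBit_two_pow_sub_one, Bool.and_eq_true, Bool.or_eq_true, decide_eq_true_eq] at h ⊢
  obtain ⟨h1 | ⟨h1, h2, h3⟩, h4⟩ := h
  · exact Or.inl ⟨h1, h4⟩
  · have : t = s := by
      rcases lt_trichotomy t s with h5 | h5 | h5
      · have := Nat.mul_le_mul_right N (show t + 1 ≤ s from h5)
        rw [Nat.add_mul] at this; omega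
      · exact h5
      · have := Nat.mul_le_mul_right N (show s + 1 ≤ t from h5)
        rw [Nat.add_mul] at this; omega
    subst this
    exact Or.inr ⟨rfl, by simpa using h2⟩

theorem fld_zero (k s p : ℕ) : (fld k 0 s).testBit p = false := by
  change ((0 >>> (s * 2 ^ k)) &&& (2 ^ 2 ^ k - 1)).testBit p = false
  simp

section TC

variable {Γ Y : Type*} [Group Γ] [MulAction Γ Y] (g : ℕ → Γ) (S : Nets) (k : ℕ)

/-- all recorded edges are valid -/
def Good (c : ℕ → Y) (K : ℕ) : Prop := ∀ s p, (fld k K s).testBit p → g s • c p = c (gen S s p)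

/-- a relator of both systems of generators -/
def IsRel (w : List ℕ) : Prop := (w.map g).prod = 1 ∧ ev S w = 1

/-- chain of known edges -/
noncomputable def ch (K : ℕ) (v : List ℕ) : ℕ → ℕ :=
  List.rec (motive := fun _ => ℕ → ℕ) (fun A => A) (fun t _ ih A => force (Nat.land (fld k K t) (ap S t A)) ih) v

/-- one deduction step -/
noncomputable def step (R : List (List ℕ)) (K : ℕ) (a : ℕ × ℕ) : ℕ :=
  Bool.rec (List.rec (motive := fun _ => ℕ) K (fun s u _ => List.rec (motive := fun _ => ℕ) K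
      (fun t v _ => put k K s (ch S k K v (fld k K t))) u) ((gt R [] a.1).drop a.2 ++ (gt R [] a.1).take a.2))
    (put k K a.2 (ap S a.2 (fld k K a.2))) (Nat.ble 1000 a.1)

/-- a sequence of deduction steps -/
noncomputable def run (R : List (List ℕ)) (l : List (ℕ × ℕ)) : ℕ → ℕ :=
  List.rec (motive := fun _ => ℕ → ℕ) (fun K => K) (fun a _ ih K => force (step S k R K a) ih) l

/-- the spanning tree -/
noncomputable def tree (l : List ℕ) : ℕ → ℕ → ℕ :=
  List.rec (motive := fun _ => ℕ → ℕ → ℕ) (fun _ K => K) (fun s _ ih X K =>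
    force (Nat.lor X (ap S s X)) fun X' => force (Nat.xor X' X) fun D =>
      force (put k K s (Nat.lor D (ap S s D))) (ih X')) l

/-- the loops at the base point -/
noncomputable def loops (p : ℕ) (l : List ℕ) : ℕ :=
  List.rec (motive := fun _ => ℕ) 0 (fun s _ ih => put k ih s (Nat.pow 2 p)) l

/-- the table is complete -/
noncomputable def full (n m K : ℕ) : Bool := allLt (fun s => covers (fld k K s) n) m

variable {g S k}

theorem IsRel.rot {w : List ℕ} (h : IsRel g S w) (i : ℕ) : IsRel g S (w.drop i ++ w.take i) := by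
  rw [← List.take_append_drop i w] at h
  simp only [IsRel, List.map_append, List.prod_append, ev_append] at h ⊢
  exact ⟨mul_eq_one_comm.1 h.1, mul_eq_one_comm.1 h.2⟩

theorem prod_reverse {G : Type*} [Group G] {g : ℕ → G} (hg : ∀ s, g s * g s = 1) (w : List ℕ) :
    (w.reverse.map g).prod = ((w.map g).prod)⁻¹ := by
  induction w with
  | nil => simp
  | cons s w ih =>
    rw [List.reverse_cons, List.map_append, List.prod_append, ih, List.map_cons, List.map_cons, List.prod_cons,
      List.prod_cons, mul_inv_rev, inv_eq_of_mul_eq_one_right (hg s)]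
    simp

theorem IsRel.reverse (hg : ∀ s, g s * g s = 1) (hs : ∀ s, gen S s * gen S s = 1) {w : List ℕ} (h : IsRel g S w) :
    IsRel g S w.reverse :=
  ⟨by rw [prod_reverse hg, h.1, inv_one], by rw [ev, prod_reverse hs, ← ev, h.2, inv_one]⟩

theorem ch_spec (h : WF S k) {c : ℕ → Y} {K : ℕ} (hK : Good g S k c K) (v pre : List ℕ) (A : ℕ)
    (hA : ∀ x, A.testBit x → (pre.map g).prod • c x = c (ev S pre x)) :
    ∀ x, (ch S k K v A).testBit x → ((pre ++ v).map g).prod • c x = c (ev S (pre ++ v) x) := by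
  induction v generalizing pre A with
  | nil => rw [List.append_nil]; exact hA
  | cons t v ih =>
    change ∀ x, (force (fld k K t &&& ap S t A) (ch S k K v)).testBit x → _
    rw [force_eq, show pre ++ t :: v = (pre ++ [t]) ++ v by simp]
    refine ih _ _ fun x hx => ?_
    rw [Nat.testBit_and, Bool.and_eq_true, h.ap] at hx
    simp only [List.map_append, List.prod_append, List.map_cons, List.map_nil, List.prod_cons, List.prod_nil, mul_one,
      mul_smul, hK t x hx.1, hA _ hx.2, ev_append, ev_cons, ev_nil, Perm.mul_apply]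

theorem step_spec (h : WF S k) (hg : ∀ s, g s * g s = 1) (hs : ∀ s, gen S s * gen S s = 1) {R : List (List ℕ)}
    (hR : ∀ w ∈ R, IsRel g S w) {c : ℕ → Y} {K : ℕ} (hK : Good g S k c K) (a : ℕ × ℕ) :
    Good g S k c (step S k R K a) := by
  unfold step
  cases Nat.ble 1000 a.1
  · have h1 : IsRel g S ((gt R [] a.1).drop a.2 ++ (gt R [] a.1).take a.2) := by
      refine IsRel.rot ?_ _
      rcases gt_mem R [] a.1 with h2 | h2
      · rw [h2]; exact ⟨rfl, rfl⟩
      · exact hR _ h2
    generalize (gt R [] a.1).drop a.2 ++ (gt R [] a.1).take a.2 = w at h1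
    rcases w with _ | ⟨s, _ | ⟨t, v⟩⟩
    · exact hK
    · exact hK
    · intro s' p hp
      rcases fld_put hp with h2 | ⟨rfl, h2⟩
      · exact hK _ _ h2
      · have h3 := ch_spec h hK v [t] (fld k K t) (fun x hx => by simpa using hK t x hx) p h2
        have h4 := h1.1
        have h5 := h1.2
        rw [List.map_cons, List.prod_cons] at h4
        rw [ev_cons] at h5
        rwa [List.singleton_append, mul_left_cancel (h4.trans (hg s').symm),
          mul_left_cancel (h5.trans (hs s').symm)] at h3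
  · intro s' p hp
    rcases fld_put hp with h2 | ⟨rfl, h2⟩
    · exact hK _ _ h2
    · rw [h.ap] at h2
      have h3 := hK _ _ h2
      rw [← Perm.mul_apply, hs, Perm.one_apply] at h3
      rw [← h3, ← mul_smul, hg, one_smul]

theorem run_spec (h : WF S k) (hg : ∀ s, g s * g s = 1) (hs : ∀ s, gen S s * gen S s = 1) {R : List (List ℕ)}
    (hR : ∀ w ∈ R, IsRel g S w) {c : ℕ → Y} (l : List (ℕ × ℕ)) {K : ℕ} (hK : Good g S k c K) :
    Good g S k c (run S k R l K) := by
  induction l generalizing K with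
  | nil => exact hK
  | cons a l ih =>
    change Good g S k c (force (step S k R K a) (run S k R l))
    rw [force_eq]
    exact ih (step_spec h hg hs hR hK a)

theorem tree_spec (h : WF S k) (hg : ∀ s, g s * g s = 1) (hs : ∀ s, gen S s * gen S s = 1) {p₀ : ℕ} {y₀ : Y}
    (l : List ℕ) (X K : ℕ) (hX : X.testBit p₀) (c : ℕ → Y) (hc : c p₀ = y₀)
    (hK : ∀ s p, (fld k K s).testBit p → g s • c p = c (gen S s p) ∧ X.testBit p ∧ X.testBit (gen S s p)) :
    ∃ c : ℕ → Y, c p₀ = y₀ ∧ Good g S k c (tree S k l X K) := by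
  induction l generalizing X K c with
  | nil => exact ⟨c, hc, fun s p hp => (hK s p hp).1⟩
  | cons s l ih =>
    change ∃ c : ℕ → Y, c p₀ = y₀ ∧ Good g S k c (force (X ||| ap S s X) fun X' => force (X' ^^^ X) fun D =>
      force (put k K s (D ||| ap S s D)) (tree S k l X'))
    simp only [force_eq]
    have hss : ∀ p, gen S s (gen S s p) = p := fun p => by rw [← Perm.mul_apply, hs, Perm.one_apply]
    refine ih _ _ (by simp [hX]) (fun q => if X.testBit q then c q else g s • c (gen S s q)) (by simp [hX, hc]) ?_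
    intro s' p hp
    rcases fld_put hp with h2 | ⟨rfl, h2⟩
    · obtain ⟨h3, h4, h5⟩ := hK _ _ h2
      simp [h3, h4, h5]
    · simp only [Nat.testBit_or, Nat.testBit_xor, h.ap, hss] at h2 ⊢
      cases h3 : X.testBit p <;> cases h4 : X.testBit (gen S s' p) <;> simp [h3, h4, ← mul_smul, hg] at h2 ⊢

theorem loops_spec {p s q : ℕ} {l : List ℕ} (h : (fld k (loops k p l) s).testBit q) : s ∈ l ∧ q = p := by
  induction l with
  | nil => exact absurd h (by simp [loops, fld_zero])
  | cons t l ih =>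
    rcases fld_put (show (fld k (put k (loops k p l) t (2 ^ p)) s).testBit q from h) with h1 | ⟨rfl, h1⟩
    · exact ⟨List.mem_cons_of_mem _ (ih h1).1, (ih h1).2⟩
    · rw [Nat.testBit_two_pow] at h1
      exact ⟨List.mem_cons_self .., (of_decide_eq_true h1).symm⟩

theorem tree_start (h : WF S k) (hg : ∀ s, g s * g s = 1) (hs : ∀ s, gen S s * gen S s = 1) {p₀ : ℕ} {y₀ : Y}
    {f : List ℕ} (hf : ∀ s ∈ f, g s • y₀ = y₀ ∧ gen S s p₀ = p₀) (l : List ℕ) :
    ∃ c : ℕ → Y, c p₀ = y₀ ∧ Good g S k c (tree S k l (Nat.pow 2 p₀) (loops k p₀ f)) := by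
  have h0 : (Nat.pow 2 p₀).testBit p₀ := Nat.testBit_two_pow_self
  refine tree_spec h hg hs l _ _ h0 (fun _ => y₀) rfl fun s p hp => ?_
  obtain ⟨h1, rfl⟩ := loops_spec hp
  exact ⟨(hf s h1).1, h0, by rw [(hf s h1).2]; exact h0⟩

theorem Good.full {c : ℕ → Y} {K n m : ℕ} (hK : Good g S k c K) (hf : full k n m K = true) :
    ∀ s < m, ∀ p < n, g s • c p = c (gen S s p) :=
  fun s hs p hp => hK s p (covers_spec (allLt_spec hf s hs) p hp)

end TC

end Cfsg.Agent.H4.BP
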