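import Cfsg.Agent.H4.Max

/-! Maximality of the standard subgroups of `PSL₂(q)`. -/

set_option autoImplicit false
set_option linter.unusedSectionVars false

namespace Cfsg.Agent.H4.Max

open MulAction Matrix Cfsg.Agent.H4.Mob Cfsg.Agent.H4.MobCard Cfsg.Agent.H4.Bar Cfsg.Agent.H4.Pair
  Cfsg.Agent.H4.Dick Cfsg.Agent.H4.Quat Cfsg.Agent.H4.Subf

variable {F : Type*} [Field F] [Finite F]

theorem char_prime (p : ℕ) [CharP F p] : p.Prime := CharP.char_is_prime F p

theorem not_pow_of_prime {p m r : ℕ} (hp : p.Prime) (hr : r.Prime) : p ≠ m ^ r := fun e =>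
  Nat.Prime.not_prime_pow' hr.one_lt.ne' (e ▸ hp)

theorem exists_fix_of_le_stab {B : Subgroup (PG F)} {x : P1 F} (h : B ≤ stabilizer (PG F) x) :
    ∃ z : P1 (Kb F), ∀ g ∈ B, g • z = z := by
  obtain ⟨k, rfl⟩ := exists_smul_inf x
  refine ⟨k • inf, fun g hg => ?_⟩
  rw [← mul_smul, smul_inf_eq_iff, mul_smul]
  exact h hg

theorem not_le_stab (h2 : (2 : F) ≠ 0) {a b : F} (hab : a * a + b * b = -1) {B : Subgroup (PG F)}
    (hi : qi ∈ B) (hj : qj hab ∈ B) (x : P1 F) : ¬ B ≤ stabilizer (PG F) x := fun h => by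
  obtain ⟨z, hz⟩ := exists_fix_of_le_stab h
  exact (k4 h2 hab).not_fix h2 z (hz _ hi) (hz _ hj)

theorem card_of_A4 {M : Subgroup (PG F)} (e : Nonempty (M ≃* alternatingGroup (Fin 4))) :
    Nat.card M = 12 := by obtain ⟨e⟩ := e; rw [Nat.card_congr e.toEquiv, Small.card_A4]

theorem card_of_S4 {M : Subgroup (PG F)} (e : Nonempty (M ≃* Equiv.Perm (Fin 4))) :
    Nat.card M = 24 := by obtain ⟨e⟩ := e; rw [Nat.card_congr e.toEquiv, Small.card_S4]

theorem card_of_A5 {M : Subgroup (PG F)} (e : Nonempty (M ≃* alternatingGroup (Fin 5))) :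
    Nat.card M = 60 := by obtain ⟨e⟩ := e; rw [Nat.card_congr e.toEquiv, Small.card_A5]

theorem card_dvd_two_mul (A : Subgroup (PG F)) : Nat.card A ∣ 2 * Nat.card ↥(LS F ⊓ A) := by
  by_cases h : A ≤ LS F
  · rw [inf_eq_right.2 h]; exact Dvd.intro_left _ rfl
  · rcases Nat.even_or_odd (Nat.card F) with he | ho
    · exact absurd (LS_eq_top F he ▸ le_top) h
    · rw [two_mul_card_inf (index_LS_odd F ho) h]

theorem mx_sub {E : Subfield F} {r : ℕ} (hr : r.Prime) (h : Nat.card F = Nat.card E ^ r)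
    (h3 : 3 ≤ Nat.card E) : Mx (LS F) (LS F ⊓ PGsub E) := by
  obtain ⟨p, hp⟩ := CharP.exists F
  have hpp := char_prime (F := F) p
  have h9 : 3 ^ 2 ≤ Nat.card F :=
    h ▸ (Nat.pow_le_pow_left h3 2).trans (Nat.pow_le_pow_right (by omega) hr.two_le)
  refine Mx.of_forall le_rfl inferInstance inf_le_left
    (fun e => not_LS_le_PGsub (ne_top_of_pow hr h) (e.trans inf_le_right)) fun M hB hM => ?_
  have hS : PSsub E ≤ M := (le_inf (PSsub_le_LS E) (PSsub_le E)).trans hB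
  have hq : Nat.card F ≠ p := fun e => not_pow_of_prime hpp hr (e.symm.trans h)
  rcases hM.classify (by omega) p with ⟨x, e⟩ | ⟨x, y, hxy, e⟩ | ⟨-, e, -⟩ | ⟨-, e, -⟩ |
    ⟨h2, -, ht, e, hA⟩ | ⟨g, E', s, hs, h', -, e⟩
  · exact absurd ((hS.trans e.le).trans inf_le_right) (not_PSsub_le_stab E x)
  · exact absurd ((hS.trans e.le).trans inf_le_right) (not_PSsub_le_Nor h3 hxy.ne)
  · exact absurd e hq
  · exact absurd e hq
  · exfalso
    have h4 : (3 : F) = 0 := ht.resolve_left fun ht =>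
      ht _ (hS (tr_mem_PSsub E.one_mem)) _ (tr_fixed one_ne_zero)
    have h5 : p = 3 := (Nat.prime_dvd_prime_iff_eq hpp Nat.prime_three).1
      ((CharP.cast_eq_zero_iff F p 3).1 (by exact_mod_cast h4))
    have h6 := (e.resolve_left hq).1
    rw [h5] at h6
    have h7 : r = 2 := by
      by_contra e
      have : 3 ^ 3 ≤ Nat.card F := h ▸ (Nat.pow_le_pow_left h3 3).trans
        (Nat.pow_le_pow_right (by omega) (by have := hr.two_le; omega))
      omega
    subst h7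
    have h8 : Nat.card E = 3 := Nat.pow_left_injective two_ne_zero (h.symm.trans h6)
    rw [inf_eq_right.2 (PGsub_le_LS h2 h)] at hB
    have := Subgroup.card_dvd_of_le hB
    rw [card_PGsub, h8, card_of_A5 hA] at this
    omega
  · have h1 : Nat.card E = Nat.card E' := card_eq_of_dvd hr hs h h' (by
      rw [← card_PGsub, ← card_PGsub]
      refine (card_dvd_two_mul _).trans (Nat.mul_dvd_mul_left 2 ((Subgroup.card_dvd_of_le hB).trans ?_))
      rw [← card_cj g, e]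
      exact Subgroup.card_dvd_of_le inf_le_right)
    have h2 : E = E' := by
      ext x; rw [mem_iff_pow, mem_iff_pow, h1]
    subst h2
    exact (Subgroup.eq_of_le_of_card_ge hB (by rw [← card_cj g, e])).ge

theorem mx_S4 (h2 : (2 : F) ≠ 0) {a b : F} (hab : a * a + b * b = -1) (hp : (Nat.card F).Prime)
    (h4 : 4 ≤ Nat.card F) (hs : IsSquare (2 : F)) : Mx (LS F) (N0 h2 hab) := by
  obtain ⟨p, _⟩ := CharP.exists F
  refine Mx.of_forall le_rfl inferInstance ((N0_le_LS h2 hab).2 hs)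
    (not_LS_le_of_card (card_N0_le h2 hab) h4 (by norm_num)) fun M hB hM => ?_
  have hc := Subgroup.card_dvd_of_le hB
  rw [card_N0] at hc
  rcases hM.classify h4 p with ⟨x, e⟩ | ⟨x, y, hxy, e⟩ | ⟨-, -, e, -⟩ | ⟨-, -, -, e⟩ |
    ⟨-, -, -, -, e⟩ | ⟨g, E', s, hs, h', -⟩
  · exact absurd ((hB.trans e.le).trans inf_le_right)
      (not_le_stab h2 hab (qi_N0 h2 hab) (qj_N0 h2 hab) x)
  · exact absurd ((hB.trans e.le).trans inf_le_right)
      (not_le_Nor h2 hab (qi_N0 h2 hab) (qw_N0 h2 hab) hxy.ne)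
  · exact absurd hs e
  · exact (Subgroup.eq_of_le_of_card_ge hB (by rw [card_of_S4 e, card_N0])).ge
  · rw [card_of_A5 e] at hc; omega
  · exact absurd h' (not_pow_of_prime hp hs)

theorem mx_A4 (h2 : (2 : F) ≠ 0) {a b : F} (hab : a * a + b * b = -1) (hp : (Nat.card F).Prime)
    (h4 : 4 ≤ Nat.card F) (hs : ¬ IsSquare (2 : F))
    (h5 : ¬ (Nat.card F % 5 = 1 ∨ Nat.card F % 5 = 4)) : Mx (LS F) (LS F ⊓ N0 h2 hab) := by
  obtain ⟨p, _⟩ := CharP.exists F
  refine Mx.of_forall le_rfl inferInstance inf_le_left (fun e =>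
    not_LS_le_of_card (card_N0_le h2 hab) h4 (by norm_num) (e.trans inf_le_right)) fun M hB hM => ?_
  rcases hM.classify h4 p with ⟨x, e⟩ | ⟨x, y, hxy, e⟩ | ⟨-, -, -, -, e⟩ | ⟨-, -, e, -⟩ |
    ⟨-, e, -⟩ | ⟨g, E', s, hs, h', -⟩
  · exact absurd ((hB.trans e.le).trans inf_le_right)
      (not_le_stab h2 hab (B := LS F ⊓ N0 h2 hab) ⟨qi_LS, qi_N0 h2 hab⟩ ⟨qj_LS hab, qj_N0 h2 hab⟩ x)
  · exact absurd ((hB.trans e.le).trans inf_le_right)
      (not_le_Nor h2 hab (B := LS F ⊓ N0 h2 hab) ⟨qi_LS, qi_N0 h2 hab⟩ ⟨qw_LS h2 hab, qw_N0 h2 hab⟩ hxy.ne)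
  · exact (Subgroup.eq_of_le_of_card_ge hB (by rw [card_of_A4 e, card_LS_N0 h2 hab hs])).ge
  · exact absurd (e.1 hM.le) hs
  · exact absurd e h5
  · exact absurd h' (not_pow_of_prime hp hs)

theorem exists_mx_A5 (h2 : (2 : F) ≠ 0) (p : ℕ) [CharP F p]
    (h : (Nat.card F = p ∧ (p % 5 = 1 ∨ p % 5 = 4)) ∨ (Nat.card F = p ^ 2 ∧ (p % 5 = 2 ∨ p % 5 = 3))) :
    ∃ M, Mx (LS F) M ∧ Nonempty (M ≃* alternatingGroup (Fin 5)) := by
  have hp := char_prime (F := F) p
  obtain ⟨a, b, hab, -⟩ := exists_ab (F := F)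
  have h5 : Nat.card F % 5 = 1 ∨ Nat.card F % 5 = 4 := by
    rcases h with ⟨e, h⟩ | ⟨e, h⟩
    · rwa [e]
    · rw [e, pow_two, Nat.mul_mod]
      rcases h with h | h <;> simp [h]
  obtain ⟨B, b1, b2, b3, b4, b5, r, hr, -, -, r1, r5, -⟩ := exists_B5 h2 hab h5
  obtain ⟨M, hB, hM⟩ := exists_mx le_rfl inferInstance b1 b2
  refine ⟨M, hM, ?_⟩
  have hc := five_dvd_of (hB hr) r1 r5
  have := Finite.one_lt_card (α := F)
  rcases hM.classify (by omega) p with ⟨x, e⟩ | ⟨x, y, hxy, e⟩ | ⟨-, -, -, -, e⟩ | ⟨-, -, -, e⟩ |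
    ⟨-, -, -, -, e⟩ | ⟨g, E, s, hs, h', h3, e⟩
  · exact absurd ((hB.trans e.le).trans inf_le_right) (not_le_stab h2 hab b3 b4 x)
  · exact absurd ((hB.trans e.le).trans inf_le_right) (not_le_Nor h2 hab b3 b5 hxy.ne)
  · rw [card_of_A4 e] at hc; omega
  · rw [card_of_S4 e] at hc; omega
  · exact e
  · exfalso
    obtain ⟨h6, h7⟩ := h.resolve_left fun e => not_pow_of_prime hp hs (e.1.symm.trans h')
    obtain ⟨k, hk, hE⟩ := (Nat.dvd_prime_pow hp).1
      (show Nat.card E ∣ p ^ 2 by rw [← h6, h']; exact dvd_pow_self _ hs.ne_zero)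
    have h8 : Nat.card E = p := by
      interval_cases k
      · rw [pow_zero] at hE; omega
      · simpa using hE
      · have := Nat.pow_lt_pow_right (show 1 < Nat.card E by omega) hs.one_lt
        rw [pow_one] at this
        omega
    rw [← card_cj g, e] at hc
    have := mod_five_of_dvd (q := p) (by
      rw [← h8, ← card_PGsub]; exact hc.trans (Subgroup.card_dvd_of_le inf_le_right))
      (by omega) hp.one_le
    omega

theorem mx_stab (x : P1 F) : Mx (LS F) (LS F ⊓ stabilizer (PG F) x) := by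
  obtain ⟨k, rfl⟩ := exists_smul_inf x
  have h : Mx (LS F) (LS F ⊓ stabilizer (PG F) (inf : P1 F)) := by
    refine ⟨le_rfl, inferInstance, inf_le_left, fun e =>
      not_PSsub_le_stab ⊤ inf (PSsub_top (F := F) ▸ e.trans inf_le_right), fun B h1 h2 h3 g hg => ?_⟩
    refine ⟨h2 hg, ?_⟩
    by_contra hg0
    obtain ⟨s, hs⟩ := exists_pt_of_ne hg0
    refine h3 fun m hm => ?_
    rcases P1_cases (m • (inf : P1 F)) with h | ⟨t, h⟩
    · exact h1 ⟨hm, h⟩
    · have h4 : tr (t - s) * g ∈ B := B.mul_mem (h1 ⟨tr_mem_LS _, tr_smul_inf _⟩) hg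
      refine (B.mul_mem_cancel_left (B.inv_mem h4)).1 (h1 ⟨(LS F).mul_mem ((LS F).inv_mem (h2 h4)) hm, ?_⟩)
      change (_ * m) • (inf : P1 F) = inf
      rw [mul_smul, h, inv_smul_eq_iff, mul_smul, hs]
      simp
  convert h.conj k using 1
  rw [cj_inf, cj_normal]
  congr 1
  ext g
  simp only [mem_cj, mem_stabilizer_iff, mul_smul, inv_smul_eq_iff]

theorem mx_dih (h2 : (2 : F) ≠ 0) (h5 : 5 ≤ Nat.card F) (h7 : Nat.card F ≠ 7) (h9 : Nat.card F ≠ 9)
    (h11 : Nat.card F ≠ 11) {x y : P1 (Kb F)} (hxy : IsPair x y) (h4 : Nat.card (Tor x y) ≠ 4) :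
    Mx (LS F) (LS F ⊓ Nor x y) := by
  obtain ⟨p, _⟩ := CharP.exists F
  have hp := char_prime (F := F) p
  have ho := Nat.odd_iff.1 (odd_of_two_ne h2)
  have hT := hxy.card_LS h2
  have hc := hxy.card
  have := isCyclic_Tor (F := F) hxy.ne
  obtain ⟨t, ht⟩ := (Subgroup.isCyclic_iff_exists_zpowers_eq_top (LS F ⊓ Tor x y)).1
    (Subgroup.isCyclic_of_le inf_le_right)
  have htT : t ∈ LS F ⊓ Tor x y := ht ▸ Subgroup.mem_zpowers t
  rw [← ht, Nat.card_zpowers] at hT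
  have key : ∀ n, n ≠ 0 → t ^ n = 1 → orderOf t ∣ n ∧ orderOf t ≤ n := fun n hn h =>
    ⟨orderOf_dvd_of_pow_eq_one h, orderOf_le_of_pow_eq_one (Nat.pos_of_ne_zero hn) h⟩
  have ht2 : t ^ 2 ≠ 1 := fun e => by have := key 2 two_ne_zero e; omega
  have ht1 : t ≠ 1 := fun e => ht2 (by simp [e])
  obtain ⟨s, hsL, hs⟩ := hxy.swap_LS
  have hsT : s ∉ Tor x y := fun e => hxy.ne ((mem_Tor.1 e).1.symm.trans hs.1)
  refine Mx.of_forall le_rfl inferInstance inf_le_left (fun e => not_PSsub_le_Nor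
    (by rw [card_top]; omega) hxy.ne (PSsub_top (F := F) ▸ e.trans inf_le_right)) fun M hB hM => ?_
  have htM : t ∈ M := hB ⟨htT.1, Tor_le_Nor x y htT.2⟩
  have hsM : s ∈ M := hB ⟨hsL, Or.inr hs⟩
  have hpow : ∀ {G : Type} [Group G] (e : M ≃* G) (n : ℕ), e ⟨t, htM⟩ ^ n = 1 → t ^ n = 1 :=
    fun e n h => by
      rw [← map_pow, e.map_eq_one_iff] at h
      exact congrArg Subtype.val h
  rcases hM.classify (by omega) p with ⟨z, e⟩ | ⟨x', y', hxy', e⟩ | ⟨-, -, -, -, ⟨e⟩⟩ |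
    ⟨-, -, h6, ⟨e⟩⟩ | ⟨-, h6, -, -, ⟨e⟩⟩ | ⟨g, E, r, hr, h', h3, e⟩
  · exfalso
    obtain ⟨z, hz⟩ := exists_fix_of_le_stab (e.le.trans inf_le_right)
    rcases fix_eq' ht1 hxy.ne htT.2.1 htT.2.2 (hz t htM) with rfl | rfl
    · exact hxy.ne ((hz s hsM).symm.trans hs.1)
    · exact hxy.ne (hs.2.symm.trans (hz s hsM))
  · have h1 := mul_self_mem_Tor ((e.le htM).2)
    rw [← pow_two] at h1
    have h3 := (Tor x y).pow_mem htT.2 2
    refine e.le.trans (inf_le_inf_left _ fun g hg => ?_)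
    rcases fix_eq' ht2 hxy.ne h3.1 h3.2 h1.1 with rfl | rfl <;>
      rcases fix_eq' ht2 hxy.ne h3.1 h3.2 h1.2 with rfl | rfl
    · exact absurd rfl hxy'.ne
    · exact hg
    · exact (mem_Nor.1 hg).imp And.symm And.symm
    · exact absurd rfl hxy'.ne
  · refine absurd (hpow e 2 (Small.A4_inv _ (e ⟨s, hsM⟩) ?_)) ht2
    rw [← map_inv, ← map_inv, ← map_mul, ← map_mul]
    exact congrArg e (Subtype.ext (conj_eq_inv hxy.ne (Or.inr hs) hsT htT.2))
  · exfalso
    have h8 := isSquare_two_iff.1 (h6.1 hM.le)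
    rcases Small.S4_pow (e ⟨t, htM⟩) with h | h <;> have := key _ (by norm_num) (hpow e _ h) <;> omega
  · exfalso
    rcases Small.A5_pow (e ⟨t, htM⟩) with h | h | h <;>
      have := key _ (by norm_num) (hpow e _ h) <;> omega
  · exfalso
    obtain ⟨u, hu⟩ := (e.le (conj_mem_cj.2 htM)).2
    have h1 : ∀ n, u ^ n = 1 → t ^ n = 1 := fun n h => by
      have := congrArg (ProjGenLinGroup.map (n := Fin 2) E.subtype) h
      rw [map_pow, hu, conj_pow, map_one] at this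
      simpa using this
    have h6 : orderOf t ≤ Nat.card E + 1 := by
      rcases pow_cases p u with h | h | h
      · have h6 := (key p hp.ne_zero (h1 _ h)).1
        have h8 : orderOf t = p := ((Nat.dvd_prime hp).1 h6).resolve_left (by omega)
        have := Fintype.ofFinite F
        obtain ⟨n, -, hn⟩ := FiniteField.card F p
        rw [← Nat.card_eq_fintype_card] at hn
        obtain ⟨k, hk⟩ : p ∣ Nat.card F := hn ▸ dvd_pow_self p n.ne_zero
        have h10 : p ∣ 1 := by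
          rcases hc with hc | hc
          · exact (Nat.dvd_add_right (Dvd.intro_left 2 rfl : p ∣ 2 * p)).1 ⟨k, by omega⟩
          · exact (Nat.dvd_add_right (Dvd.intro k rfl : p ∣ p * k)).1 ⟨2, by omega⟩
        exact absurd (Nat.dvd_one.1 h10) hp.one_lt.ne'
      · have := key _ (by omega) (h1 _ h); omega
      · exact (key _ (by omega) (h1 _ h)).2
    have h8 : Nat.card E ^ 2 ≤ Nat.card F := h' ▸ Nat.pow_le_pow_right (by omega) hr.two_le
    have h10 : Nat.card E = 3 := by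
      by_contra e
      have : 4 ≤ Nat.card E := by omega
      have : Nat.card E ^ 2 ≤ 2 * Nat.card E + 3 := by omega
      nlinarith
    rw [h10] at h' h6 h8
    omega

end Cfsg.Agent.H4.Max
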