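import Cfsg.Agent.H4.Bin
import Cfsg.Agent.H4.Max2

/-! Binary actions of `PSL₂(q)`. -/

set_option autoImplicit false
set_option linter.unusedSectionVars false

namespace Cfsg.Agent.H4.BinPSL

open MulAction Matrix Cfsg.Agent.H4.Mob Cfsg.Agent.H4.MobCard Cfsg.Agent.H4.Bar Cfsg.Agent.H4.Pair
  Cfsg.Agent.H4.Dick Cfsg.Agent.H4.Quat Cfsg.Agent.H4.Subf Cfsg.Agent.H4.Max Cfsg.Agent.H4.Bin

variable {F : Type*} [Field F] [Finite F]

theorem eq_one_of_odd {G : Type*} [Group G] [Finite G] {H : Subgroup G} (ho : Odd (Nat.card H))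
    {g : G} (hg : g ∈ H) (h : g * g = 1) : g = 1 := by
  have h1 := Subgroup.orderOf_dvd_natCard H hg
  have h2 : orderOf g ∣ 2 := orderOf_dvd_of_pow_eq_one (by rwa [pow_two])
  exact orderOf_eq_one_iff.1 (Nat.eq_one_of_dvd_coprimes (Nat.coprime_two_right.2 ho) h1 h2)

theorem exists_invol_of_even {G : Type*} [Group G] [Finite G] {H : Subgroup G}
    (he : Even (Nat.card H)) : ∃ s ∈ H, s ≠ 1 ∧ s * s = 1 := by
  have : Fact (Nat.Prime 2) := ⟨Nat.prime_two⟩
  obtain ⟨s, hs⟩ := exists_prime_orderOf_dvd_card' (G := H) 2 he.two_dvd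
  refine ⟨s, s.2, fun e => ?_, ?_⟩
  · rw [show s = 1 from Subtype.ext e, orderOf_one] at hs; omega
  · rw [← pow_two, ← hs, ← Subgroup.coe_pow, pow_orderOf_eq_one]; rfl

theorem even_of_two (h2 : (2 : F) = 0) : Even (Nat.card F) :=
  Nat.not_odd_iff_even.1 fun h => two_ne_of_odd h h2

theorem mem_LS_of_two (h2 : (2 : F) = 0) (g : PG F) : g ∈ LS F := by
  rw [LS_eq_top F (even_of_two h2)]; trivial

theorem exists_LS_conj {x y : P1 (Kb F)} (hxy : IsPair x y) {g : PG F} (hg : g ∈ Tor x y)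
    (k : PG F) : ∃ k' ∈ LS F, k' * g * k'⁻¹ = k * g * k⁻¹ := by
  by_cases hk : k ∈ LS F
  · exact ⟨k, hk, rfl⟩
  have h2 : (2 : F) ≠ 0 := fun e => hk (mem_LS_of_two e k)
  obtain ⟨t, ht, htL⟩ := SetLike.not_le_iff_exists.1 (hxy.not_le_LS h2)
  refine ⟨k * t, (Subgroup.mul_mem_iff_of_index_two (index_LS_odd F (odd_of_two_ne h2))).2
    (by simp [hk, htL]), ?_⟩
  rw [mul_assoc k, Tor_comm hxy.ne ht hg]; group

theorem exists_tr_one (h2 : (2 : F) = 0) {s : PG F} (h1 : s ≠ 1) (hs : s * s = 1) :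
    ∃ k : PG F, k * tr 1 * k⁻¹ = s := by
  rcases fixed_cases h1 with ⟨x, hx⟩ | ⟨x, y, hxy, hx, hy⟩
  · obtain ⟨k, b, hb, -, rfl⟩ := exists_conj_tr hx
    refine ⟨k * aff b 0 hb, ?_⟩
    have := aff_conj_tr (b := 0) hb 1
    rw [mul_one] at this
    rw [← this]; group
  · refine absurd (eq_one_of_odd (H := Tor x y) ?_ ⟨hx, hy⟩ hs) h1
    have := even_of_two h2
    have := Finite.one_lt_card (α := F)
    rcases IsPair.card ⟨hxy, s, h1, hx, hy⟩ with e | e <;> rw [e, Nat.odd_iff] <;>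
      rw [Nat.even_iff] at * <;> omega

theorem invol_conj : ∀ s ∈ LS F, ∀ t ∈ LS F, s ≠ 1 → s * s = 1 → t ≠ 1 → t * t = 1 →
    ∃ k ∈ LS F, k * s * k⁻¹ = t := by
  intro s hs t ht s1 ss t1 tt
  by_cases h2 : (2 : F) = 0
  · obtain ⟨k, rfl⟩ := exists_tr_one h2 s1 ss
    obtain ⟨l, rfl⟩ := exists_tr_one h2 t1 tt
    exact ⟨l * k⁻¹, mem_LS_of_two h2 _, by group⟩
  · obtain ⟨x, y, hxy, h⟩ := exists_pair_of_invol h2 s1 ss
    obtain ⟨a, b, c, e, rfl⟩ := exists_invol h2 hs s1 ss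
    obtain ⟨a', b', c', e', rfl⟩ := exists_invol h2 ht t1 tt
    obtain ⟨ε, hd, hg⟩ := exists_refl h2 e e'
    rw [← mul_inv_eq_iff_eq_mul] at hg
    exact hg ▸ exists_LS_conj ⟨hxy, _, s1, h⟩ h _

theorem not_bin_nonsplit {H : Subgroup (PG F)} (hL : H ≤ LS F) {x y : P1 (Kb F)} (hxy : IsPair x y)
    (hx : ¬ IsRat x) (hT : H ≤ Tor x y) {g : PG F} (hg : g ∈ H) (hg2 : g * g ≠ 1)
    (hg3 : (2 : F) ≠ 0 ∨ g ^ 3 ≠ 1) : ¬ BinG (LS F) H := by
  have hg1 : g ≠ 1 := fun e => hg2 (by simp [e])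
  have hy : ¬ IsRat y := fun hy => by
    obtain ⟨k, -, h2⟩ := hxy.symm.split hy
    exact hx (h2 ▸ IsRat.smul (by simpa using isRat_pt (0 : F)) k)
  have hr : ∀ z, IsRat z → g • z ≠ z := fun z hz e => by
    rcases fix_eq' hg1 hxy.ne (hT hg).1 (hT hg).2 e with rfl | rfl
    exacts [hx hz, hy hz]
  have comp : ∀ (a b c τ : F) (h : a * (τ - a) - b * c = 1), c ≠ 0 → ∃ k : PG F,
      mob a b c (τ - a) (h ▸ one_ne_zero) = k * mob 0 (-1) 1 τ (by simp) * k⁻¹ := by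
    intro a b c τ h hc
    refine ⟨mob 1 a 0 c (by simpa using hc), ?_⟩
    rw [eq_mul_inv_iff_mul_eq, mob_mul, mob_mul]
    exact mob_congr (by ring) (by linear_combination -h) (by ring) (by ring)
  obtain ⟨τ, h1, hirr, k, hk⟩ : ∃ τ : F, τ ≠ 1 ∧ (∀ u : F, u * (τ - u) ≠ 1) ∧
      ∃ k : PG F, g = k * mob 0 (-1) 1 τ (by simp) * k⁻¹ := by
    obtain ⟨a, b, c, d, h, rfl⟩ := exists_det_one (hL hg)
    have hc : c ≠ 0 := fun e => hr _ isRat_inf (inf_inf.2 e)
    have hirr : ∀ u : F, u * (a + d - u) ≠ 1 := fun u hu => hr _ (isRat_pt ((u - d) / c)) (pt_pt.2 (by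
      simp only [← map_mul, ← map_add]
      congr 1
      field_simp
      linear_combination hu - h))
    by_cases h1 : a + d = 1
    · refine ⟨-1, fun e => ?_, fun u hu => hirr (-u) (by rw [h1]; linear_combination hu), ?_⟩
      · refine hg3.elim (fun h2 => h2 (by linear_combination -e)) fun h3 => h3 ?_
        rw [pow_three, mob_mul, mob_mul, mob_eq_one]
        refine ⟨?_, ?_, ?_⟩ <;> grind
      · obtain ⟨k, hk⟩ := comp (-a) (-b) (-c) (-1) (by linear_combination h - a * h1) (by simpa using hc)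
        exact ⟨k, hk ▸ mob_eq_mob.2 ⟨-1, by ring, by ring, by ring, by linear_combination h1⟩⟩
    · obtain ⟨k, hk⟩ := comp a b c (a + d) (by linear_combination h) hc
      exact ⟨a + d, h1, hirr, k, hk ▸ mob_congr rfl rfl rfl (by ring)⟩
  have h0 : τ ≠ 0 := by
    rintro rfl
    refine hg2 ?_
    rw [hk, ← pow_two, conj_pow, pow_two, mob_mul, mob_eq_one.2 (by simp)]; simp
  have hm2 : τ + 2 ≠ 0 := fun e => hirr (-1) (by linear_combination -e)
  obtain ⟨u, v, huv⟩ : ∃ u v : F, u * (τ - u) - v * (v + τ * (τ - u) + τ) = 1 := by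
    by_cases h2 : (2 : F) = 0
    · obtain ⟨s, hs⟩ := exists_sq_of_two h2 (τ * τ + τ)
      exact ⟨s, 1, by linear_combination -hs + (s * τ - τ * τ - τ - 1) * h2⟩
    · have := Fintype.ofFinite F
      have h4 : 4 - τ ^ 2 ≠ 0 := fun e => by
        rcases mul_eq_zero.1 (show (τ + 2) * (τ - 2) = 0 by linear_combination -e) with h | h
        · exact hm2 h
        · exact hirr 1 (by linear_combination h)
      obtain ⟨X, v, h⟩ := FiniteField.exists_root_sum_quadratic (f := Polynomial.X ^ 2)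
        (g := Polynomial.C (4 - τ ^ 2) * Polynomial.X ^ 2 + Polynomial.C (2 * τ ^ 2 + 4 * τ) *
          Polynomial.X + Polynomial.C (4 - τ ^ 2)) (by simp) (Polynomial.degree_quadratic h4)
          (FiniteField.odd_card_of_char_ne_two (ringChar_ne h2))
      simp only [Polynomial.eval_add, Polynomial.eval_mul, Polynomial.eval_C, Polynomial.eval_pow,
        Polynomial.eval_X] at h
      refine ⟨(X + τ * v + τ) / 2, v, ?_⟩
      field_simp
      linear_combination -h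
  set w := v + τ * (τ - u) + τ with hw
  obtain ⟨k1, hk1⟩ := comp u v w τ huv fun e => hirr u (by rw [e] at huv; linear_combination huv)
  obtain ⟨k2, hk2⟩ := comp (-v) (u - v * τ) (u - τ) τ (by rw [hw] at huv; linear_combination huv)
    fun e => hirr τ (by
      have : u = τ := by linear_combination e
      subst this
      exact absurd (show -v * (u - -v) = 1 by rw [hw] at huv; linear_combination huv) (hirr _))
  set A : PG F := mob 0 (-1) 1 τ (by simp)
  set B : PG F := mob u v w (τ - u) (huv ▸ one_ne_zero)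
  have hBA : B * A = k2 * A * k2⁻¹ := by
    rw [← hk2, mob_mul, mob_eq_mob]
    exact ⟨-1, by ring, by ring, by ring, by rw [hw]; ring⟩
  intro hb
  have hb' := hb.conj k⁻¹
  have hA : A ∈ cj k⁻¹ H := by rwa [mem_cj, inv_inv, ← hk]
  have hP := hxy.smul k⁻¹
  have hT' : cj k⁻¹ H ≤ Tor (k⁻¹ • x) (k⁻¹ • y) := Tor_smul k⁻¹ x y ▸ cj_mono _ hT
  generalize k⁻¹ • x = x' at hP hT'
  generalize k⁻¹ • y = y' at hP hT'
  have hA1 : A ≠ 1 := by simp [A, mob_eq_one]
  obtain ⟨l1, hl1, e1⟩ := exists_LS_conj hP (hT' hA) k1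
  obtain ⟨l2, hl2, e2⟩ := exists_LS_conj hP (hT' hA) k2
  rw [← hk1] at e1
  rw [← hBA] at e2
  obtain ⟨z, z1, z2, z3⟩ := hb'.triple (by rwa [cj_le_iff, cj_normal]) hl1 hl2 hA (k := B⁻¹)
    (Subgroup.inv_mem _ (e1 ▸ conj_mem_cj.2 hA)) (by rw [inv_inv, ← e2]; exact conj_mem_cj.2 hA)
  have hN : l1 ∈ Nor x' y' := by
    by_cases hz : z = 1
    · rw [hz, inv_one, one_mul] at z3
      have h3 := conj_mem_Tor (mem_Nor_of_conj hP.ne (hT' hA) hA1 (hT' (mem_cj.1 z3))) (hT' hA)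
      rw [e2, (Tor x' y').mul_mem_cancel_right (hT' hA)] at h3
      exact mem_Nor_of_conj hP.ne h3 (by rw [← e1]; simpa using hA1) (by
        rw [← e1]; simpa [mul_assoc] using hT' hA)
    · exact mem_Nor_of_conj hP.ne (hT' z1) hz (hT' (mem_cj.1 z2))
  by_cases hl : l1 ∈ Tor x' y'
  · rw [Tor_comm hP.ne hl (hT' hA), mul_inv_cancel_right, mob_eq_mob] at e1
    obtain ⟨c, c1, c2, c3, c4⟩ := e1
    have : c = 1 := mul_right_cancel₀ h0 (by linear_combination -c4 - c1)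
    subst this
    have : (τ + 2) * (τ - 1) = 0 := by rw [hw] at c3; linear_combination c3 - c2 + τ * c1
    exact h1 (sub_eq_zero.1 ((mul_eq_zero.1 this).resolve_left hm2))
  · rw [conj_eq_inv hP.ne hN hl (hT' hA), mob_inv, mob_eq_mob] at e1
    obtain ⟨c, c1, c2, c3, c4⟩ := e1
    have : c = 1 := mul_right_cancel₀ h0 (by linear_combination -c4 - c1)
    subst this
    exact hm2 (by rw [hw] at c3; linear_combination c3 - c2 - τ * c4)

theorem not_bin_split {H : Subgroup (PG F)} (hL : H ≤ LS F) (hB : H ≤ stabilizer (PG F) (inf : P1 F))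
    (hU : ∀ b, tr b ∈ H → b = 0) {g : PG F} (hg : g ∈ H) (hg2 : g * g ≠ 1) : ¬ BinG (LS F) H := by
  intro hb
  have key : ∀ c : F, c ≠ 0 → ∀ z ∈ H, z ∈ cj (tr c) H → z = 1 := by
    intro c hc z h1 h2
    obtain ⟨a, b, ha, rfl⟩ := exists_aff_of_fix (hB h1)
    have h3 := H.mul_mem (mem_cj.1 h2) (H.inv_mem h1)
    have h4 : (tr c)⁻¹ * aff a b ha * tr c * (aff a b ha)⁻¹ = tr ((a - 1) * c) := by
      rw [tr_inv, mul_assoc (tr _), mul_assoc (tr _), aff_conj_tr, tr_mul]; congr 1; ring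
    rw [h4] at h3
    have h5 : a = 1 := sub_eq_zero.1 ((mul_eq_zero.1 (hU _ h3)).resolve_right hc)
    subst h5
    exact aff_eq_one.2 ⟨rfl, hU b h1⟩
  obtain ⟨a, b, ha, rfl⟩ := exists_aff_of_fix (hB hg)
  have h1 : 1 - a * a ≠ 0 := fun e => by
    have h2 := H.mul_mem hg hg
    rw [aff_mul] at h2 hg2
    have e : a * a = 1 := by linear_combination -e
    have : aff (a * a) (a * b + b) (mul_ne_zero ha ha) = tr (a * b + b) := aff_eq_aff.2 ⟨e, rfl⟩
    rw [this] at h2 hg2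
    exact hg2 (by rw [hU _ h2, tr_zero])
  have hg1 : aff a b ha ≠ 1 := fun e => hg2 (by simp [e])
  have h2 : (tr 1 * (aff a b ha)⁻¹ * (tr 1)⁻¹)⁻¹ * aff a b ha =
      tr ((1 - a) / (1 - a * a)) * (aff a b ha * aff a b ha) * (tr ((1 - a) / (1 - a * a)))⁻¹ := by
    simp only [_root_.mul_inv_rev, inv_inv, tr_inv]
    simp only [tr, aff_mul, aff_eq_aff]
    constructor
    · ring
    · have h1' : 1 - a ^ 2 ≠ 0 := by rwa [pow_two]
      field_simp; ring
  obtain ⟨z, z1, z2, z3⟩ := hb.triple hL (tr_mem_LS 1) (tr_mem_LS _) hg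
    (conj_mem_cj.2 (H.inv_mem hg)) (h2 ▸ conj_mem_cj.2 (H.mul_mem hg hg))
  rw [key 1 one_ne_zero z z1 z2, inv_one, one_mul] at z3
  refine hg1 (key _ (div_ne_zero (fun e => h1 ?_) h1) _ hg z3)
  linear_combination (1 + a) * e

theorem not_bin_unip (h2 : (2 : F) ≠ 0) {H : Subgroup (PG F)} (hL : H ≤ LS F)
    (hB : H ≤ stabilizer (PG F) (inf : P1 F)) (ho : Odd (Nat.card H)) {a : F} (ha : a ≠ 0)
    (hH : tr a ∈ H) : ¬ BinG (LS F) H := by
  intro hb
  have hH' : tr (-a) ∈ H := tr_inv a ▸ H.inv_mem hH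
  have d1 : (0 : F) * 0 - -(a / 2) * (2 / a) = 1 := by field_simp; ring
  obtain ⟨z, z1, z2, z3⟩ := hb.triple hL (x := mob 0 (-(a / 2)) (2 / a) 0 (d1 ▸ one_ne_zero))
    (y := mob 1 0 (-(2 / a)) 1 (by simp)) (mob_mem_range_toPGL.2 ⟨1, by rw [d1]; ring⟩)
    (mob_mem_range_toPGL.2 ⟨1, by ring⟩) hH (k := mob 1 0 (4 / a) 1 (by simp)) (by
      convert conj_mem_cj.2 hH' using 1
      rw [eq_mul_inv_iff_mul_eq, tr, aff, mob_mul, mob_mul]
      refine mob_congr ?_ ?_ ?_ ?_ <;> field_simp <;> ring) (by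
      convert conj_mem_cj.2 hH' using 1
      rw [eq_mul_inv_iff_mul_eq, mob_inv, tr, tr, aff, aff, mob_mul, mob_mul, mob_mul, mob_eq_mob]
      refine ⟨-1, ?_, ?_, ?_, ?_⟩ <;> field_simp <;> ring)
  have h3 := hB (mem_cj.1 z2)
  have h4 := hB (mem_cj.1 z3)
  rw [mem_stabilizer_iff, mul_smul, mul_smul, inv_smul_eq_iff] at h3 h4
  rw [(mob_smul_inf_eq_pt (t := 0)).2 (by simp)] at h3
  rw [(mob_smul_inf_eq_pt (t := -(a / 2))).2 (by field_simp), mul_smul, inv_smul_eq_iff] at h4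
  obtain ⟨d, hd, rfl⟩ := exists_dil_of_fix (hB z1) h3
  have h5 : d = -1 := by
    simp only [tr_smul_pt, aff_smul_pt, pt_inj] at h4
    field_simp at h4
    exact mul_left_cancel₀ ha (by linear_combination h4)
  subst h5
  have := eq_one_of_odd ho z1 (by rw [aff_mul, aff_eq_one]; simp)
  exact h2 (by linear_combination -(aff_eq_one.1 this).1)

theorem not_bin_four (h2 : (2 : F) = 0) {H : Subgroup (PG F)}
    (hB : H ≤ stabilizer (PG F) (inf : P1 F)) (hU : ∀ b, tr b ∈ H) {d b : F} {hd : d ≠ 0}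
    (hd1 : d ≠ 1) (hH : aff d b hd ∈ H) : ¬ BinG (LS F) H := by
  intro hb
  have hc : 1 + d ≠ 0 := fun e => hd1 (by linear_combination e - h2)
  have h1 : ∀ n β, aff (d ^ n) β (pow_ne_zero n hd) ∈ H := fun n β => by
    have h3 : aff d 0 hd ∈ H := by
      convert H.mul_mem (hU (-b)) hH using 1
      rw [tr, aff_mul, aff_eq_aff]; constructor <;> ring
    convert H.mul_mem (hU β) (aff_pow hd n ▸ H.pow_mem h3 n) using 1
    rw [tr, aff_mul, aff_eq_aff]; constructor <;> ring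
  obtain ⟨z, z1, z2⟩ := hb.ext (fun g _ => mem_LS_of_two h2 g)
    ![1, flip 1 one_ne_zero, mob 1 0 1 1 (by simp)] (fun _ => mem_LS_of_two h2 _)
    (y := mob 1 0 (1 + d) 1 (by simp)) (y' := mob d 0 (1 + d) d (by simpa using hd))
    (mem_LS_of_two h2 _) (mem_LS_of_two h2 _) (by
      intro i
      fin_cases i
      · refine ⟨_, by simpa [cj_one] using h1 2 d, ?_⟩
        convert hU 1 using 1
        rw [mul_assoc, inv_mul_eq_iff_eq_mul, tr, aff, aff, mob_mul, mob_mul, mob_eq_mob]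
        refine ⟨1, ?_, ?_, ?_, ?_⟩ <;> grind
      · refine ⟨_, conj_mem_cj.2 (hU ((1 + d) / d + (1 + d))), ?_⟩
        convert H.one_mem using 1
        simp only [Fin.mk_one, cons_val_one, cons_val_zero]
        rw [mul_assoc, inv_mul_eq_one, Mob.flip, mob_inv, tr, aff, mob_mul, mob_mul, mob_mul,
          mob_eq_mob]
        refine ⟨d⁻¹, ?_, ?_, ?_, ?_⟩ <;> grind
      · refine ⟨_, conj_mem_cj.2 (h1 4 (d + d ^ 3)), ?_⟩
        convert hU ((1 + d * d) / d) using 1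
        simp only [Fin.reduceFinMk, cons_val]
        rw [mul_assoc, inv_mul_eq_iff_eq_mul, mob_inv, tr, aff, aff, mob_mul, mob_mul, mob_mul,
          mob_mul, mob_eq_mob]
        refine ⟨d⁻¹, ?_, ?_, ?_, ?_⟩ <;> grind)
  have k : ∀ x : PG F, z ∈ cj x H → z • x • (inf : P1 F) = x • inf := fun x hx => by
    have := hB (mem_cj.1 hx)
    rwa [mem_stabilizer_iff, mul_smul, mul_smul, inv_smul_eq_iff] at this
  have k0 := k _ (z1 0)
  have k1 := k _ (z1 1)
  have k2 := k _ (z1 2)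
  simp only [cons_val_zero, one_smul, cons_val_one, flip_smul_inf, cons_val] at k0 k1 k2
  rw [(mob_smul_inf_eq_pt (t := 1)).2 (by simp)] at k2
  rw [eq_one_of_fix_std k0 k1 k2, mul_one] at z2
  have := hB z2
  rw [mem_stabilizer_iff, mob_inv, mob_mul, mob_smul_inf_eq_inf] at this
  exact hc (mul_self_eq_zero.1 (by linear_combination this + (1 + d) * h2))

theorem even_case (h2 : (2 : F) = 0) {H : Subgroup (PG F)} (hL : ¬ LS F ≤ H)
    (he : Even (Nat.card H)) (hb : BinG (LS F) H) : Nat.card H = Nat.card F := by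
  obtain ⟨s, hs, s1, ss⟩ := exists_invol_of_even he
  obtain ⟨k, rfl⟩ := exists_tr_one h2 s1 ss
  have hb' := hb.conj k⁻¹
  have hL' : ¬ LS F ≤ cj k⁻¹ H := by rwa [le_cj_iff, cj_normal]
  have h1 : tr 1 ∈ cj k⁻¹ H := by rwa [mem_cj, inv_inv]
  rw [← card_cj k⁻¹]
  generalize cj k⁻¹ H = M at hb' hL' h1
  have hsq : ∀ b : F, tr b * tr b = 1 := fun b => by
    rw [tr_mul, tr_eq_one]; linear_combination b * h2
  have hU : ∀ b, tr b ∈ M := fun b => hb'.invol_mem invol_conj (tr_mem_LS 1) (tr_mem_LS b) (by simp)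
    (hsq 1) (hsq b) (by rw [tr_mul, tr_mul, add_comm]) h1
  have hB : M ≤ stabilizer (PG F) (inf : P1 F) := fun g hg => by
    by_contra h
    obtain ⟨s, hs⟩ := exists_pt_of_ne h
    obtain ⟨E, h3, h4, -⟩ := recog h1 ⟨tr (-s) * g, M.mul_mem (hU _) hg, by simp [mul_smul, hs]⟩
      fun _ _ t _ => hU t
    rw [show E = ⊤ from eq_top_iff.2 fun a _ => (h3 a).2 (hU a), PSsub_top] at h4
    exact hL' h4
  refine (Nat.card_congr (Equiv.ofBijective (fun b : F => (⟨tr b, hU b⟩ : M))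
    ⟨fun a b h => tr_inj.1 (congrArg Subtype.val h), fun g => ?_⟩)).symm
  obtain ⟨d, b, hd, e⟩ := exists_aff_of_fix (hB g.2)
  by_cases hd1 : d = 1
  · subst hd1; exact ⟨b, Subtype.ext e.symm⟩
  · exact absurd hb' (not_bin_four h2 hB hU hd1 (e ▸ g.2))

theorem order_le_of_sub {t g : PG F} {E : Subfield F} (h : g * t * g⁻¹ ∈ PGsub E)
    (h3 : 3 ≤ orderOf t) (hc : 2 * orderOf t = Nat.card F - 1 ∨ 2 * orderOf t = Nat.card F + 1) :
    orderOf t ≤ Nat.card E + 1 := by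
  obtain ⟨p, _⟩ := CharP.exists F
  have hp := char_prime (F := F) p
  obtain ⟨u, hu⟩ := h
  have h1 : ∀ n, u ^ n = 1 → t ^ n = 1 := fun n h => by
    have := congrArg (ProjGenLinGroup.map (n := Fin 2) E.subtype) h
    rw [map_pow, hu, conj_pow, map_one] at this
    simpa using this
  have := Finite.one_lt_card (α := E)
  have := Finite.one_lt_card (α := F)
  rcases pow_cases p u with h | h | h
  · have h6 := orderOf_dvd_of_pow_eq_one (h1 _ h)
    have h8 : orderOf t = p := ((Nat.dvd_prime hp).1 h6).resolve_left (by omega)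
    have := Fintype.ofFinite F
    obtain ⟨n, -, hn⟩ := FiniteField.card F p
    rw [← Nat.card_eq_fintype_card] at hn
    obtain ⟨k, hk⟩ : p ∣ Nat.card F := hn ▸ dvd_pow_self p n.ne_zero
    have h10 : p ∣ 1 := by
      rcases hc with hc | hc
      · exact (Nat.dvd_add_right (Dvd.intro_left 2 rfl : p ∣ 2 * p)).1 ⟨k, by omega⟩
      · exact (Nat.dvd_add_right (Dvd.intro k rfl : p ∣ p * k)).1 ⟨2, by omega⟩
    exact absurd (Nat.dvd_one.1 h10) hp.one_lt.ne'
  · have := orderOf_le_of_pow_eq_one (by omega) (h1 _ h); omega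
  · exact orderOf_le_of_pow_eq_one (by omega) (h1 _ h)

theorem S4_nonsq : ∃ u : Equiv.Perm (Fin 4), u ≠ 1 ∧ u * u = 1 ∧ ∀ r, r * r ≠ u := by
  decide +kernel

theorem odd_even_case (h2 : (2 : F) ≠ 0) (h7 : 7 ≤ Nat.card F) {H : Subgroup (PG F)}
    (hL : H ≤ LS F) (hL' : ¬ LS F ≤ H) (he : Even (Nat.card H)) : ¬ BinG (LS F) H := by
  intro hb
  have key : ∀ u ∈ H, u ≠ 1 → u * u = 1 → ∃ x y, IsPair x y ∧ u ∈ Tor x y ∧ LS F ⊓ Nor x y ≤ H ∧
      ∃ r ∈ LS F ⊓ Tor x y, orderOf r = Nat.card ↥(LS F ⊓ Tor x y) ∧ 4 ≤ orderOf r ∧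
        orderOf r % 2 = 0 ∧ (orderOf r = 4 → r * r = u) ∧
        (2 * orderOf r = Nat.card F - 1 ∨ 2 * orderOf r = Nat.card F + 1) := by
    intro u hu u1 uu
    obtain ⟨x, y, hxy, huT⟩ := exists_pair_of_invol h2 u1 uu
    have hP : IsPair x y := ⟨hxy, u, u1, huT⟩
    have h1 : ∀ s ∈ LS F ⊓ Nor x y, s ∉ Tor x y → s ∈ H := fun s hs hsT =>
      hb.invol_mem invol_conj (hL hu) hs.1 u1 uu (mul_self_eq_one hxy hs.2 hsT) (by
        have := conj_eq_inv hxy hs.2 hsT huT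
        rw [inv_eq_of_mul_eq_one_right uu, mul_inv_eq_iff_eq_mul] at this
        exact this.symm) hu
    obtain ⟨s, hsL, hs⟩ := hP.swap_LS
    have hsT : s ∉ Tor x y := fun e => hxy ((mem_Tor.1 e).1.symm.trans hs.1)
    have := isCyclic_Tor (F := F) hxy
    obtain ⟨r, hr⟩ := (Subgroup.isCyclic_iff_exists_zpowers_eq_top (LS F ⊓ Tor x y)).1
      (Subgroup.isCyclic_of_le inf_le_right)
    have hrT : r ∈ LS F ⊓ Tor x y := hr ▸ Subgroup.mem_zpowers r
    have h3 : orderOf r = Nat.card ↥(LS F ⊓ Tor x y) := by rw [← hr, Nat.card_zpowers]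
    have h4 := hP.card_LS h2
    have h5 := hP.card
    have h6 : orderOf r % 2 = 0 := by
      by_contra e
      exact u1 (eq_one_of_odd (H := LS F ⊓ Tor x y) (Nat.odd_iff.2 (by omega)) ⟨hL hu, huT⟩ uu)
    refine ⟨x, y, hP, huT, fun g hg => ?_, r, hrT, h3, by omega, h6, fun e => ?_, by omega⟩
    · by_cases hgT : g ∈ Tor x y
      · exact (H.mul_mem_cancel_right (h1 s ⟨hsL, Or.inr hs⟩ hsT)).1 (h1 _
          ((LS F ⊓ Nor x y).mul_mem hg ⟨hsL, Or.inr hs⟩)
          fun e => hsT (((Tor x y).mul_mem_cancel_left hgT).1 e))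
      · exact h1 g hg hgT
    · refine eq_of_mul_self hxy ((Tor x y).mul_mem hrT.2 hrT.2) huT ?_ u1 ?_ uu
      · rw [← pow_two]; exact pow_ne_one_of_lt_orderOf two_ne_zero (by omega)
      · rw [← pow_two, ← pow_two, ← pow_mul, ← orderOf_dvd_iff_pow_eq_one, e]
  obtain ⟨t, ht, t1, tt⟩ := exists_invol_of_even he
  obtain ⟨x, y, hP, htT, hD, r, hr, r0, r1, r2, -, r4⟩ := key t ht t1 tt
  obtain ⟨s, hsL, hs⟩ := hP.swap_LS
  have hsT : s ∉ Tor x y := fun e => hP.ne ((mem_Tor.1 e).1.symm.trans hs.1)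
  have hsH : s ∈ H := hD ⟨hsL, Or.inr hs⟩
  have ss := mul_self_eq_one hP.ne (Or.inr hs) hsT
  have s1 : s ≠ 1 := fun e => hsT (e ▸ Subgroup.one_mem _)
  have hst : t ≠ s := fun e => hsT (e ▸ htT)
  have hpow : ∀ {G : Type} [Group G] (e : H ≃* G) (r : PG F) (hr : r ∈ H) (n : ℕ), 0 < n →
      e ⟨r, hr⟩ ^ n = 1 → orderOf r ≤ n := fun e r hr n hn h => by
    rw [← map_pow, e.map_eq_one_iff] at h
    exact orderOf_le_of_pow_eq_one hn (congrArg Subtype.val h)
  have hrH : r ∈ H := hD ⟨hr.1, Tor_le_Nor x y hr.2⟩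
  rcases dickson H with ⟨z, hz⟩ | ⟨x', y', hxy', hN⟩ | ⟨-, -, ⟨⟨e⟩⟩ | ⟨⟨e⟩⟩⟩ | ⟨-, -, -, ⟨e⟩⟩ |
    ⟨g, E, h3, h5, h6⟩
  · obtain ⟨z, hz⟩ := exists_fix_of_le_stab hz
    refine K4.not_fix h2 ⟨t1, s1, hst, tt, ss, ?_⟩ z (hz t ht) (hz s hsH)
    have := conj_eq_inv hP.ne (Or.inr hs) hsT htT
    rwa [inv_eq_of_mul_eq_one_right tt, mul_inv_eq_iff_eq_mul] at this
  · have k2 : ∀ u ∈ H, u ≠ 1 → u * u = 1 → u ∈ Tor x' y' := fun u hu u1 uu => by
      obtain ⟨x, y, hP, huT, hD, r, hr, -, r1, -⟩ := key u hu u1 uu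
      have h1 := mul_self_mem_Tor (hN (hD ⟨hr.1, Tor_le_Nor x y hr.2⟩))
      have h3 := (Tor x y).mul_mem hr.2 hr.2
      have h4 : r * r ≠ 1 := by
        rw [← pow_two]; exact pow_ne_one_of_lt_orderOf two_ne_zero (by omega)
      constructor
      · rcases fix_eq' h4 hP.ne h3.1 h3.2 h1.1 with rfl | rfl
        exacts [huT.1, huT.2]
      · rcases fix_eq' h4 hP.ne h3.1 h3.2 h1.2 with rfl | rfl
        exacts [huT.1, huT.2]
    exact hst (eq_of_mul_self hxy'.ne (k2 t ht t1 tt) (k2 s hsH s1 ss) t1 s1 tt ss)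
  · rcases Small.A4_pow (e ⟨r, hrH⟩) with h | h <;> have := hpow e r hrH _ (by norm_num) h <;> omega
  · obtain ⟨u, u1, uu, hu⟩ := S4_nonsq
    obtain ⟨x, y, -, -, hD, r, hr, -, r1, r2, r3, -⟩ := key (e.symm u) (e.symm u).2 (by simpa using u1)
      (by rw [← Subgroup.coe_mul, ← map_mul, uu]; simp)
    have hrH : r ∈ H := hD ⟨hr.1, Tor_le_Nor x y hr.2⟩
    refine hu (e ⟨r, hrH⟩) ?_
    rw [← map_mul, ← e.eq_symm_apply]
    refine Subtype.ext (r3 ?_)
    rcases Small.S4_pow (e ⟨r, hrH⟩) with h | h <;> have := hpow e r hrH _ (by norm_num) h <;> omega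
  · rcases Small.A5_pow (e ⟨r, hrH⟩) with h | h | h
    · have := hpow e r hrH _ (by norm_num) h; omega
    · have := hpow e r hrH _ (by norm_num) h; omega
    · rw [← map_pow, e.map_eq_one_iff] at h
      have h' : r ^ 5 = 1 := congrArg Subtype.val h
      rcases (Nat.dvd_prime Nat.prime_five).1 (orderOf_dvd_of_pow_eq_one h') with h | h <;> omega
  · have hE : E ≠ ⊤ := by
      rintro rfl
      rw [PSsub_top, le_cj_iff, cj_normal] at h5
      exact hL' h5
    obtain ⟨E', m, h8, hm, h'⟩ := exists_prime_over hE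
    have h9 : Nat.card E ^ 2 ≤ Nat.card F := h' ▸
      (Nat.pow_le_pow_left (Set.ncard_le_ncard (s := (E : Set F)) (t := E') h8) 2).trans
        (Nat.pow_le_pow_right Nat.card_pos hm.two_le)
    have h10 := order_le_of_sub (h6 (conj_mem_cj.2 hrH)) (by omega) r4
    have h11 : Nat.card E = 3 := by
      by_contra e
      have : 4 ≤ Nat.card E := by omega
      have : Nat.card E ^ 2 ≤ 2 * Nat.card E + 3 := by omega
      nlinarith
    rw [h11] at h9 h10
    have k2 : ∀ u ∈ H, u * u = 1 → g * u * g⁻¹ ∈ PSsub E := fun u hu uu => by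
      by_cases u1 : u = 1
      · simp [u1, (PSsub E).one_mem]
      obtain ⟨x, y, -, -, hD, r, hr, -, r1, r2, r3, r4⟩ := key u hu u1 uu
      obtain ⟨v, hv⟩ := h6 (conj_mem_cj.2 (hD ⟨hr.1, Tor_le_Nor x y hr.2⟩))
      refine ⟨v * v, mul_self_mem_LS v, ?_⟩
      rw [map_mul, hv, ← r3 (by omega)]; group
    have h12 : cj g (LS F ⊓ Nor x y) ≤ PSsub E := by
      rintro _ ⟨m, hm, rfl⟩
      by_cases hmT : m ∈ Tor x y
      · have := (PSsub E).mul_mem (k2 _ (H.mul_mem (hD hm) hsH) (mul_self_eq_one hP.ne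
          ((Nor x y).mul_mem hm.2 (Or.inr hs)) fun e =>
            hsT (((Tor x y).mul_mem_cancel_left hmT).1 e))) ((PSsub E).inv_mem (k2 s hsH ss))
        simpa [mul_assoc] using this
      · exact k2 m (hD hm) (mul_self_eq_one hP.ne hm.2 hmT)
    have h13 := Subgroup.card_dvd_of_le h12
    have h14 := card_PSsub h2 E
    rw [card_cj, card_dihedral hP.dihedral_LS, ← r0, show orderOf r = 4 by omega] at h13
    rw [h11] at h14
    omega

theorem odd_case {H : Subgroup (PG F)} (hL : H ≤ LS F) (h1 : H ≠ ⊥) (ho : Odd (Nat.card H))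
    (hb : BinG (LS F) H) : (2 : F) = 0 ∧ Nat.card H = 3 ∧ 3 ∣ Nat.card F + 1 := by
  have hfix : ∀ x : P1 F, ¬ H ≤ stabilizer (PG F) x := by
    intro x hx
    obtain ⟨k, rfl⟩ := exists_smul_inf x
    have hb' := hb.conj k⁻¹
    have hL' : cj k⁻¹ H ≤ LS F := by rwa [cj_le_iff, cj_normal]
    have hB : cj k⁻¹ H ≤ stabilizer (PG F) (inf : P1 F) := fun g hg => by
      have := hx (mem_cj.1 hg)
      rwa [mem_stabilizer_iff, inv_inv, mul_smul, inv_smul_smul, mul_smul, smul_left_cancel_iff] at this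
    have h1' : cj k⁻¹ H ≠ ⊥ := by rwa [Ne, ← Subgroup.card_eq_one, card_cj, Subgroup.card_eq_one]
    rw [← card_cj k⁻¹] at ho
    generalize cj k⁻¹ H = M at hb' hL' hB h1' ho
    by_cases hU : ∀ b, tr b ∈ M → b = 0
    · obtain ⟨⟨g, hg⟩, hg1⟩ := Subgroup.ne_bot_iff_exists_ne_one.1 h1'
      exact not_bin_split hL' hB hU hg (fun e => hg1 (Subtype.ext (eq_one_of_odd ho hg e))) hb'
    · push Not at hU
      obtain ⟨a, ha, ha0⟩ := hU
      refine not_bin_unip (fun h2 => ha0 (tr_eq_one.1 (eq_one_of_odd ho ha ?_))) hL' hB ho ha0 ha hb'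
      rw [tr_mul, tr_eq_one]; linear_combination a * h2
  have ho' := Nat.odd_iff.1 ho
  rcases dickson H with ⟨z, hz⟩ | ⟨x, y, hxy, hN⟩ | ⟨-, -, e | e⟩ | ⟨-, -, -, e⟩ | ⟨g, E, h3, h5, h6⟩
  · exact absurd hz (hfix z)
  · have hT : H ≤ Tor x y := fun g hg => by
      by_contra e
      exact e (eq_one_of_odd ho hg (mul_self_eq_one hxy.ne (hN hg) e) ▸ Subgroup.one_mem _)
    have hx : ¬ IsRat x := by
      rintro ⟨k, rfl⟩
      refine hfix (k • inf) fun g hg => ?_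
      rw [mem_stabilizer_iff, ← mul_smul, ← smul_inf_eq_iff, mul_smul]
      exact (hT hg).1
    have := isCyclic_Tor (F := F) hxy.ne
    obtain ⟨g, hg⟩ := (Subgroup.isCyclic_iff_exists_zpowers_eq_top H).1 (Subgroup.isCyclic_of_le hT)
    have hgH : g ∈ H := hg ▸ Subgroup.mem_zpowers g
    have hg1 : g ≠ 1 := by rintro rfl; exact h1 (by simpa using hg.symm)
    have h3 := mt (not_bin_nonsplit hL hxy hx hT hgH fun e => hg1 (eq_one_of_odd ho hgH e))
      (not_not.2 hb)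
    push Not at h3
    have : Fact (Nat.Prime 3) := ⟨Nat.prime_three⟩
    have h4 : Nat.card H = 3 := by rw [← hg, Nat.card_zpowers, orderOf_eq_prime h3.2 hg1]
    exact ⟨h3.1, h4, hxy.card_nonsplit hx ▸ h4 ▸ Subgroup.card_dvd_of_le hT⟩
  · rw [card_of_A4 e] at ho'; omega
  · rw [card_of_S4 e] at ho'; omega
  · rw [card_of_A5 e] at ho'; omega
  · rw [← card_cj g] at ho
    have := eq_one_of_odd ho (h5 (qi_mem (E := E))) (by simp [qi, mob_mul, mob_eq_one])
    simp [qi, mob_eq_one] at this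

theorem bin_of_sylow (h2 : (2 : F) = 0) {H : Subgroup (PG F)} (hc : Nat.card H = Nat.card F) :
    BinG (LS F) H := by
  let U : Subgroup (PG F) :=
    { carrier := {g | ∃ b, g = tr b}
      mul_mem' := by rintro _ _ ⟨a, rfl⟩ ⟨b, rfl⟩; exact ⟨_, tr_mul a b⟩
      one_mem' := ⟨0, tr_zero.symm⟩
      inv_mem' := by rintro _ ⟨a, rfl⟩; exact ⟨_, tr_inv a⟩ }
  have hU : Nat.card U = Nat.card F := (Nat.card_congr (Equiv.ofBijective
    (fun b : F => (⟨tr b, b, rfl⟩ : U)) ⟨fun a b h => tr_inj.1 (congrArg Subtype.val h), by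
      rintro ⟨_, b, rfl⟩; exact ⟨b, rfl⟩⟩)).symm
  have : CharP F 2 := (CharP.charP_iff_prime_eq_zero Nat.prime_two).2 (by exact_mod_cast h2)
  have := Fintype.ofFinite F
  obtain ⟨n, -, hn⟩ := FiniteField.card F 2
  rw [← Nat.card_eq_fintype_card] at hn
  obtain ⟨g, rfl⟩ := sylow_conj (H := ⊤) Nat.prime_two le_top le_top (hU.trans hn) (hc.trans hn) (by
    rw [Subgroup.card_top, card_PG, mul_assoc, mul_comm, mul_assoc, hn, pow_succ,
      Nat.mul_dvd_mul_iff_left (by positivity), ← hn]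
    have h3 := even_of_two h2
    have := Finite.one_lt_card (α := F)
    rw [Nat.prime_two.dvd_mul, Nat.even_iff] at *
    omega)
  refine BinG.conj (binG_of_triple (fun g _ => mem_LS_of_two h2 g) ?_) g
  rintro x - y - g k hg hk hgk hne
  refine triple_of_invol ?_ (fun h1 h3 h4 => ?_) hg hk hgk hne
  · rintro _ ⟨b, rfl⟩
    rw [tr_mul, tr_eq_one]; linear_combination b * h2
  obtain ⟨a, rfl⟩ := hg
  obtain ⟨_, ⟨b, rfl⟩, rfl⟩ := hk
  have h3 : x * tr b * x⁻¹ ≠ 1 := h3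
  have h4 : tr a * (x * tr b * x⁻¹) = x * tr b * x⁻¹ * tr a := h4
  have hb : b ≠ 0 := by simpa using h3
  have h5 : (x * tr b * x⁻¹) • (inf : P1 (Kb F)) ∈ fixedBy (P1 (Kb F)) (tr a) := by
    rw [mem_fixedBy, ← mul_smul, h4, mul_smul, tr_inf]
  rw [tr_fixed (by simpa using h1), Set.mem_singleton_iff, ← mem_fixedBy,
    (fixedBy_conj x _ _).2 (tr_fixed hb)] at h5
  obtain ⟨c, d, hc, rfl⟩ := exists_aff_of_fix (fix_inf_iff.1 h5.symm)
  refine (Subgroup.eq_of_le_of_card_ge ?_ (card_cj _ _).ge).symm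
  rintro _ ⟨_, ⟨e, rfl⟩, rfl⟩
  exact ⟨_, aff_conj_tr hc e⟩

theorem bin_of_three (h2 : (2 : F) = 0) {H : Subgroup (PG F)} (hc : Nat.card H = 3)
    (h3 : 3 ∣ Nat.card F + 1) : BinG (LS F) H := by
  refine binG_of_triple (fun g _ => mem_LS_of_two h2 g) ?_
  rintro x - y - g k hg hk hgk hne
  have key : ∀ z, ∀ g ∈ cj z H, g ^ 3 = 1 := fun z g hg =>
    orderOf_dvd_iff_pow_eq_one.1 (hc ▸ card_cj z H ▸ Subgroup.orderOf_dvd_natCard _ hg)
  have : Fact (Nat.Prime 3) := ⟨Nat.prime_three⟩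
  have gen : ∀ z, ∀ g ∈ cj z H, g ≠ 1 → Subgroup.zpowers g = cj z H := fun z g hg h1 =>
    Subgroup.eq_of_le_of_card_ge (Subgroup.zpowers_le_of_mem hg) (by
      rw [card_cj, hc, Nat.card_zpowers, orderOf_eq_prime (key z g hg) h1])
  by_cases h1 : g = 1
  · exact h1 ▸ Subgroup.one_mem _
  by_cases h4 : k = 1
  · simpa [h4] using hgk
  have hgH := gen 1 g (by rwa [cj_one]) h1
  rw [cj_one] at hgH
  refine absurd ?_ hne
  suffices k ∈ H by rw [← gen x k hk h4, gen 1 k (by rwa [cj_one]) h4, cj_one]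
  by_cases hu : g * k = 1
  · rw [eq_inv_of_mul_eq_one_right hu]; exact H.inv_mem hg
  have g3 := key 1 g (by rwa [cj_one])
  have k3 := key x k hk
  have h5 := key y _ hgk
  have hcomm : g⁻¹ * (g * k) * g * (g * k) = g * k * (g⁻¹ * (g * k) * g) := by
    have e1 : g * g = g⁻¹ := eq_inv_of_mul_eq_one_right (by rwa [← pow_three])
    have e2 : k * k = k⁻¹ := eq_inv_of_mul_eq_one_right (by rwa [← pow_three])
    calc _ = k * (g * g) * k := by group
      _ = k * g⁻¹ * k * ((k⁻¹ * g) ^ 3) := by rw [e1, h5, mul_one]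
      _ = g * k⁻¹ * g := by rw [pow_three]; group
      _ = _ := by rw [← e2]; group
  have ho : Odd (Nat.card H) := by rw [hc]; decide
  rcases fixed_cases hu with ⟨z, hz⟩ | ⟨z, z', hzz, hz, hz'⟩
  · exfalso
    have h6 : (g⁻¹ * (g * k) * g) • z ∈ fixedBy (P1 (Kb F)) (g * k) := by
      have : z ∈ fixedBy (P1 (Kb F)) (g * k) := by rw [hz]; rfl
      rw [mem_fixedBy, ← mul_smul, ← hcomm, mul_smul, this]
    rw [hz, Set.mem_singleton_iff, mul_smul, mul_smul, inv_smul_eq_iff, ← mem_fixedBy, hz] at h6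
    obtain ⟨l, rfl⟩ := isRat_of_fixed hz
    have h7 : g ∈ stabilizer (PG F) (l • (inf : P1 F)) := by
      rw [mem_stabilizer_iff, ← mul_smul, ← smul_inf_eq_iff, mul_smul]; exact h6
    have := Subgroup.orderOf_dvd_natCard _ h7
    rw [orderOf_eq_prime g3 h1, card_stab, Nat.prime_three.dvd_mul] at this
    have := Finite.one_lt_card (α := F)
    omega
  · have hT : g * k ∈ Tor z z' := ⟨hz, hz'⟩
    have hoT : Odd (Nat.card (Tor z z')) := by
      have := even_of_two h2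
      have := Finite.one_lt_card (α := F)
      rcases IsPair.card ⟨hzz, _, hu, hz, hz'⟩ with e | e <;> rw [e, Nat.odd_iff] <;>
        rw [Nat.even_iff] at * <;> omega
    have h6 : g⁻¹ * (g * k) * g ∈ Tor z z' := by
      by_contra e
      have := mul_self_eq_one hzz (mem_Nor_of_conj hzz hT hu (by
        rwa [mul_assoc, ← hcomm, inv_mul_cancel_left])) e
      refine hu (eq_one_of_odd hoT hT ?_)
      calc _ = g * (g⁻¹ * (g * k) * g * (g⁻¹ * (g * k) * g)) * g⁻¹ := by group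
        _ = 1 := by rw [this]; group
    have h7 : g ∈ Tor z z' := by
      by_contra e
      exact h1 (eq_one_of_odd ho hg (mul_self_eq_one hzz (mem_Nor_of_conj hzz hT hu h6) e))
    have h8 := ((Tor z z').mul_mem_cancel_left h7).1 hT
    have h9 : x⁻¹ * k * x ∈ Tor z z' := (hgH ▸ Subgroup.zpowers_le_of_mem h7 :) (mem_cj.1 hk)
    have h10 := mem_Nor_of_conj hzz h8 h4 h9
    by_cases hx : x ∈ Tor z z'
    · have := mem_cj.1 hk
      rwa [mul_assoc, Tor_comm hzz h8 hx, inv_mul_cancel_left] at this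
    · have := H.inv_mem (mem_cj.1 hk)
      rw [← conj_eq_inv hzz h10 hx h9] at this
      simpa [mul_assoc] using this

end Cfsg.Agent.H4.BinPSL
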