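import Cfsg.Agent.H4.BPTC

/-!
Identification of a group generated by involutions with a permutation group, along a chain of coset enumerations.
-/

set_option autoImplicit false

namespace Cfsg.Agent.H4.BP

open Equiv

theorem tbLor (a b i : ℕ) : (Nat.lor a b).testBit i = (a.testBit i || b.testBit i) := Nat.testBit_or a b i

theorem tbPow (r i : ℕ) : (Nat.pow 2 r).testBit i = decide (r = i) := Nat.testBit_two_pow

/-- the subgroup generated by some of the generators -/
def sub {Γ : Type*} [Group Γ] (g : ℕ → Γ) (J : List ℕ) : Subgroup Γ := Subgroup.closure {x | ∃ s ∈ J, x = g s}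

section
variable {Γ : Type*} [Group Γ] {g : ℕ → Γ} {J : List ℕ}

theorem sub_gen {s : ℕ} (h : s ∈ J) : g s ∈ sub g J := Subgroup.subset_closure ⟨s, h, rfl⟩

theorem sub_word {w : List ℕ} (h : ∀ s ∈ w, s ∈ J) : (w.map g).prod ∈ sub g J :=
  Subgroup.list_prod_mem _ fun x hx => by
    obtain ⟨a, ha, rfl⟩ := List.mem_map.1 hx
    exact sub_gen (h a ha)

theorem sub_le {H : Subgroup Γ} (h : ∀ s ∈ J, g s ∈ H) : sub g J ≤ H :=
  (Subgroup.closure_le _).2 fun _ ⟨s, hs, e⟩ => e ▸ h s hs

theorem exists_word (hg : ∀ s, g s * g s = 1) {x : Γ} (hx : x ∈ sub g J) :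
    ∃ w : List ℕ, (∀ s ∈ w, s ∈ J) ∧ x = (w.map g).prod := by
  induction hx using Subgroup.closure_induction with
  | mem x hx => obtain ⟨s, hs, rfl⟩ := hx; exact ⟨[s], by simpa using hs, by simp⟩
  | one => exact ⟨[], by simp, rfl⟩
  | mul x y _ _ hx hy =>
    obtain ⟨v, hv, rfl⟩ := hx
    obtain ⟨w, hw, rfl⟩ := hy
    exact ⟨v ++ w, fun s hs => (List.mem_append.1 hs).elim (hv s) (hw s), by simp⟩
  | inv x _ hx =>
    obtain ⟨v, hv, rfl⟩ := hx
    exact ⟨v.reverse, fun s hs => hv s (List.mem_reverse.1 hs), (prod_reverse hg v).symm⟩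

theorem map_word {Q : Type*} [Group Q] (φ : Γ →* Q) (w : List ℕ) :
    φ (w.map g).prod = (w.map fun s => φ (g s)).prod := by
  rw [map_list_prod, List.map_map]; rfl

theorem sub_map {Q : Type*} [Group Q] (φ : Γ →* Q) : (sub g J).map φ = sub (fun s => φ (g s)) J := by
  rw [sub, MonoidHom.map_closure, sub]
  congr 1
  ext x
  exact ⟨fun ⟨_, ⟨s, hs, e⟩, e'⟩ => ⟨s, hs, e ▸ e'.symm⟩, fun ⟨s, hs, e⟩ => ⟨_, ⟨s, hs, rfl⟩, e.symm⟩⟩

end

/-- the permutations preserving a set -/
def Stb (M : ℕ) : Subgroup (Perm ℕ) where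
  carrier := {x | ∀ i, M.testBit (x i) = M.testBit i}
  one_mem' := fun _ => rfl
  mul_mem' := fun {a b} ha hb i => by rw [Perm.mul_apply, ha, hb]
  inv_mem' := fun {a} ha i => by rw [← ha]; simp

theorem WF.stb {S : Nets} {k : ℕ} (h : WF S k) {w : List ℕ} {M : ℕ} : ev S w ∈ Stb M ↔ BP.apW S w M = M :=
  ⟨fun e => Nat.eq_of_testBit_eq fun i => by rw [h.apW, e i], fun e i => by rw [← h.apW, e]⟩

section
variable {G : Type*} [Group G] (g : ℕ → G) (S : Nets)

/-- the pairs of generators -/
noncomputable def pr (s : ℕ) : G × Perm ℕ := (g s, gen S s)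

/-- every relation between the permutations holds between the group elements -/
def Inj (J : List ℕ) : Prop := ∀ x ∈ sub (pr g S) J, x.2 = 1 → x.1 = 1

variable {g S}

theorem pr_word (w : List ℕ) : (w.map (pr g S)).prod = ((w.map g).prod, ev S w) := by
  induction w with
  | nil => rfl
  | cons s w ih => rw [List.map_cons, List.prod_cons, ih, ev_cons]; rfl

theorem Inj.rel {J : List ℕ} (h : Inj g S J) {w : List ℕ} (hw : ∀ s ∈ w, s ∈ J) (h1 : ev S w = 1) :
    (w.map g).prod = 1 := by
  have := h _ (sub_word hw)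
  rw [pr_word] at this
  exact this h1

theorem inj_nil : Inj g S [] := fun x hx _ => by
  rw [show x = 1 from (sub_le (H := ⊥) (by simp) hx :)]; rfl

theorem Inj.hom {J : List ℕ} (h : Inj g S J) :
    ∃ φ : sub (gen S) J →* G, ∀ s (hs : s ∈ J), φ ⟨_, sub_gen hs⟩ = g s := by
  have h0 : (sub (pr g S) J).map (MonoidHom.snd G (Perm ℕ)) = sub (gen S) J := sub_map _
  let f : sub (pr g S) J →* sub (gen S) J :=
    ((MonoidHom.snd G (Perm ℕ)).comp (sub (pr g S) J).subtype).codRestrict _ fun x => h0.le ⟨x.1, x.2, rfl⟩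
  have h1 : Function.Injective f := (injective_iff_map_eq_one _).2 fun x hx =>
    Subtype.ext (Prod.ext (h x x.2 (congrArg Subtype.val hx)) (congrArg Subtype.val hx))
  have h2 : Function.Surjective f := fun y => by
    obtain ⟨x, hx, e⟩ := h0.ge y.2
    exact ⟨⟨x, hx⟩, Subtype.ext e⟩
  let e := MulEquiv.ofBijective f ⟨h1, h2⟩
  refine ⟨((MonoidHom.fst G (Perm ℕ)).comp (sub (pr g S) J).subtype).comp e.symm.toMonoidHom, fun s hs => ?_⟩
  have : e.symm ⟨_, sub_gen hs⟩ = ⟨_, sub_gen hs⟩ := e.symm_apply_eq.2 rfl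
  simp only [MonoidHom.comp_apply, MulEquiv.coe_toMonoidHom, this]
  rfl

/-- the set of points of a list of representatives -/
noncomputable def repMask (reps : List (ℕ × List ℕ)) : ℕ :=
  List.rec (motive := fun _ => ℕ) 1 (fun a _ ih => Nat.lor (Nat.pow 2 a.1) ih) reps

theorem repMask_spec {reps : List (ℕ × List ℕ)} {p : ℕ} (h : (repMask reps).testBit p) :
    p = 0 ∨ ∃ a ∈ reps, p = a.1 := by
  induction reps with
  | nil => exact Or.inl (by simpa [repMask, Nat.testBit_one_eq_true_iff_self_eq_zero] using h)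
  | cons a l ih =>
    have : (Nat.lor (Nat.pow 2 a.1) (repMask l)).testBit p := h
    rw [tbLor, tbPow, Bool.or_eq_true, decide_eq_true_eq] at this
    rcases this with h1 | h1
    · exact Or.inr ⟨a, by simp, h1.symm⟩
    · exact (ih h1).imp id fun ⟨b, hb, e⟩ => ⟨b, by simp [hb], e⟩

/-- the checks on the table other than the enumeration -/
noncomputable def tabChk (S T : Nets) (k n : ℕ) (J J' : List ℕ) (M : ℕ) (reps : List (ℕ × List ℕ)) (rl : List ℕ) :
    Bool :=
  allLt (fun s => agree T k 0 [s, s]) T.length && J'.all (fun s => agree T k n [s]) &&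
    J.all (fun s => tb (apW T [s] (Nat.pow 2 0)) 0 && Nat.beq (apW S [s] M) M && J'.elem s) &&
    covers (reach T (J.map fun s => [s]) rl (repMask reps)) n &&
    reps.all (fun a => tb (apW T a.2 (Nat.pow 2 a.1)) 0 && a.2.all J'.elem && !Nat.beq (apW S a.2 M) M) &&
    Nat.ble 1 n

theorem step_inj {S T : Nets} {kS k n : ℕ} (hS : WF S kS) (hT : WF T k) (hg : ∀ s, g s * g s = 1)
    (hs : ∀ s, gen S s * gen S s = 1) {J J' : List ℕ} {M : ℕ} {reps : List (ℕ × List ℕ)} {rl : List ℕ}
    (hc : tabChk S T k n J J' M reps rl = true) {R : List (List ℕ)}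
    (hR : ∀ w ∈ R, (w.map g).prod = 1 ∧ ev S w = 1 ∧ ev T w = 1) {tl : List ℕ} {K : ℕ}
    (hK : ∀ c : ℕ → (G × Perm ℕ) ⧸ sub (pr g S) J, (∀ s, gen T s * gen T s = 1) → (∀ s, pr g S s * pr g S s = 1) →
      (∀ w ∈ R, IsRel (pr g S) T w) → Good (pr g S) T k c (tree T k tl (Nat.pow 2 0) (loops k 0 J)) →
      Good (pr g S) T k c K)
    (hf : (J'.all fun s => covers (fld k K s) n) = true) (hJ : Inj g S J) : Inj g S J' := by
  simp only [tabChk, Bool.and_eq_true, List.all_eq_true, Nat.beq_eq, List.elem_eq_mem, decide_eq_true_eq,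
    Bool.not_eq_true', Nat.ble_eq] at hc
  obtain ⟨⟨⟨⟨⟨c1, c2⟩, c3⟩, c4⟩, c5⟩, c6⟩ := hc
  have ht : ∀ s, gen T s * gen T s = 1 := fun s => by
    by_cases h : s < T.length
    · simpa using hT.eq_one (allLt_spec c1 s h)
    · rw [gen_of_le T s (by omega), one_mul]
  have hp : ∀ s, pr g S s * pr g S s = 1 := fun s => Prod.ext (hg s) (hs s)
  have hlt : ∀ s ∈ J', ∀ p < n, gen T s p < n := fun s h p hp => by simpa using Fx.lt (hT.agree (c2 s h)) hp
  have hfix : ∀ s ∈ J, pr g S s • ((1 : G × Perm ℕ) : _ ⧸ sub (pr g S) J) = (1 : G × Perm ℕ) := fun s h =>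
    QuotientGroup.eq.2 (by simpa using sub_gen h)
  obtain ⟨c, hc0, h0⟩ := tree_start hT hp ht (p₀ := 0) (f := J)
    (fun s h => ⟨hfix s h, by simpa using hT.pt (c3 s h).1.1⟩) tl
  have h1 := hK c ht hp (fun w hw => ⟨by rw [pr_word, (hR w hw).1, (hR w hw).2.1]; rfl, (hR w hw).2.2⟩) h0
  have h2 : ∀ s ∈ J', ∀ p < n, pr g S s • c p = c (gen T s p) := fun s h p hp =>
    h1 s p (covers_spec (List.all_eq_true.1 hf s h) p hp)
  have h3 : ∀ w : List ℕ, (∀ s ∈ w, s ∈ J') → ev T w 0 < n ∧ c (ev T w 0) = (w.map (pr g S)).prod := fun w hw => by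
    induction w with
    | nil => exact ⟨c6, hc0⟩
    | cons s w ih =>
      obtain ⟨h4, h5⟩ := ih fun t ht => hw t (List.mem_cons_of_mem _ ht)
      rw [ev_cons, Perm.mul_apply, ← h2 s (hw s (by simp)) _ h4, h5]
      exact ⟨hlt s (hw s (by simp)) _ h4, rfl⟩
  have h4 : sub (pr g S) J ≤ (Stb M).comap (MonoidHom.snd _ _) := sub_le fun s h => by
    have := hS.stb.2 (c3 s h).1.2
    rwa [ev_cons, ev_nil, mul_one] at this
  have h5 : ∀ p < n, p < n → ∀ z : G × Perm ℕ, z.2 ∈ Stb M → c p = z → z ∈ sub (pr g S) J := by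
    intro p hp
    refine hT.reach (P := fun p => p < n → ∀ z : G × Perm ℕ, z.2 ∈ Stb M → c p = z → z ∈ sub (pr g S) J)
      ?_ _ _ ?_ p (covers_spec c4 p hp)
    · intro w hw p h hp z hz e
      obtain ⟨s, hs, rfl⟩ := List.mem_map.1 hw
      rw [ev_cons, ev_nil, mul_one] at h
      have := h (hlt s (c3 s hs).2 p hp) (pr g S s * z) ((Stb M).mul_mem (h4 (sub_gen hs)) hz)
        (by rw [← h2 s (c3 s hs).2 p hp, e]; rfl)
      exact (Subgroup.mul_mem_cancel_left _ (sub_gen hs)).1 this
    · intro p hp _ z hz e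
      rcases repMask_spec hp with rfl | ⟨a, ha, rfl⟩
      · simpa using QuotientGroup.eq.1 (hc0.symm.trans e)
      · obtain ⟨⟨h6, h7⟩, h8⟩ := c5 a ha
        have h9 := (h3 a.2 h7).2
        rw [hT.pt h6, e, pr_word] at h9
        have h10 : ev S a.2 ∈ Stb M := by
          simpa using (Stb M).mul_mem hz (h4 (QuotientGroup.eq.1 h9))
        rw [hS.stb.1 h10, Nat.beq_refl] at h8
        cases h8
  intro x hx e
  obtain ⟨w, hw, rfl⟩ := exists_word hp hx
  exact hJ _ (h5 _ (h3 w hw).1 (h3 w hw).1 _ (e ▸ one_mem _) (h3 w hw).2) e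

/-- all checks for a small step -/
noncomputable def levChk (S T : Nets) (k n : ℕ) (J J' : List ℕ) (M : ℕ) (reps : List (ℕ × List ℕ)) (rl : List ℕ)
    (R : List (List ℕ)) (tl : List ℕ) (prog : List (ℕ × ℕ)) : Bool :=
  (T.all fun l => l.all (wf1 (2 ^ k))) && tabChk S T k n J J' M reps rl && R.all (agree T k 0) &&
    force (run T k R prog (tree T k tl (Nat.pow 2 0) (loops k 0 J))) fun K => J'.all fun s => covers (fld k K s) n

theorem lev_inj {S T : Nets} {kS k n : ℕ} (hS : WF S kS) (hg : ∀ s, g s * g s = 1)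
    (hs : ∀ s, gen S s * gen S s = 1) {J J' : List ℕ} {M : ℕ} {reps : List (ℕ × List ℕ)} {rl : List ℕ}
    {R : List (List ℕ)} {tl : List ℕ} {prog : List (ℕ × ℕ)}
    (hc : levChk S T k n J J' M reps rl R tl prog = true)
    (hR : ∀ w ∈ R, (w.map g).prod = 1 ∧ ev S w = 1) (hJ : Inj g S J) : Inj g S J' := by
  simp only [levChk, Bool.and_eq_true, force_eq] at hc
  obtain ⟨⟨⟨c1, c2⟩, c3⟩, c4⟩ := hc
  have hT : WF T k := c1
  exact step_inj hS hT hg hs c2
    (fun w hw => ⟨(hR w hw).1, (hR w hw).2, hT.eq_one (List.all_eq_true.1 c3 w hw)⟩)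
    (fun c ht hp h h0 => run_spec hT hp ht h prog h0) c4 hJ

end

/-! ### Rewriting with braid relations -/

/-- move the letter `s` to the front and delete it -/
noncomputable def del (C B : ℕ → ℕ → Bool) (n : ℕ) : ℕ → List ℕ → Option (List ℕ) :=
  Nat.rec (motive := fun _ => ℕ → List ℕ → Option (List ℕ)) (fun _ _ => none) (fun _ ih s v =>
    List.rec (motive := fun _ => Option (List ℕ)) none (fun t v _ =>
      Bool.rec (Option.rec (motive := fun _ => Option (List ℕ)) none (fun u =>
        Bool.rec (Bool.rec none (Option.rec (motive := fun _ => Option (List ℕ)) none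
          (fun u' => some (t :: s :: u')) (ih t u)) (B s t)) (some (t :: u)) (C s t)) (ih s v))
        (some v) (Nat.beq s t)) v) n

/-- reduce a word; letters from 16 on are to be cancelled -/
noncomputable def red (C B : ℕ → ℕ → Bool) (n : ℕ) (w : List ℕ) : Option (List ℕ) :=
  List.rec (motive := fun _ => Option (List ℕ)) (some []) (fun s _ ih =>
    Option.rec (motive := fun _ => Option (List ℕ)) none (fun v =>
      Bool.rec (some (s :: v)) (force (Nat.sub s 16) fun s => del C B n s v) (Nat.ble 16 s)) ih) w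

section
variable {Γ : Type*} [Group Γ] {g : ℕ → Γ} {C B : ℕ → ℕ → Bool}
  (hC : ∀ s t, C s t = true → g t * g s = g s * g t)
  (hB : ∀ s t, B s t = true → g t * (g s * g t) = g s * (g t * g s))

include hC hB in
theorem del_spec (n s : ℕ) (v u : List ℕ) (h : del C B n s v = some u) : (v.map g).prod = g s * (u.map g).prod := by
  induction n generalizing s v u with
  | zero => cases h
  | succ n ih =>
    cases v with
    | nil => cases h
    | cons t v =>
      change Bool.rec (Option.rec (motive := fun _ => Option (List ℕ)) none (fun u =>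
        Bool.rec (Bool.rec none (Option.rec (motive := fun _ => Option (List ℕ)) none
          (fun u' => some (t :: s :: u')) (del C B n t u)) (B s t)) (some (t :: u)) (C s t)) (del C B n s v))
        (some v) (Nat.beq s t) = some u at h
      rw [List.map_cons, List.prod_cons]
      cases h1 : Nat.beq s t
      · rw [h1] at h
        cases h2 : del C B n s v with
        | none => rw [h2] at h; cases h
        | some u1 =>
          rw [h2] at h
          rw [ih s v u1 h2]
          cases h3 : C s t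
          · rw [h3] at h
            cases h4 : B s t
            · rw [h4] at h; cases h
            · rw [h4] at h
              cases h5 : del C B n t u1 with
              | none => simp [h5] at h
              | some u2 =>
                obtain rfl : t :: s :: u2 = u := by simpa [h5] using h
                have := congrArg (· * (u2.map g).prod) (hB s t h4)
                simpa [ih t u1 u2 h5, mul_assoc] using this
          · rw [h3] at h
            obtain rfl : t :: u1 = u := Option.some.inj h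
            rw [← mul_assoc, hC s t h3, List.map_cons, List.prod_cons, mul_assoc]
      · rw [h1] at h
        rw [Nat.eq_of_beq_eq_true h1, Option.some.inj h]

include hC hB in
theorem red_spec (hg : ∀ s, g s * g s = 1) (n : ℕ) (w u : List ℕ) (h : red C B n w = some u) :
    ((w.map fun s => if 16 ≤ s then s - 16 else s).map g).prod = (u.map g).prod := by
  induction w generalizing u with
  | nil => cases h; rfl
  | cons s w ih =>
    change Option.rec (motive := fun _ => Option (List ℕ)) none (fun v =>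
      Bool.rec (some (s :: v)) (force (Nat.sub s 16) fun s => del C B n s v) (Nat.ble 16 s)) (red C B n w) = some u at h
    cases h1 : red C B n w with
    | none => rw [h1] at h; cases h
    | some v =>
      rw [h1] at h
      rw [List.map_cons, List.map_cons, List.prod_cons, ih v h1]
      cases h2 : Nat.ble 16 s
      · rw [h2] at h
        obtain rfl : s :: v = u := Option.some.inj h
        rw [if_neg (by rw [← Nat.ble_eq, h2]; simp)]; rfl
      · simp only [h2, force_eq] at h
        rw [if_pos (Nat.le_of_ble_eq_true h2), del_spec hC hB n _ v u h, ← mul_assoc]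
        exact (congrArg (· * _) (hg _)).trans (one_mul _)

end

end Cfsg.Agent.H4.BP
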