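import Cfsg.Agent.H8.Klein

/-! Klein's counting argument in the presence of elements with exactly one fixed point, including
the small cases. -/

set_option autoImplicit false

namespace Cfsg.Agent.H4.Klein2

open MulAction Finset Cfsg.Agent.H8.Klein

variable {G X : Type*} [Group G] [MulAction G X]

/-- Klein's counting argument. -/
theorem klein_wild [Finite G]
    (hfix : ∀ g : G, g ≠ 1 → (fixedBy X g).ncard = 1 ∨ (fixedBy X g).ncard = 2) {x₀ : X}
    {U : Subgroup G} (hU : ∀ g, g ∈ U ↔ g = 1 ∨ fixedBy X g = {x₀}) (h4 : 2 ≤ Nat.card U)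
    (hx : ∃ g : G, g • x₀ ≠ x₀) :
    (∃ y : X, (orbit G y).ncard = 2) ∨ (3 ≤ Nat.card U ∧ (orbit G x₀).ncard = Nat.card U + 1) ∨
      (Nat.card U = 3 ∧ Nat.card G = 60) := by
  classical
  have := Fintype.ofFinite G
  have hfin : {x : X | ∃ g : G, g ≠ 1 ∧ g • x = x}.Finite := by
    have : {x : X | ∃ g : G, g ≠ 1 ∧ g • x = x} = ⋃ g ∈ {g : G | g ≠ 1}, fixedBy X g := by
      ext x; simp
    rw [this]
    exact (Set.toFinite _).biUnion fun g hg => Set.finite_of_ncard_ne_zero (by
      rcases hfix g hg with h | h <;> omega)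
  let Y := hfin.toFinset
  have hY : ∀ x, x ∈ Y ↔ ∃ g : G, g ≠ 1 ∧ g • x = x := fun x => by simp [Y]
  have hYs : ∀ (h : G) x, x ∈ Y → h • x ∈ Y := by
    intro h x hx
    obtain ⟨g, hg, hgx⟩ := (hY x).1 hx
    refine (hY _).2 ⟨h * g * h⁻¹, fun h1 => hg ?_, by simp [mul_smul, hgx]⟩
    calc g = h⁻¹ * (h * g * h⁻¹) * h := by group
      _ = 1 := by rw [h1]; group
  have htot : ∑ x ∈ Y, cw G x = 2 * (Nat.card G - 1) := by
    unfold cw
    rw [Finset.sum_comm, Finset.sum_congr rfl fun g hg => sum_wt (hfix g (mem_erase.1 hg).1)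
      fun x hx => (hY x).2 ⟨g, (mem_erase.1 hg).1, hx⟩]
    rw [Finset.sum_const, card_erase_of_mem (mem_univ _), card_univ, Nat.card_eq_fintype_card,
      smul_eq_mul, mul_comm]
  let O : X → Finset X := fun x => (Set.finite_range fun g : G => g • x).toFinset
  have hO : ∀ x y, y ∈ O x ↔ y ∈ orbit G x := fun x y => by simp [O, mem_orbit_iff]
  have hOc : ∀ x, #(O x) = (orbit G x).ncard := fun x => by
    rw [← Set.ncard_coe_finset]; congr 1; ext y; simp [hO]
  have hOs : ∀ x, ∑ y ∈ O x, cw G y = (orbit G x).ncard * cw G x := fun x => by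
    rw [Finset.sum_congr rfl (g := fun _ => cw G x), Finset.sum_const, hOc, smul_eq_mul]
    intro y hy
    obtain ⟨g, rfl⟩ := (hO x y).1 hy
    exact cw_smul g x
  have hOY : ∀ x ∈ Y, O x ⊆ Y := fun x hx y hy => by
    obtain ⟨g, rfl⟩ := (hO x y).1 hy
    exact hYs g x hx
  have hOd : ∀ x y z, y ∉ O x → z ∈ O y → z ∉ O x := fun x y z h1 h2 h3 => h1 (by
    rw [hO] at h2 h3 ⊢
    rw [← orbit_eq_iff.2 h3, orbit_eq_iff.2 h2]; exact mem_orbit_self y)
  have he : ∀ y ∈ Y, 2 ≤ Nat.card (stabilizer G y) := fun y hy => by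
    obtain ⟨g, hg, hgy⟩ := (hY y).1 hy
    exact Finite.one_lt_card_iff_nontrivial.2 ⟨⟨⟨g, hgy⟩, 1, fun h => hg (congrArg Subtype.val h)⟩⟩
  have hu0 : #(univ.filter fun g : G => g ≠ 1 ∧ fixedBy X g = {x₀}) + 1 = Nat.card U := by
    have : (univ.filter fun g : G => g ≠ 1 ∧ fixedBy X g = {x₀}) =
        (univ.filter fun g : G => g ∈ U).erase 1 := by
      ext g
      simp only [mem_filter, mem_univ, true_and, mem_erase, hU]
      tauto
    rw [this, card_erase_add_one (by simp), Nat.card_eq_fintype_card, Fintype.card_subtype]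
  have hUS : Nat.card U ≤ Nat.card (stabilizer G x₀) := Subgroup.card_le_of_le fun g hg => by
    rcases (hU g).1 hg with h | h
    · rw [h]; exact Subgroup.one_mem _
    · have : x₀ ∈ fixedBy X g := by rw [h]; rfl
      exact this
  have hx0 : x₀ ∈ Y := by
    have : Nontrivial (stabilizer G x₀) := Finite.one_lt_card_iff_nontrivial.1 (by omega)
    obtain ⟨g, hg⟩ := exists_ne (1 : stabilizer G x₀)
    exact (hY _).2 ⟨g, fun h => hg (Subtype.ext h), g.2⟩
  have hm2 : 2 ≤ (orbit G x₀).ncard := by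
    obtain ⟨g, hg⟩ := hx
    rw [← hOc]
    exact Finset.one_lt_card.2 ⟨_, (hO _ _).2 (mem_orbit x₀ g), _, (hO _ _).2 (mem_orbit_self x₀), hg⟩
  have h1 := orbit_mul (G := G) x₀
  have h2 := cw_eq (G := G) x₀
  have h3 := stab_le hfix hU (by omega)
  obtain ⟨k, hk⟩ := orbit_mod hU
  have hR : ∑ x ∈ Y \ O x₀, cw G x + (orbit G x₀).ncard * cw G x₀ = 2 * (Nat.card G - 1) := by
    rw [← hOs, Finset.sum_sdiff (hOY _ hx0), htot]
  set m := (orbit G x₀).ncard
  set s := Nat.card (stabilizer G x₀)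
  set Q := Nat.card U
  set n := Nat.card G
  set R := ∑ x ∈ Y \ O x₀, cw G x
  obtain ⟨P, hP⟩ : ∃ P, Q = P + 2 := ⟨Q - 2, by omega⟩
  have hc0 : cw G x₀ = s + P := by omega
  have hn : 1 ≤ n := Nat.card_pos
  have hR' : R + m * P + 2 = n := by
    rw [hc0, mul_add, h1] at hR; omega
  have hsub : ∀ y ∈ Y \ O x₀, O y ⊆ Y \ O x₀ := fun y hy z hz =>
    mem_sdiff.2 ⟨hOY y (mem_sdiff.1 hy).1 hz, hOd _ _ _ (mem_sdiff.1 hy).2 hz⟩
  have hb : ∀ y ∈ Y, n ≤ 2 * ((orbit G y).ncard * cw G y) ∧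
      (orbit G y).ncard * cw G y + (orbit G y).ncard = n + (orbit G y).ncard *
        #(univ.filter fun g : G => g ≠ 1 ∧ fixedBy X g = {y}) := fun y hy => by
    have e1 : _ = n := orbit_mul (G := G) y
    have e2 := cw_eq (G := G) y
    have e3 := he y hy
    have e4 : (orbit G y).ncard * cw G y + (orbit G y).ncard = n + (orbit G y).ncard *
        #(univ.filter fun g : G => g ≠ 1 ∧ fixedBy X g = {y}) := by
      rw [← Nat.mul_succ, Nat.succ_eq_add_one, e2, mul_add, e1]
    refine ⟨?_, e4⟩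
    have : (orbit G y).ncard * 2 ≤ n := by rw [← e1]; exact Nat.mul_le_mul_left _ e3
    omega
  have hle : ∀ y ∈ Y \ O x₀, (orbit G y).ncard * cw G y ≤ R := fun y hy => by
    rw [← hOs]; exact Finset.sum_le_sum_of_subset (hsub y hy)
  have hne : (Y \ O x₀).Nonempty := by
    rw [Finset.nonempty_iff_ne_empty]
    intro h0
    have : R = 0 := by simp [R, h0]
    have : m * (P + 2) ≤ m * s := Nat.mul_le_mul_left _ (by omega)
    rw [mul_add] at this
    omega
  obtain ⟨y, hy⟩ := hne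
  have hall : Y \ O x₀ = O y := by
    refine Finset.Subset.antisymm (fun z hz => ?_) (hsub y hy)
    by_contra hzy
    have e1 : O y ∪ O z ⊆ Y \ O x₀ := union_subset (hsub y hy) (hsub z hz)
    have e2 := Finset.sum_le_sum_of_subset (f := cw G) e1
    rw [Finset.sum_union (Finset.disjoint_right.2 fun w hw => hOd _ _ _ hzy hw), hOs, hOs] at e2
    have e3 := (hb y (mem_sdiff.1 hy).1).1
    have e4 := (hb z (mem_sdiff.1 hz).1).1
    change _ ≤ R at e2
    omega
  have e1 : R = (orbit G y).ncard * cw G y := by rw [← hOs, ← hall]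
  have e2 := (hb y (mem_sdiff.1 hy).1).2
  have e3 : _ = n := orbit_mul (G := G) y
  set my := (orbit G y).ncard
  set e := Nat.card (stabilizer G y)
  set uy := #(univ.filter fun g : G => g ≠ 1 ∧ fixedBy X g = {y})
  have e4 : uy = 0 := by
    by_contra h0
    have : my * 1 ≤ my * uy := Nat.mul_le_mul_left _ (by omega)
    omega
  rw [e4] at e2
  have e5 : my = m * P + 2 := by omega
  rw [e5, ← h1] at e3
  have e6 : e * P < s := by
    by_contra h0
    have : m * s ≤ m * (e * P) := Nat.mul_le_mul_left _ (by omega)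
    have := he y (mem_sdiff.1 hy).1
    nlinarith
  by_cases hP0 : P = 0
  · exact Or.inl ⟨y, by change my = 2; rw [e5, hP0]; rfl⟩
  right
  have e7 : e ≤ P + 3 ∨ P = 1 := by
    by_contra h0
    have : (P + 4) * P ≤ e * P := Nat.mul_le_mul_right _ (by omega)
    rw [hP] at h3 h4
    simp only [Nat.add_succ_sub_one] at h3
    have : 2 ≤ P := by omega
    nlinarith
  obtain ⟨j, hj⟩ : ∃ j, s = e * P + j := ⟨s - e * P, by omega⟩
  have e8 : 2 * e = m * j := by rw [hj] at e3; nlinarith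
  have e9 : m = Q * k + 1 := by omega
  have hj0 : 1 ≤ j := by omega
  have hk1 : 1 ≤ k := by
    by_contra h0
    have : k = 0 := by omega
    rw [this] at e9; omega
  by_cases hP1 : P = 1
  · have hQ : Q = 3 := by omega
    rw [hQ] at h3 e9 ⊢
    rw [hP1] at hj
    have he2 := he y (mem_sdiff.1 hy).1
    have hj5 : j ≤ 4 := by omega
    have he5 : e ≤ 5 := by omega
    have : m * 1 ≤ m * j := Nat.mul_le_mul_left _ hj0
    have hm : m = 4 ∨ m = 7 ∨ m = 10 := by omega
    rcases hm with hm | hm | hm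
    · left; omega
    · rw [hm] at e8; omega
    · right
      rw [hm] at e8 h1
      omega
  left
  have e7 := e7.resolve_right hP1
  have hk2 : k ≤ 2 := by
    by_contra h0
    have : Q * 3 ≤ Q * k := Nat.mul_le_mul_left _ (by omega)
    have : m * 1 ≤ m * j := Nat.mul_le_mul_left _ hj0
    omega
  rcases (by omega : k = 1 ∨ k = 2) with rfl | rfl
  · omega
  · exfalso
    rcases (by omega : j = 1 ∨ 2 ≤ j) with rfl | hj2
    · omega
    · have : m * 2 ≤ m * j := Nat.mul_le_mul_left _ hj2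
      omega

end Cfsg.Agent.H4.Klein2
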