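import Cfsg.Agent.H4.Pair
import Cfsg.Agent.H4.Klein2
import Cfsg.Agent.H2.Klein

/-! Dickson's classification of the subgroups of `PGL₂(q)`. -/

set_option autoImplicit false
set_option linter.unusedSectionVars false

namespace Cfsg.Agent.H4.Dick

open MulAction Matrix Cfsg.Agent.H4.Mob Cfsg.Agent.H4.MobCard Cfsg.Agent.H4.Bar Cfsg.Agent.H4.Pair

variable {F : Type*} [Field F]

/-- `PGL₂` of a subfield -/
noncomputable def PGsub (E : Subfield F) : Subgroup (PG F) :=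
  (ProjGenLinGroup.map (n := Fin 2) E.subtype).range

/-- `PSL₂` of a subfield -/
noncomputable def PSsub (E : Subfield F) : Subgroup (PG F) :=
  (LS E).map (ProjGenLinGroup.map (n := Fin 2) E.subtype)

/-- the isomorphism onto the subfield subgroup -/
noncomputable def pgSubEquiv (E : Subfield F) : PG E ≃* PGsub E :=
  MonoidHom.ofInjective (map_injective _)

/-- the isomorphism onto the subfield subgroup -/
noncomputable def psSubEquiv (E : Subfield F) : PS E ≃* PSsub E :=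
  (psEquiv E).trans ((LS E).equivMapOfInjective _ (map_injective _))

theorem PSsub_le (E : Subfield F) : PSsub E ≤ PGsub E := Subgroup.map_le_range _ _

theorem PSsub_le_LS (E : Subfield F) : PSsub E ≤ LS F := by
  rintro _ ⟨g, hg, rfl⟩
  exact map_mem_LS _ hg

theorem mob_mem_PGsub {E : Subfield F} {a b c d : F} {h : a * d - b * c ≠ 0} (ha : a ∈ E)
    (hb : b ∈ E) (hc : c ∈ E) (hd : d ∈ E) : mob a b c d h ∈ PGsub E :=
  ⟨mob ⟨a, ha⟩ ⟨b, hb⟩ ⟨c, hc⟩ ⟨d, hd⟩ fun e => h (congrArg Subtype.val e), by rw [map_mob]; rfl⟩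

theorem exists_of_mem_PGsub {E : Subfield F} {g : PG F} (hg : g ∈ PGsub E) :
    ∃ a b c d h, a ∈ E ∧ b ∈ E ∧ c ∈ E ∧ d ∈ E ∧ g = mob a b c d h := by
  obtain ⟨g, rfl⟩ := hg
  obtain ⟨a, b, c, d, h, rfl⟩ := exists_mob g
  exact ⟨_, _, _, _, _, a.2, b.2, c.2, d.2, map_mob _ h⟩

theorem mob_mem_PSsub {E : Subfield F} {a b c d s : F} {h : a * d - b * c ≠ 0} (ha : a ∈ E)
    (hb : b ∈ E) (hc : c ∈ E) (hd : d ∈ E) (hs : s ∈ E) (e : a * d - b * c = s * s) :
    mob a b c d h ∈ PSsub E :=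
  ⟨mob ⟨a, ha⟩ ⟨b, hb⟩ ⟨c, hc⟩ ⟨d, hd⟩ fun e => h (congrArg Subtype.val e),
    mob_mem_range_toPGL.2 ⟨⟨s, hs⟩, Subtype.ext e⟩, by rw [map_mob]; rfl⟩

theorem exists_det_one {g : PG F} (hg : g ∈ LS F) :
    ∃ a b c d, ∃ h : a * d - b * c = 1, g = mob a b c d (h ▸ one_ne_zero) := by
  obtain ⟨a, b, c, d, h, rfl⟩ := exists_mob g
  obtain ⟨s, hs⟩ := mob_mem_range_toPGL.1 hg
  have hs0 : s ≠ 0 := fun e => h (by rw [hs, e, mul_zero])
  refine ⟨s⁻¹ * a, s⁻¹ * b, s⁻¹ * c, s⁻¹ * d, ?_, mob_eq_mob.2 ⟨s⁻¹, rfl, rfl, rfl, rfl⟩⟩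
  field_simp
  linear_combination hs

theorem exists_of_mem_PSsub {E : Subfield F} {g : PG F} (hg : g ∈ PSsub E) :
    ∃ a b c d, ∃ h : a * d - b * c = 1, a ∈ E ∧ b ∈ E ∧ c ∈ E ∧ d ∈ E ∧
      g = mob a b c d (h ▸ one_ne_zero) := by
  obtain ⟨g, hg, rfl⟩ := hg
  obtain ⟨a, b, c, d, h, rfl⟩ := exists_det_one hg
  exact ⟨_, _, _, _, congrArg Subtype.val h, a.2, b.2, c.2, d.2, map_mob _ _⟩

theorem PGsub_mono {E E' : Subfield F} (h : E ≤ E') : PGsub E ≤ PGsub E' := fun g hg => by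
  obtain ⟨a, b, c, d, h', ha, hb, hc, hd, rfl⟩ := exists_of_mem_PGsub hg
  exact mob_mem_PGsub (h ha) (h hb) (h hc) (h hd)

theorem PSsub_top : PSsub (⊤ : Subfield F) = LS F := by
  refine le_antisymm (PSsub_le_LS _) fun g hg => ?_
  obtain ⟨a, b, c, d, h, rfl⟩ := exists_det_one hg
  exact mob_mem_PSsub (s := 1) trivial trivial trivial trivial trivial (by rw [h, mul_one])

theorem tr_mem_PSsub {E : Subfield F} {b : F} (hb : b ∈ E) : tr b ∈ PSsub E :=
  mob_mem_PSsub (s := 1) E.one_mem hb E.zero_mem E.one_mem E.one_mem (by ring)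

theorem mem_of_tr_mem {E : Subfield F} {b : F} (hb : tr b ∈ PGsub E) : b ∈ E := by
  obtain ⟨a, b', c, d, h, ha, hb', -, -, e⟩ := exists_of_mem_PGsub hb
  obtain ⟨u, h1, h2, h3, h4⟩ := mob_eq_mob.1 e
  have hu : u ≠ 0 := fun e => h (by rw [h1, h2, e]; ring)
  have : b = b' / a := by rw [h1, h2]; field_simp
  exact this ▸ E.div_mem hb' ha

theorem not_LS_le_PGsub {E : Subfield F} (hE : E ≠ ⊤) : ¬ LS F ≤ PGsub E := fun h =>
  hE (eq_top_iff.2 fun b _ => mem_of_tr_mem (h (tr_mem_LS b)))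

theorem PSsub_le_of_gens {E : Subfield F} {M : Subgroup (PG F)} (h1 : ∀ b ∈ E, tr b ∈ M)
    (h2 : ∀ c ∈ E, mob 1 0 c 1 (by simp) ∈ M) : PSsub E ≤ M := by
  have key : ∀ a b c d (h : a * d - b * c = 1), a ∈ E → c ∈ E → d ∈ E → c ≠ 0 →
      mob a b c d (h ▸ one_ne_zero) ∈ M := by
    intro a b c d h ha hc hd hc0
    have := M.mul_mem (M.mul_mem (h1 _ (E.div_mem (E.sub_mem ha E.one_mem) hc)) (h2 c hc))
      (h1 _ (E.div_mem (E.sub_mem hd E.one_mem) hc))
    convert this using 1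
    simp only [tr, aff, mob_mul]
    refine mob_congr ?_ ?_ ?_ ?_ <;> field_simp
    · ring
    · linear_combination -h
    · ring
    · ring
  intro g hg
  obtain ⟨a, b, c, d, h, ha, hb, hc, hd, rfl⟩ := exists_of_mem_PSsub hg
  by_cases hc0 : c = 0
  · subst hc0
    have ha0 : a ≠ 0 := fun e => by simp [e] at h
    have := M.mul_mem (h2 (-1) (E.neg_mem E.one_mem)) (key a b a (b + d) (by linear_combination h)
      ha ha (E.add_mem hb hd) ha0)
    convert this using 1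
    rw [mob_mul]
    refine mob_congr ?_ ?_ ?_ ?_ <;> ring
  · exact key a b c d h ha hc hd hc0

/-- the translations in a subgroup -/
def trs (M : Subgroup (PG F)) : AddSubgroup F where
  carrier := {b | tr b ∈ M}
  add_mem' := fun {a b} ha hb => by
    change tr (a + b) ∈ M
    rw [← tr_mul]; exact M.mul_mem ha hb
  zero_mem' := by change tr 0 ∈ M; rw [tr_zero]; exact M.one_mem
  neg_mem' := fun {a} ha => by
    change tr (-a) ∈ M
    rw [← tr_inv]; exact M.inv_mem ha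

theorem subfield_of_hua [Finite F] (U : AddSubgroup F) (h1 : (1 : F) ∈ U) {γ : F} (hγ : γ ≠ 0)
    (hi : ∀ u ∈ U, γ / u ∈ U) : ∃ E : Subfield F, ∀ a, a ∈ E ↔ a ∈ U := by
  have hua : ∀ a ∈ U, ∀ b ∈ U, a * a / b ∈ U := by
    intro a ha b hb
    by_cases ha0 : a = 0
    · simp [ha0]
    by_cases hb0 : b = 0
    · simp [hb0]
    by_cases hab : b - a = 0
    · rw [sub_eq_zero.1 hab, mul_div_assoc, div_self ha0, mul_one]; exact ha
    have := U.sub_mem ha (hi _ (U.add_mem (hi a ha) (hi _ (U.sub_mem hb ha))))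
    convert this using 1
    have : γ / a + γ / (b - a) = γ * b / (a * (b - a)) := by field_simp; ring
    rw [this]
    field_simp
    ring
  have hinv : ∀ b ∈ U, b⁻¹ ∈ U := fun b hb => by simpa using hua 1 h1 b hb
  have key : ∀ a ∈ U, ∀ c ∈ U, a * a * c ∈ U := fun a ha c hc => by
    simpa using hua a ha _ (hinv c hc)
  have hmul : ∀ b ∈ U, ∀ c ∈ U, b * c ∈ U := by
    intro b hb c hc
    by_cases h2 : (2 : F) = 0
    · let f : U → U := fun x => ⟨x * x * 1, key x x.2 1 h1⟩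
      have hf : Function.Injective f := fun x y h => by
        have h : (x : F) * x * 1 = y * y * 1 := congrArg Subtype.val h
        have : ((x : F) - y) * (x - y) = 0 := by linear_combination h + (y * y - x * y) * h2
        exact Subtype.ext (sub_eq_zero.1 (mul_self_eq_zero.1 this))
      obtain ⟨x, hx⟩ := Finite.surjective_of_injective hf ⟨b, hb⟩
      have hx : (x : F) * x * 1 = b := congrArg Subtype.val hx
      have := key x x.2 c hc
      rwa [← mul_one ((x : F) * x), hx] at this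
    · have h3 := U.sub_mem (U.sub_mem (key _ (U.add_mem hb h1) c hc) (key b hb c hc)) hc
      have := Fintype.ofFinite F
      have h5 := U.nsmul_mem h3 (2 ^ (Fintype.card F - 2))
      have h6 := FiniteField.pow_card_sub_one_eq_one _ h2
      have h7 : Fintype.card F - 1 = Fintype.card F - 2 + 1 := by
        have := Fintype.one_lt_card (α := F); omega
      rw [h7, pow_succ] at h6
      convert h5 using 1
      rw [nsmul_eq_mul, Nat.cast_pow, Nat.cast_ofNat]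
      linear_combination (-(b * c)) * h6
  exact ⟨{ carrier := U, mul_mem' := fun ha hb => hmul _ ha _ hb, one_mem' := h1
           add_mem' := U.add_mem, zero_mem' := U.zero_mem, neg_mem' := U.neg_mem
           inv_mem' := hinv }, fun _ => Iff.rfl⟩

theorem recog [Finite F] {M : Subgroup (PG F)} (h1 : tr 1 ∈ M)
    (h0 : ∃ g ∈ M, g • (inf : P1 F) = pt 0)
    (ho : ∀ g ∈ M, ∀ t, g • (inf : P1 F) = pt t → tr t ∈ M) :
    ∃ E : Subfield F, (∀ a, a ∈ E ↔ tr a ∈ M) ∧ PSsub E ≤ M ∧ M ≤ PGsub E := by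
  obtain ⟨g, hg, hg0⟩ := h0
  obtain ⟨t, ht⟩ := exists_pt_of_ne (z := g⁻¹ • (inf : P1 F)) fun e => by
    rw [inv_smul_eq_iff, hg0] at e; simp at e
  have htM := ho _ (M.inv_mem hg) t ht
  obtain ⟨γ, hγ, hw⟩ := exists_flip_of_swap (g := g * tr t) (by simp [mul_smul, hg0])
    (by rw [mul_smul, tr_smul_pt, zero_add, ← ht, smul_inv_smul])
  have hwM : flip γ hγ ∈ M := hw ▸ M.mul_mem hg htM
  have hi : ∀ u ∈ trs M, γ / u ∈ trs M := fun u hu => by
    by_cases hu0 : u = 0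
    · simp [hu0]
    exact ho _ (M.mul_mem hwM (M.mul_mem hu hwM)) _ (by simp [mul_smul, flip_smul_pt _ _ hu0])
  obtain ⟨E, hE⟩ := subfield_of_hua (trs M) h1 hγ hi
  have hγE : γ ∈ E := (hE _).2 (by simpa using hi 1 h1)
  refine ⟨E, hE, PSsub_le_of_gens (fun b hb => (hE b).1 hb) fun c hc => ?_, ?_⟩
  · have := M.mul_mem hwM (M.mul_mem ((hE _).1 (E.mul_mem hc hγE)) hwM)
    convert this using 1
    simp only [tr, aff, Mob.flip, mob_mul]
    exact mob_eq_mob.2 ⟨γ, by ring, by ring, by ring, by ring⟩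
  have hfix : ∀ m ∈ M, m • (inf : P1 F) = inf → m ∈ PGsub E := by
    intro m hm hm0
    obtain ⟨a, b, ha, rfl⟩ := exists_aff_of_fix hm0
    have hb : b ∈ E := (hE _).2 (ho _ (M.mul_mem hm hwM) b (by simp [mul_smul]))
    have hab : a + b ∈ E := (hE _).2 (ho _ (M.mul_mem hm (M.mul_mem h1 hwM)) _ (by simp [mul_smul]))
    exact mob_mem_PGsub (by simpa using E.sub_mem hab hb) hb E.zero_mem E.one_mem
  intro m hm
  rcases P1_cases (m • (inf : P1 F)) with h | ⟨s, h⟩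
  · exact hfix m hm h
  · have hs := ho m hm s h
    have h2 := hfix _ (M.mul_mem hwM (M.mul_mem (M.inv_mem hs) hm)) (by
      simp [mul_smul, h, tr_inv])
    have h3 : flip γ hγ ∈ PGsub E := mob_mem_PGsub E.zero_mem hγE E.one_mem E.zero_mem
    have h4 : tr s ∈ PGsub E := PSsub_le _ (tr_mem_PSsub ((hE _).2 hs))
    rwa [(PGsub E).mul_mem_cancel_left h3, (PGsub E).mul_mem_cancel_left ((PGsub E).inv_mem h4)] at h2

theorem nor_of_orbit {M : Subgroup (PG F)} {y : P1 (Kb F)} (h : (orbit M y).ncard = 2) :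
    ∃ x y : P1 (Kb F), x ≠ y ∧ M ≤ Nor x y := by
  obtain ⟨a, b, hab, e⟩ := Set.ncard_eq_two.1 h
  refine ⟨a, b, hab, fun g hg => ?_⟩
  have h1 : ∀ z ∈ orbit M y, g • z = a ∨ g • z = b := fun z hz => by
    have : g • z ∈ orbit M y := mem_orbit_of_mem_orbit (⟨g, hg⟩ : M) hz
    rwa [e] at this
  have h2 : g • a ≠ g • b := fun e => hab (smul_left_cancel g e)
  rcases h1 a (by rw [e]; simp) with h3 | h3 <;> rcases h1 b (by rw [e]; simp) with h4 | h4
  · exact absurd (h3.trans h4.symm) h2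
  · exact Or.inl ⟨h3, h4⟩
  · exact Or.inr ⟨h3, h4⟩
  · exact absurd (h3.trans h4.symm) h2

theorem wild_std [Finite F] {M : Subgroup (PG F)} {b : F} (hb : b ≠ 0) (hbM : tr b ∈ M)
    (hx : ∃ g ∈ M, g • (inf : P1 (Kb F)) ≠ inf) :
    (∃ x y : P1 (Kb F), x ≠ y ∧ M ≤ Nor x y) ∨ ((3 : F) = 0 ∧ Nat.card M = 60) ∨
      ∃ (g : PG F) (E : Subfield F), 3 ≤ Nat.card E ∧ PSsub E ≤ cj g M ∧ cj g M ≤ PGsub E := by
  let U : Subgroup M :=
    { carrier := {g | ∃ b, (g : PG F) = tr b}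
      mul_mem' := by
        rintro g h ⟨a, ha⟩ ⟨b, hb⟩
        exact ⟨a + b, by rw [Subgroup.coe_mul, ha, hb, tr_mul]⟩
      one_mem' := ⟨0, by simp⟩
      inv_mem' := by
        rintro g ⟨a, ha⟩
        exact ⟨-a, by rw [Subgroup.coe_inv, ha, tr_inv]⟩ }
  have hfb : ∀ g : M, fixedBy (P1 (Kb F)) g = fixedBy (P1 (Kb F)) (g : PG F) := fun _ => rfl
  have hU : ∀ g, g ∈ U ↔ g = 1 ∨ fixedBy (P1 (Kb F)) g = {inf} := by
    intro g
    constructor
    · rintro ⟨b, hb⟩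
      by_cases h0 : b = 0
      · left; apply Subtype.ext; rw [hb, h0, tr_zero]; rfl
      · right; rw [hfb, hb, tr_fixed h0]
    · rintro (rfl | h)
      · exact U.one_mem
      · exact exists_tr_of_fixed h
  have hc : Nat.card (trs M) = Nat.card U :=
    Nat.card_congr (Equiv.ofBijective
      (fun b : trs M => (⟨⟨tr b, b.2⟩, b, rfl⟩ : U)) ⟨fun a b h => Subtype.ext
        (tr_inj.1 (congrArg (fun u : U => ((u : M) : PG F)) h)), by
        rintro ⟨g, b, hb⟩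
        exact ⟨⟨b, by change tr b ∈ M; rw [← hb]; exact g.2⟩, Subtype.ext (Subtype.ext hb.symm)⟩⟩)
  have h2 : 2 ≤ Nat.card U := by
    rw [← hc]
    exact Finite.one_lt_card_iff_nontrivial.2 ⟨⟨b, hbM⟩, 0, fun e => hb (congrArg Subtype.val e)⟩
  rcases Klein2.klein_wild (G := M) (X := P1 (Kb F))
    (fun g hg => ncard_fixed fun h => hg (Subtype.ext h)) hU h2
    (by obtain ⟨g, hg, h⟩ := hx; exact ⟨⟨g, hg⟩, h⟩) with ⟨y, hy⟩ | ⟨h3, h4⟩ | ⟨h3, h4⟩
  · exact Or.inl (nor_of_orbit hy)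
  · right; right
    obtain ⟨g, hg, hg0⟩ := hx
    obtain ⟨s, hs⟩ := (isRat_inf.smul g).cases.resolve_left hg0
    have hsub : insert inf ((fun b => pt (em (s + b))) '' (trs M : Set F)) ⊆
        orbit M (inf : P1 (Kb F)) := by
      rintro _ (rfl | ⟨b, hb, rfl⟩)
      · exact mem_orbit_self _
      · exact ⟨⟨tr b * g, M.mul_mem hb hg⟩, by
          change (tr b * g) • (inf : P1 (Kb F)) = pt (em (s + b))
          rw [mul_smul, hs, tr_pt, map_add]⟩
    have heq := Set.eq_of_subset_of_ncard_le hsub (by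
      rw [h4, Set.ncard_insert_of_notMem (by simp) ((Set.toFinite _).image _),
        Set.ncard_image_of_injective _ (fun a b h => by simpa using h), ← hc]
      rfl) (Set.finite_of_ncard_ne_zero (by omega))
    have hr : ∀ (m : PG F) t, m • (inf : P1 F) = pt t ↔ m • (inf : P1 (Kb F)) = pt (em t) := by
      intro m t
      obtain ⟨a, b, c, d, h, rfl⟩ := exists_mob m
      rw [mob_smul_inf_eq_pt, inf_pt, ← map_mul, (em (F := F)).injective.eq_iff]
    have htr : ∀ t, tr t ∈ cj (aff b s hb)⁻¹ M ↔ tr (b * t) ∈ M := fun t => by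
      rw [mem_cj, inv_inv, aff_conj_tr]
    obtain ⟨E, hE, h5, h6⟩ := recog (M := cj (aff b s hb)⁻¹ M) ((htr 1).2 (by rwa [mul_one]))
      ⟨(aff b s hb)⁻¹ * g * aff b s hb, by simpa [mem_cj, mul_assoc] using hg, by
        rw [mul_smul, mul_smul, aff_smul_inf, (hr g s).2 hs, inv_smul_eq_iff]; simp⟩ (by
        intro m hm t ht
        rw [mem_cj, inv_inv] at hm
        have : pt (em (b * t + s)) ∈ orbit M (inf : P1 (Kb F)) := ⟨⟨_, hm⟩, (hr _ _).1 (by
          rw [mul_smul, mul_smul, inv_smul_eq_iff.2 (aff_smul_inf b s hb).symm, ht, aff_smul_pt])⟩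
        rw [← heq] at this
        rcases this with h | ⟨c, hc, h⟩
        · simp at h
        · have h : s + c = b * t + s := em.injective (pt_inj.1 h)
          rw [htr, show b * t = c by linear_combination -h]
          exact hc)
    refine ⟨_, E, ?_, h5, h6⟩
    refine h3.trans (hc ▸ Nat.card_le_card_of_injective
      (fun c : trs M => (⟨c / b, (hE _).2 ((htr _).2 (by rw [mul_div_cancel₀ _ hb]; exact c.2))⟩ : E))
      fun x y h => Subtype.ext (by simpa [hb] using h))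
  · refine Or.inr (Or.inl ⟨?_, h4⟩)
    have := congrArg Subtype.val (card_nsmul_eq_zero' (x := (⟨b, hbM⟩ : trs M)))
    rw [hc, h3] at this
    simpa [hb] using this

/-- no unipotent elements -/
def Tame (M : Subgroup (PG F)) : Prop := ∀ g ∈ M, ∀ x, fixedBy (P1 (Kb F)) g ≠ {x}

theorem Tame.cast_ne [Finite F] {M : Subgroup (PG F)} (h : Tame M) {l : ℕ} (hl : l.Prime)
    (hd : l ∣ Nat.card M) : (l : F) ≠ 0 := by
  have := Fact.mk hl
  obtain ⟨g, hg⟩ := exists_prime_orderOf_dvd_card' l hd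
  have hg1 : (g : PG F) ≠ 1 := fun e => by
    rw [show g = 1 from Subtype.ext e, orderOf_one] at hg; exact hl.one_lt.ne hg
  obtain ⟨x, y, hxy, hx, hy⟩ := (fixed_cases hg1).resolve_left fun ⟨x, hx⟩ => h g g.2 x hx
  have h1 : l ∣ Nat.card (Tor x y) := by
    rw [← hg, ← Subgroup.orderOf_coe, ← Subgroup.orderOf_mk (H := Tor x y) (ha := ⟨hx, hy⟩)]
    exact orderOf_dvd_natCard _
  have := Fintype.ofFinite F
  have h3 := FiniteField.cast_card_eq_zero F
  rw [← Nat.card_eq_fintype_card] at h3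
  intro h0
  obtain ⟨k, hk⟩ := h1
  have h4 : (Nat.card (Tor x y) : F) = 0 := by rw [hk, Nat.cast_mul, h0, zero_mul]
  rcases IsPair.card ⟨hxy, g, hg1, hx, hy⟩ with e | e <;> rw [e] at h4
  · rw [Nat.cast_sub Nat.card_pos, h3] at h4; simp at h4
  · simp [h3] at h4

theorem pair_of_le_Nor {M : Subgroup (PG F)} {x y : P1 (Kb F)} (hxy : x ≠ y) (hM : M ≤ Nor x y) :
    (∃ z : P1 (Kb F), ∀ g ∈ M, g • z = z) ∨ IsPair x y := by
  by_cases h : ∃ g : PG F, g ≠ 1 ∧ g • x = x ∧ g • y = y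
  · exact Or.inr ⟨hxy, h⟩
  left
  have h1 : ∀ g ∈ Tor x y, g = 1 := fun g hg => by
    by_contra e; exact h ⟨g, e, hg⟩
  by_cases h2 : ∃ s ∈ M, s ∉ Tor x y
  · obtain ⟨s, hs, hsT⟩ := h2
    obtain ⟨z, hz⟩ := H8.Dickson.exists_fixed (up s)
    refine ⟨z, fun g hg => ?_⟩
    by_cases hgT : g ∈ Tor x y
    · rw [h1 g hgT, one_smul]
    · rw [eq_inv_of_mul_eq_one_left (h1 _ (mul_mem_Tor (hM hg) (hM hs) hgT hsT)), inv_smul_eq_iff]
      exact hz.symm
  · push Not at h2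
    exact ⟨x, fun g hg => (h2 g hg).1⟩

theorem fixed_case [Finite F] {M : Subgroup (PG F)} {x : P1 (Kb F)} (hx : ∀ g ∈ M, g • x = x) :
    (∃ x : P1 F, M ≤ stabilizer (PG F) x) ∨ ∃ x y, IsPair x y ∧ M ≤ Tor x y := by
  by_cases hr : IsRat x
  · obtain ⟨k, rfl⟩ := hr
    refine Or.inl ⟨k • inf, fun g hg => ?_⟩
    rw [mem_stabilizer_iff, ← mul_smul, ← smul_inf_eq_iff, mul_smul]
    exact hx g hg
  have ht : Tame M := fun g hg z hz => hr (by
    have : x ∈ fixedBy (P1 (Kb F)) g := hx g hg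
    rw [hz] at this
    exact this ▸ isRat_of_fixed hz)
  by_cases hM : M = ⊥
  · exact Or.inl ⟨inf, hM ▸ bot_le⟩
  obtain ⟨⟨g, hg⟩, hg1⟩ := Subgroup.ne_bot_iff_exists_ne_one.1 hM
  have hg1 : g ≠ 1 := fun e => hg1 (Subtype.ext e)
  obtain ⟨y, hyx, hy⟩ : ∃ y, y ≠ x ∧ g • y = y := by
    obtain ⟨a, b, hab, ha, hb⟩ := (fixed_cases hg1).resolve_left fun ⟨x, hx⟩ => ht g hg x hx
    by_cases e : a = x
    · exact ⟨b, fun e' => hab (e.trans e'.symm), hb⟩
    · exact ⟨a, e, ha⟩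
  refine Or.inr ⟨x, y, ⟨hyx.symm, g, hg1, hx g hg, hy⟩, fun m hm => ⟨hx m hm, ?_⟩⟩
  obtain ⟨k, hk⟩ := exists_smul_inf x
  have haff : ∀ m ∈ M, ∃ a b ha, k⁻¹ * up m * k = aff a b ha := fun m hm =>
    exists_aff_of_fix (by rw [mul_smul, mul_smul, hk, inv_smul_eq_iff, hk]; exact hx m hm)
  obtain ⟨a, b, ha, e⟩ := haff g hg
  obtain ⟨c, d, hc, e'⟩ := haff m hm
  have hcM : g * m * g⁻¹ * m⁻¹ ∈ M :=
    M.mul_mem (M.mul_mem (M.mul_mem hg hm) (M.inv_mem hg)) (M.inv_mem hm)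
  have h1 : up (g * m * g⁻¹ * m⁻¹) = k * tr (a * d + b - c * b - d) * k⁻¹ := by
    have : tr (a * d + b - c * b - d) = aff a b ha * aff c d hc * (aff a b ha)⁻¹ * (aff c d hc)⁻¹ := by
      rw [eq_mul_inv_iff_mul_eq, eq_mul_inv_iff_mul_eq, tr, aff_mul, aff_mul, aff_mul, aff_eq_aff]
      constructor <;> ring
    rw [this, ← e, ← e']
    simp only [map_mul, map_inv]
    group
  have h2 : g * m * g⁻¹ * m⁻¹ = 1 := by
    by_cases h0 : a * d + b - c * b - d = 0
    · rw [h0, tr_zero] at h1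
      exact up_injective (F := F) (by rw [h1]; simp)
    · refine absurd ?_ (ht _ hcM x)
      change fixedBy (P1 (Kb F)) (up (g * m * g⁻¹ * m⁻¹)) = _
      rw [h1, ← hk, H8.Klein.fixedBy_conj_iff, H8.Dickson.tr_fixed h0]
  have h3 : g • m • y = m • y := by
    rw [← mul_smul, mul_inv_eq_iff_eq_mul.1 (mul_inv_eq_one.1 h2), mul_smul, hy]
  refine (fix_eq' hg1 hyx.symm (hx g hg) hy h3).resolve_left fun e => hyx ?_
  exact smul_left_cancel m (e.trans (hx m hm).symm)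

theorem no_prime_normal {M : Subgroup (PG F)} [Finite M]
    (h1 : ¬ ∃ z : P1 (Kb F), ∀ g ∈ M, g • z = z) (h2 : ¬ ∃ x y, IsPair x y ∧ M ≤ Nor x y)
    (N : Subgroup M) (hN : N.Normal) : ¬ (Nat.card N).Prime := by
  intro hp
  have := Fact.mk hp
  have : IsCyclic N := isCyclic_of_prime_card rfl
  obtain ⟨n, hn⟩ := (Subgroup.isCyclic_iff_exists_zpowers_eq_top N).1 this
  have hn1 : (n : PG F) ≠ 1 := fun e => by
    rw [← hn, show n = 1 from Subtype.ext e] at hp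
    simp [Nat.not_prime_one] at hp
  have key : ∀ g ∈ M, ∀ z : P1 (Kb F), (n : PG F) • z = z → (g⁻¹ * n * g) • z = z := by
    intro g hg z hz
    have := hN.conj_mem' n (hn ▸ Subgroup.mem_zpowers n) ⟨g, hg⟩
    rw [← hn] at this
    obtain ⟨k, hk⟩ := this
    have hk : (n : PG F) ^ k = g⁻¹ * n * g := congrArg Subtype.val hk
    rw [← hk]
    exact (stabilizer (PG F) z).zpow_mem hz k
  rcases fixed_cases hn1 with ⟨x, hx⟩ | ⟨x, y, hxy, hx, hy⟩
  · refine h1 ⟨x, fun g hg => ?_⟩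
    have h3 : x ∈ fixedBy (P1 (Kb F)) (n : PG F) := by rw [hx]; rfl
    have h4 := key g hg x h3
    rw [mul_smul, mul_smul, inv_smul_eq_iff, ← mem_fixedBy, hx] at h4
    exact h4
  · exact h2 ⟨x, y, ⟨hxy, n, hn1, hx, hy⟩, fun g hg =>
      mem_Nor_of_conj hxy ⟨hx, hy⟩ hn1 ⟨key g hg x hx, key g hg y hy⟩⟩

/-- Dickson's theorem. -/
theorem dickson [Finite F] (M : Subgroup (PG F)) :
    (∃ x : P1 F, M ≤ stabilizer (PG F) x) ∨ (∃ x y, IsPair x y ∧ M ≤ Nor x y) ∨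
    ((2 : F) ≠ 0 ∧ Tame M ∧ (Nonempty (M ≃* alternatingGroup (Fin 4)) ∨
      Nonempty (M ≃* Equiv.Perm (Fin 4)))) ∨
    ((2 : F) ≠ 0 ∧ (5 : F) ≠ 0 ∧ (Tame M ∨ (3 : F) = 0) ∧
      Nonempty (M ≃* alternatingGroup (Fin 5))) ∨
    ∃ (g : PG F) (E : Subfield F), 3 ≤ Nat.card E ∧ PSsub E ≤ cj g M ∧ cj g M ≤ PGsub E := by
  by_cases h1 : ∃ z : P1 (Kb F), ∀ g ∈ M, g • z = z
  · obtain ⟨z, hz⟩ := h1
    rcases fixed_case hz with h | ⟨x, y, h, h'⟩
    · exact Or.inl h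
    · exact Or.inr (Or.inl ⟨x, y, h, h'.trans (Tor_le_Nor x y)⟩)
  by_cases h2 : ∃ x y, IsPair x y ∧ M ≤ Nor x y
  · exact Or.inr (Or.inl h2)
  have h3 : ∀ x y : P1 (Kb F), x ≠ y → ¬ M ≤ Nor x y := fun x y hxy h =>
    h2 ⟨x, y, (pair_of_le_Nor hxy h).resolve_left h1, h⟩
  have hno := no_prime_normal h1 h2
  right; right
  by_cases ht : Tame M
  · have : Nontrivial M := by
      rw [Subgroup.nontrivial_iff_ne_bot]
      rintro rfl
      exact h1 ⟨inf, fun g hg => by rw [Subgroup.mem_bot.1 hg, one_smul]⟩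
    rcases H2.Klein.faithful (Γ := M) (X := P1 (Kb F)) (fun g hg =>
      (ncard_fixed fun h => hg (Subtype.ext h)).resolve_left fun h => by
        obtain ⟨x, hx⟩ := Set.ncard_eq_one.1 h
        exact ht g g.2 x hx) with ⟨x, hx⟩ | ⟨m, hm, -⟩
    · exfalso
      have h4 := (stabilizer M x).index_ne_zero_of_finite
      rcases (by omega : (stabilizer M x).index = 1 ∨ (stabilizer M x).index = 2) with h | h
      · rw [Subgroup.index_eq_one] at h
        exact h1 ⟨x, fun g hg => (h ▸ Subgroup.mem_top _ : (⟨g, hg⟩ : M) ∈ stabilizer M x)⟩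
      · rw [index_stabilizer] at h
        obtain ⟨a, b, hab, h⟩ := nor_of_orbit h
        exact h3 a b hab h
    · have h4 : (2 : F) ≠ 0 := by
        have := ht.cast_ne Nat.prime_two (by omega)
        exact_mod_cast this
      rcases hm with ⟨-, h⟩ | ⟨-, h⟩ | ⟨-, h⟩
      · exact Or.inl ⟨h4, ht, Or.inl (Small.A4_of hno h)⟩
      · exact Or.inl ⟨h4, ht, Or.inr (Small.S4_of hno h)⟩
      · refine Or.inr (Or.inl ⟨h4, ?_, Or.inl ht, Small.A5_of hno h⟩)
        have := ht.cast_ne Nat.prime_five (by omega)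
        exact_mod_cast this
  · right
    simp only [Tame, ne_eq, not_forall, not_not] at ht
    obtain ⟨g, hg, x, hx⟩ := ht
    obtain ⟨k, b, hb, rfl, rfl⟩ := exists_conj_tr hx
    rcases wild_std (M := cj k⁻¹ M) hb (by rwa [mem_cj, inv_inv]) (by
      by_contra h
      push Not at h
      refine h1 ⟨k • inf, fun m hm => ?_⟩
      have := h (k⁻¹ * m * k) (by simpa [mem_cj, mul_assoc] using hm)
      rwa [mul_smul, mul_smul, inv_smul_eq_iff] at this) with ⟨x, y, hxy, h⟩ | ⟨h, h'⟩ | ⟨g, E, h⟩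
    · rw [← le_cj_iff, ← Nor_smul] at h
      exact absurd h (h3 _ _ fun e => hxy (smul_left_cancel k e))
    · rw [card_cj] at h'
      refine Or.inl ⟨fun e => ?_, fun e => ?_, Or.inr h, Small.A5_of hno h'⟩
      · exact one_ne_zero (α := F) (by linear_combination h - e)
      · exact one_ne_zero (α := F) (by linear_combination 2 * h - e)
    · rw [cj_cj] at h
      exact Or.inr ⟨_, E, h⟩

end Cfsg.Agent.H4.Dick
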