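import Cfsg.Agent.H7.E6b

/-!
Three classes of subgroups of the twisted group of type `E₆` over the field with four elements.
-/

set_option autoImplicit false

namespace Cfsg.Agent.H4.E6T

open Cfsg.Lie H7.Bit H7.E6 Matrix

variable {K : Type*} [Field K] [CharP K 2]

/-- a lift of the element multiplies the cubic form by `c` -/
def Sc (z : GL chevE6.Idx K) (c : K) : Prop :=
  ∃ N : GL (Fin 27) K, Lift (rho K) z N ∧ ∀ v, cub (N.1 *ᵥ v) = c * cub v

theorem Sc.mul {z z' : GL chevE6.Idx K} {c c' : K} (h : Sc z c) (h' : Sc z' c') : Sc (z * z') (c * c') := by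
  obtain ⟨N, h1, h2⟩ := h
  obtain ⟨N', h3, h4⟩ := h'
  exact ⟨N * N', h1.mul h3, fun v => by rw [Units.val_mul, ← mulVec_mulVec, h2, h4, mul_assoc]⟩

theorem Sc.inv {z : GL chevE6.Idx K} {c : K} (h : Sc z c) (hc : c ≠ 0) : Sc z⁻¹ c⁻¹ := by
  obtain ⟨N, h1, h2⟩ := h
  refine ⟨N⁻¹, h1.inv, fun v => ?_⟩
  rw [eq_inv_mul_iff_mul_eq₀ hc, ← h2, mulVec_mulVec, Units.mul_inv, one_mulVec]

theorem Sc.of_mem {z : GL chevE6.Idx K} (h : z ∈ twistedE6 K 2) : Sc z 1 := by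
  obtain ⟨N, h1, h2⟩ := exists_lift h
  exact ⟨N, h2, fun v => by rw [one_mul, h1]⟩

theorem Sc.pow {z : GL chevE6.Idx K} {c : K} (h : Sc z c) (n : ℕ) : Sc (z ^ n) (c ^ n) := by
  induction n with
  | zero => simpa using Sc.of_mem (one_mem _)
  | succ n ih => rw [pow_succ, pow_succ]; exact ih.mul h

theorem three (h3 : ∀ c : K, c ≠ 0 → c ^ 3 = 1) {ω : K} (hω : ω * ω = ω + 1) {P : Type*} [Group P] [Finite P]
    (π : P →* GL chevE6.Idx K) (hπ : Function.Injective π) (hle : ∀ p, π p ∈ twistedE6 K 2) {n : ℕ} (hn : ¬ 3 ∣ n)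
    (hA : ∀ φ : MulAut P, ∃ h u : P, ∀ g, ((MulAut.conj h * φ) ^ n) g = u * g * u⁻¹)
    (hf : ∀ (z : GL chevE6.Idx K) (N : GL (Fin 27) K), Lift (rho K) z N → (∀ p, z * π p = π p * z) →
      ∃ (v : Fin 27 → K) (c : K), cub v ≠ 0 ∧ c ≠ 0 ∧ N.1 *ᵥ v = c • v) :
    ∃ H : Fin 3 → Subgroup (twistedE6 K 2), (∀ i, Nonempty (H i ≃* P)) ∧
      ∀ i j, i ≠ j → ∀ g : twistedE6 K 2, (H i).map (MulAut.conj g).toMonoidHom ≠ H j := by
  have h0 : ω ≠ 0 := by rintro rfl; simp at hω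
  have h1 : ω ≠ 1 := by rintro rfl; simp at hω
  let H (i : ℕ) := π.range.map (MulAut.conj (dU hω ^ i)).toMonoidHom
  have hH : ∀ i, H i ≤ twistedE6 K 2 := by
    rintro i _ ⟨_, ⟨a, rfl⟩, rfl⟩
    exact dU_pow_norm hω i (hle a)
  refine ⟨fun i => (H i).subgroupOf _, fun i => ⟨(Subgroup.subgroupOfEquivOfLe (hH i)).trans
    ((π.range.equivMapOfInjective _ (MulEquiv.injective _)).symm.trans (MonoidHom.ofInjective hπ).symm)⟩,
    fun i j hij g e => hij ?_⟩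
  obtain ⟨m, hm⟩ : ∃ m, m = (dU hω ^ j.1)⁻¹ * g.1 * dU hω ^ i.1 := ⟨_, rfl⟩
  have h2 : ∀ p, m * π p * m⁻¹ ∈ π.range := fun p => by
    obtain ⟨b, hb, e'⟩ : g.1 * (dU hω ^ i.1 * π p * (dU hω ^ i.1)⁻¹) * g.1⁻¹ ∈ H j :=
      e.le ⟨⟨_, hH i ⟨_, ⟨p, rfl⟩, rfl⟩⟩, ⟨_, ⟨p, rfl⟩, rfl⟩, rfl⟩
    have e'' : dU hω ^ j.1 * b * (dU hω ^ j.1)⁻¹ = _ := e'
    suffices m * π p * m⁻¹ = b from this ▸ hb
    rw [← mul_left_cancel_iff (a := dU hω ^ j.1), ← mul_right_cancel_iff (a := (dU hω ^ j.1)⁻¹), e'', hm]; group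
  let f : P →* P := (MonoidHom.ofInjective hπ).symm.toMonoidHom.comp
    (((MulAut.conj m).toMonoidHom.comp π).codRestrict _ h2)
  have h4 : ∀ p, π (f p) = m * π p * m⁻¹ := fun p => MonoidHom.apply_ofInjective_symm hπ _
  have h5 : Function.Injective f := fun a b hab => by
    have := congrArg π hab
    rw [h4, h4] at this
    exact hπ (by simpa using this)
  obtain ⟨h, u, h6⟩ := hA (MulEquiv.ofBijective f (Finite.injective_iff_bijective.1 h5))
  have h7 : ∀ k p, π (((MulAut.conj h * MulEquiv.ofBijective f (Finite.injective_iff_bijective.1 h5)) ^ k) p) =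
      (π h * m) ^ k * π p * ((π h * m) ^ k)⁻¹ := fun k p => by
    induction k with
    | zero => simp
    | succ k ih =>
      rw [pow_succ', MulAut.mul_apply, MulAut.mul_apply, MulAut.conj_apply, MulEquiv.ofBijective_apply, map_mul,
        map_mul, h4, ih, pow_succ', map_inv]
      simp only [_root_.mul_inv_rev, mul_assoc]
  have hd : ∀ i, Sc (dU hω ^ i) (ω ^ i) := fun i => ⟨_, (dW_pow hω i).1, (dW_pow hω i).2⟩
  obtain ⟨N, h8, h9⟩ := ((Sc.of_mem (hle u)).inv one_ne_zero).mul (((Sc.of_mem (hle h)).mul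
    ((((hd j).inv (pow_ne_zero _ h0)).mul (Sc.of_mem g.2)).mul (hd i))).pow n)
  obtain ⟨v, c, hv, hc, h10⟩ := hf _ N h8 fun p => by
    have := h7 n p
    rw [h6, map_mul, map_mul, map_inv] at this
    rw [← hm]
    calc _ = (π u)⁻¹ * ((π h * m) ^ n * π p * ((π h * m) ^ n)⁻¹) * (π h * m) ^ n := by group
      _ = _ := by rw [← this]; group
  have h11 := h9 v
  rw [h10, cub_smul, h3 c hc, mul_left_inj' hv] at h11
  have h12 : ω ^ (i.1 * n) = ω ^ (j.1 * n) := by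
    rw [pow_mul, pow_mul, ← div_eq_one_iff_eq (pow_ne_zero _ (pow_ne_zero _ h0)), ← div_pow, h11]
    simp [div_eq_inv_mul]
  have := Fact.mk Nat.prime_three
  have h13 : orderOf (Units.mk0 ω h0) = 3 :=
    orderOf_eq_prime (Units.ext (by simpa using h3 ω h0)) fun e => h1 (congrArg Units.val e)
  have h14 : i.1 * n ≡ j.1 * n [MOD orderOf (Units.mk0 ω h0)] :=
    pow_eq_pow_iff_modEq.1 (Units.ext (by simpa using h12))
  rw [h13] at h14
  have := Nat.ModEq.cancel_right_of_coprime ((Nat.Prime.coprime_iff_not_dvd Nat.prime_three).2 hn) h14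
  exact Fin.ext (Nat.ModEq.eq_of_lt_of_lt this i.2 j.2)

theorem setup {K : Type*} [Field K] [Fintype K] (hK : Fintype.card K = 4) :
    CharP K 2 ∧ (∀ c : K, c ≠ 0 → c ^ 3 = 1) ∧ ∃ ω : K, ω * ω = ω + 1 := by
  have : CharP K 2 := charP_of_card_eq_prime_pow (p := 2) (f := 2) hK
  have h3 : ∀ c : K, c ≠ 0 → c ^ 3 = 1 := fun c hc => by
    simpa [hK] using FiniteField.pow_card_sub_one_eq_one c hc
  obtain ⟨ω, h0, h1⟩ : ∃ ω : K, ω ≠ 0 ∧ ω ≠ 1 := by
    classical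
    by_contra! h
    have := Finset.card_le_card (show Finset.univ ⊆ ({0, 1} : Finset K) from fun x _ => by
      by_cases hx : x = 0 <;> simp [hx, h x])
    have := this.trans Finset.card_le_two
    simp [hK] at this
  exact ⟨this, h3, ω, by have := h3 ω h0; grind⟩

end Cfsg.Agent.H4.E6T
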