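import Cfsg.Agent.H4.F23D

/-!
The relations between the generators.
-/

set_option autoImplicit false
set_option maxRecDepth 100000

namespace Cfsg.Agent.H4.F23

open BP

/-- relators -/
def R0 : List (List ℕ) := [[0, 1, 0, 1, 0, 1], [0, 2, 0, 2], [0, 3, 0, 3], [0, 4, 0, 4], [0, 5, 0, 5], [0, 6, 0, 6], [0, 7, 0, 7], [0, 8, 0, 8], [0, 9, 0, 9], [0, 10, 0, 10], [1, 2, 1, 2, 1, 2], [1, 3, 1, 3], [1, 4, 1, 4], [1, 5, 1, 5], [1, 6, 1, 6], [1, 7, 1, 7], [1, 8, 1, 8], [1, 9, 1, 9], [1, 10, 1, 10], [2, 3, 2, 3, 2, 3], [2, 4, 2, 4], [2, 5, 2, 5]]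

theorem c_R0 : R0.all (agree S 15 0) = true := by decide +kernel

/-- relators -/
def R1 : List (List ℕ) := [[2, 6, 2, 6], [2, 7, 2, 7], [2, 8, 2, 8], [2, 9, 2, 9], [2, 10, 2, 10], [3, 4, 3, 4, 3, 4], [3, 5, 3, 5], [3, 6, 3, 6], [3, 7, 3, 7, 3, 7], [3, 8, 3, 8], [3, 9, 3, 9], [3, 10, 3, 10], [4, 5, 4, 5, 4, 5], [4, 6, 4, 6], [4, 7, 4, 7], [4, 8, 4, 8], [4, 9, 4, 9], [4, 10, 4, 10], [5, 6, 5, 6, 5, 6], [5, 7, 5, 7], [5, 8, 5, 8]]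

theorem c_R1 : R1.all (agree S 15 0) = true := by decide +kernel

/-- relators -/
def R2 : List (List ℕ) := [[5, 9, 5, 9], [5, 10, 5, 10], [6, 7, 6, 7], [6, 8, 6, 8], [6, 9, 6, 9, 6, 9], [6, 10, 6, 10], [7, 8, 7, 8, 7, 8], [7, 9, 7, 9], [7, 10, 7, 10], [8, 9, 8, 9], [8, 10, 8, 10], [9, 10, 9, 10, 9, 10]]

theorem c_R2 : R2.all (agree S 15 0) = true := by decide +kernel

/-- relators -/
def R3 : List (List ℕ) := [[3, 2, 1, 3, 4, 5, 3, 7, 8, 3, 2, 1, 3, 4, 5, 3, 7, 8, 3, 2, 1, 3, 4, 5, 3, 7, 8, 3, 2, 1, 3, 4, 5, 3, 7, 8, 3, 2, 1, 3, 4, 5, 3, 7, 8, 3, 2, 1, 3, 4, 5, 3, 7, 8, 3, 2, 1, 3, 4, 5, 3, 7, 8, 3, 2, 1, 3, 4, 5, 3, 7, 8, 3, 2, 1, 3, 4, 5, 3, 7, 8, 3, 2, 1, 3, 4, 5, 3, 7, 8]]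

theorem c_R3 : R3.all (agree S 15 0) = true := by decide +kernel

/-- relators -/
def R4 : List (List ℕ) := [[1, 2, 3, 4, 5, 6, 7, 1, 2, 3, 4, 5, 6, 7, 1, 2, 3, 4, 5, 6, 7, 1, 2, 3, 4, 5, 6, 7, 1, 2, 3, 4, 5, 6, 7, 1, 2, 3, 4, 5, 6, 7, 1, 2, 3, 4, 5, 6, 7, 1, 2, 3, 4, 5, 6, 7, 1, 2, 3, 4, 5, 6, 7, 10]]

theorem c_R4 : R4.all (agree S 15 0) = true := by decide +kernel

/-- all relators -/
def rels : List (List ℕ) := R0 ++ R1 ++ R2 ++ R3 ++ R4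

theorem rels_one : ∀ w ∈ rels, ev S w = 1 := by
  intro w hw
  simp only [rels, List.mem_append, or_assoc] at hw
  rcases hw with h | h | h | h | h
  · exact wf.eq_one (List.all_eq_true.1 c_R0 w h)
  · exact wf.eq_one (List.all_eq_true.1 c_R1 w h)
  · exact wf.eq_one (List.all_eq_true.1 c_R2 w h)
  · exact wf.eq_one (List.all_eq_true.1 c_R3 w h)
  · exact wf.eq_one (List.all_eq_true.1 c_R4 w h)

/-- a relator of odd length -/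
def odd : List ℕ := [0, 1, 2, 3, 4, 5, 7, 0, 1, 2, 3, 4, 5, 7, 0, 1, 2, 3, 4, 5, 7, 0, 1, 2, 3, 4, 5, 7, 0, 1, 2, 3, 4, 5, 7, 0, 1, 2, 3, 4, 5, 7, 0, 1, 2, 3, 4, 5, 7, 0, 1, 2, 3, 4, 5, 7, 0, 1, 2, 3, 4, 5, 7]

theorem c_odd : agree S 15 0 odd = true := by decide +kernel

end Cfsg.Agent.H4.F23
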