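import Cfsg.Agent.H4.FiE
import Cfsg.Agent.H4.E6Three

/-!
Nine root involutions of the twisted group of type `E₆` over the field with four elements.
-/

set_option autoImplicit false

namespace Cfsg.Agent.H4.Fi

open BP H7.Bit H7.E6 Cfsg.Lie Matrix

variable {K : Type*} [Field K] [CharP K 2] (ω : K)

/-- a word with powers of `ω` as parameters -/
def wd (l : List (ℕ × ℕ)) : List (ℕ × K) := l.map fun p => (p.1, ω ^ p.2)

/-- the involutions -/
noncomputable def gE (s : ℕ) : GL chevE6.Idx K := wU (wd ω (cw s)) * wU [(46, 1)] * (wU (wd ω (cw s)))⁻¹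

/-- their lifts -/
noncomputable def mV (s : ℕ) : GL (Fin 27) K := wV (wd ω (cw s)) * wV [(46, 1)] * (wV (wd ω (cw s)))⁻¹

theorem lift_gE (s : ℕ) : Lift (rho K) (gE ω s) (mV ω s) := ((lift_w _).mul (lift_w _)).mul (lift_w _).inv

theorem mV_sq (s : ℕ) : mV ω s * mV ω s = 1 := by
  have : wV [(46, (1 : K))] * wV [(46, 1)] = 1 := Units.ext (by simpa [coe_wV] using xl_sq 46 (1 : K))
  rw [mV, conj_mul, this, mul_one, mul_inv_cancel]

theorem gE_sq (s : ℕ) : gE ω s * gE ω s = 1 :=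
  Units.ext (Lift.uniq rho_inj isUnit_one (by
    have := (lift_gE ω s).mul (lift_gE ω s)
    rwa [← Units.val_mul, ← Units.val_mul, mV_sq] at this) Lift.one)

theorem gE_mem (s : ℕ) : gE ω s ∈ twistedE6 K 2 := by
  have h1 : ∀ j, wU (wd ω (bl j)) ∈ twistedE6 K 2 := fun j => by
    by_cases h : j < 16
    · refine wU_mem ?_
      interval_cases j
      iterate 4 exact .inl ⟨ω ^ 0, by simp, _, by decide, rfl⟩
      iterate 3 exact .inr ⟨_, (56, 36), by decide, by rw [← pow_mul]; rfl⟩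
      iterate 3 exact .inr ⟨_, (15, 35), by decide, by rw [← pow_mul]; rfl⟩
      iterate 3 exact .inr ⟨_, (42, 37), by decide, by rw [← pow_mul]; rfl⟩
      iterate 3 exact .inr ⟨_, (29, 34), by decide, by rw [← pow_mul]; rfl⟩
    · rw [bl, gt_of_le _ _ _ (by simpa using h)]; exact one_mem _
  have h2 : ∀ l : List ℕ, wU (wd ω (l.flatMap bl)) ∈ twistedE6 K 2 := fun l => by
    induction l with
    | nil => exact one_mem _
    | cons j l ih => simpa [wU, wd] using mul_mem (h1 j) ih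
  exact mul_mem (mul_mem (h2 _) (wU_mem (.inl ⟨1, by simp, _, by decide, rfl⟩))) (inv_mem (h2 _))

theorem toQ_add {n m : ℕ} {ι κ : Type*} [Fintype ι] [Fintype κ] (e : ι ≃ Fin n) (e' : κ ≃ Fin m) (P Q : ℕ × ℕ) :
    toQ ω e e' (addQ P Q) = toQ ω e e' P + toQ ω e e' Q := by
  simp only [toQ, addQ, toM_xor, smul_add]; abel

theorem forceQ_eq {β : Type} (P : ℕ × ℕ) (k : ℕ × ℕ → β) : forceQ P k = k P := by simp [forceQ]

variable {ω} (hω : ω * ω = ω + 1)
include hω

theorem evX_spec (l : List (ℕ × ℕ)) (P : ℕ × ℕ) : toQ ω eV eV (evX l P) = toQ ω eV eV P * (wV (wd ω l)).1 := by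
  rw [coe_wV]
  induction l generalizing P with
  | nil => simp [wd, evX]
  | cons p l ih =>
    change toQ ω eV eV (forceQ (Bool.rec P (addQ P (omQ^[p.2] (mul 27 27 27 P.1 (E p.1), mul 27 27 27 P.2 (E p.1))))
      (Nat.ble p.1 71)) (evX l)) = _
    have h2 : ∀ k P, toQ ω eV eV (omQ^[k] P) = ω ^ k • toQ ω eV eV P := fun k P => by
      induction k with
      | zero => simp
      | succ k ih => rw [Function.iterate_succ_apply', toQ_om hω, ih, smul_smul, pow_succ']
    rw [forceQ_eq, ih, wd, wd, List.map_cons, List.map_cons, List.prod_cons, ← mul_assoc, xl]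
    congr 1
    cases h : Nat.ble p.1 71
    · rw [if_neg (by rw [Nat.lt_succ_iff, ← Nat.ble_eq, h]; simp), mul_one]
    · rw [if_pos (Nat.lt_succ_of_le (Nat.le_of_ble_eq_true h)), toQ_add, h2]
      simp only [toQ, toM_mul eV eV eV, mul_add, add_mul, mul_one, mul_smul_comm, smul_mul_assoc]

theorem coe_mV (s : ℕ) : (mV ω s).1 = toQ ω eV eV (MQ s) := by
  have h1 : ∀ s < 10, (mV ω s).1 = toQ ω eV eV (MQ s) := fun s hs => by
    have := allLt_spec e_M s hs
    rw [forceQ_eq] at this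
    have := congrArg (toQ ω eV eV) (eq_of_beqQ this)
    rw [toQ_mul hω eV eV eV, evX_spec hω [(46, 0)], evX_spec hω, toQ_zero, toM_one, one_mul] at this
    rw [mV, Units.val_mul, Units.mul_inv_eq_iff_eq_mul, this, Units.val_mul, wd, wd]
    simp
  by_cases h : s < 10
  · exact h1 s h
  · have := h1 9 (by norm_num)
    rw [mV, cw, MQ, gt_of_le _ _ _ (by simp), gt_of_le _ _ _ (by simp)] at this
    rw [mV, cw, MQ, gt_of_le _ _ _ (by simp; omega), gt_of_le _ _ _ (by simp; omega), this]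

theorem gE_rel {w : List ℕ} (h : scal w = true) : (w.map (gE ω)).prod = 1 := by
  have h1 : ∀ (w : List ℕ) P, toQ ω eV eV (evQ w P) = toQ ω eV eV P * ((w.map (mV ω)).prod).1 := fun w => by
    induction w with
    | nil => simp [evQ]
    | cons s w ih =>
      intro P
      change toQ ω eV eV (forceQ (mulQ 27 27 27 P (MQ s)) (evQ w)) = _
      rw [forceQ_eq, ih, toQ_mul hω eV eV eV, List.map_cons, List.prod_cons, Units.val_mul, coe_mV hω, mul_assoc]
  have h2 : Lift (rho K) (w.map (gE ω)).prod.1 (w.map (mV ω)).prod.1 := by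
    clear h
    induction w with
    | nil => exact Lift.one
    | cons s w ih => exact (lift_gE ω s).mul ih
  obtain ⟨c, hc⟩ : ∃ c : K, (w.map (mV ω)).prod.1 = c • 1 := by
    have := h1 w (one 27, 0)
    rw [toQ_zero, toM_one, one_mul] at this
    simp only [scal, forceQ_eq, Bool.or_eq_true] at h
    rw [← this]
    rcases h with (h | h) | h <;> rw [eq_of_beqQ h]
    exacts [⟨1, by simp [toQ, toM_one]⟩, ⟨ω, by simp [toQ, toM_one]⟩, ⟨1 + ω, by simp [toQ, toM_one, add_smul]⟩]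
  exact Units.ext (Lift.uniq rho_inj (Units.isUnit _) h2 (hc ▸ Lift.one.smul c))

omit hω in
theorem lift_comm {z : GL chevE6.Idx K} {N : GL (Fin 27) K} (h : Lift (rho K) z N) {s t : ℕ}
    (e : z * gE ω s = gE ω t * z) : N * mV ω s = mV ω t * N := by
  obtain ⟨c, hc⟩ := lift_ratio (g := gE ω t) (M := N * mV ω s * N⁻¹) (by
    rw [← mul_inv_eq_iff_eq_mul.2 e]; exact (h.mul (lift_gE ω s)).mul h.inv) (lift_gE ω t)
  have h1 : (N * mV ω s * N⁻¹).1 * (N * mV ω s * N⁻¹).1 = 1 := by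
    rw [← Units.val_mul, conj_mul, mV_sq, mul_one, mul_inv_cancel, Units.val_one]
  rw [hc, smul_mul_smul_comm, ← Units.val_mul, mV_sq] at h1
  have h2 : c * c = 1 := by simpa using congrFun (congrFun h1 0) 0
  rw [show c = 1 by grind, one_smul] at hc
  exact mul_inv_eq_iff_eq_mul.1 (Units.ext hc)

theorem gE_ne {s t : ℕ} (i j : Fin 27) (h : neQ s t (27 * j + i) = true) : gE ω s ≠ gE ω t := fun e => by
  have := congrArg (·.1 i j) (lift_comm (ω := ω) (z := 1) (N := 1) Lift.one (s := s) (t := t) (by simp [e]))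
  simp only [neQ, Bool.and_eq_true, Bool.not_eq_true', bt_eq, bne_iff_ne] at h
  simp only [one_mul, mul_one, coe_mV hω, toQ, toM, bit, Matrix.add_apply, Matrix.smul_apply, of_apply,
    Equiv.refl_apply, h.1.1, h.1.2] at this
  have h2 := h.2
  by_cases h3 : (MQ s).1.testBit (27 * j + i) <;> by_cases h4 : (MQ t).1.testBit (27 * j + i) <;> simp_all

theorem gE_fix (z : GL chevE6.Idx K) (N : GL (Fin 27) K) (h : Lift (rho K) z N)
    (hz : ∀ s ∈ [3, 4, 5, 6, 7, 8], z * gE ω s = gE ω s * z) :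
    ∃ (v : Fin 27 → K) (c : K), cub v ≠ 0 ∧ c ≠ 0 ∧ N.1 *ᵥ v = c • v := by
  obtain ⟨v, hv⟩ : ∃ v, v = toV K eV 28672 + ω • toV K eV 5120 := ⟨_, rfl⟩
  have h0 : cub v ≠ 0 := by
    rw [← cubF_eq (g := fun i => bit K 28672 i + ω * bit K 5120 i) (w := v) fun _ => by rw [hv]; rfl]
    simp [cubF, Tr, bit, Nat.testBit]
    grind
  have h1 : ∀ s ∈ [3, 4, 5, 6, 7, 8], (mV ω s).1 *ᵥ v = v := fun s hs => by
    have := congrArg (toQ ω eV (Equiv.refl (Fin 1))) (eq_of_beqQ (List.all_eq_true.1 e_v s hs))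
    rw [toQ_mul hω eV eV, ← coe_mV hω] at this
    ext i
    simpa [hv, toQ, toM, toV, mul_apply, mulVec, dotProduct] using congrFun (congrFun this i) 0
  have h2 : ∀ s ∈ [3, 4, 5, 6, 7, 8], toQ ω eV eV (MQ s) *ᵥ (N.1 *ᵥ v) = N.1 *ᵥ v := fun s hs => by
    rw [← coe_mV hω, mulVec_mulVec, ← Units.val_mul, ← lift_comm h (hz s hs), Units.val_mul, ← mulVec_mulVec, h1 s hs]
  have h3 := congrArg (toQ ω eV eV · *ᵥ (N.1 *ᵥ v)) e_fix
  have h4 : ∀ l : List ℕ, (∀ s ∈ l, toQ ω eV eV (MQ s) *ᵥ (N.1 *ᵥ v) = N.1 *ᵥ v) → toQ ω eV eV (l.foldr (fun s P =>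
      addQ (mulQ 27 27 27 (DQ s) (addQ (MQ s) (one 27, 0))) P) (0, 0)) *ᵥ (N.1 *ᵥ v) = 0 := fun l hl => by
    induction l with
    | nil => simp [toQ]
    | cons s l ih =>
      rw [List.foldr_cons, toQ_add, add_mulVec, ih fun t ht => hl t (List.mem_cons_of_mem _ ht),
        toQ_mul hω eV eV eV, ← mulVec_mulVec, toQ_add, add_mulVec, hl s (by simp), toQ_zero, toM_one, one_mulVec,
        CharTwo.add_self_eq_zero, mulVec_zero, add_zero]
  rw [h4 _ h2, toQ_add, add_mulVec, toQ_zero, toM_one, one_mulVec, toQ, toM_rk1, toM_rk1, add_mulVec, smul_mulVec,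
    vecMulVec_mulVec, vecMulVec_mulVec, op_smul_eq_smul, op_smul_eq_smul, smul_comm, ← smul_add, ← hv] at h3
  refine ⟨v, _, h0, fun e => h0 ?_, CharTwo.add_eq_zero.1 h3.symm⟩
  have h5 := congrArg ((N⁻¹).1 *ᵥ ·) (CharTwo.add_eq_zero.1 h3.symm)
  simp only [e, zero_smul, mulVec_mulVec, Units.inv_mul, one_mulVec, mulVec_zero] at h5
  simpa [h5] using cub_smul (0 : K) v

end Cfsg.Agent.H4.Fi
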