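import Mathlib

/-!
A criterion for a power of every automorphism of a finite group to be inner.
-/

set_option autoImplicit false

namespace Cfsg.Agent.H4.Rigid

open Subgroup Pointwise

variable {G : Type*} [Group G] {x t : G}

/-- the subgroup generated by two commuting elements -/
def U (h : Commute x t) : Subgroup G where
  carrier := {u | ∃ i j : ℤ, u = x ^ i * t ^ j}
  one_mem' := ⟨0, 0, by simp⟩
  mul_mem' := by
    rintro _ _ ⟨i, j, rfl⟩ ⟨k, l, rfl⟩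
    exact ⟨i + k, j + l, by rw [zpow_add, zpow_add, (h.zpow_zpow k j).symm.mul_mul_mul_comm]⟩
  inv_mem' := by
    rintro _ ⟨i, j, rfl⟩
    exact ⟨-i, -j, by rw [mul_inv_rev, zpow_neg, zpow_neg, (h.zpow_zpow i j).inv_inv.eq]⟩

theorem left_mem (h : Commute x t) : x ∈ U h := ⟨1, 0, by simp⟩

theorem right_mem (h : Commute x t) : t ∈ U h := ⟨0, 1, by simp⟩

theorem U_comm {h : Commute x t} {z u : G} (h1 : Commute z x) (h2 : Commute z t) (hu : u ∈ U h) : Commute z u := by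
  obtain ⟨i, j, rfl⟩ := hu
  exact (h1.zpow_right i).mul_right (h2.zpow_right j)

theorem U_comm' {h : Commute x t} {u v : G} (hu : u ∈ U h) (hv : v ∈ U h) : Commute u v :=
  U_comm (U_comm (Commute.refl x) h hu).symm (U_comm h.symm (Commute.refl t) hu).symm hv

theorem U_sq {h : Commute x t} (ht : t * t = 1) {u : G} (hu : u ∈ U h) : u * u ∈ zpowers x := by
  obtain ⟨i, j, rfl⟩ := hu
  rw [(h.zpow_zpow i j).symm.mul_mul_mul_comm, ← (Commute.refl t).mul_zpow, ht, one_zpow, mul_one]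
  exact mul_mem (zpow_mem (mem_zpowers x) i) (zpow_mem (mem_zpowers x) i)

theorem U_fix {h : Commute x t} (β : MulAut G) (h1 : β x = x) (h2 : β t = t) {u : G} (hu : u ∈ U h) : β u = u := by
  obtain ⟨i, j, rfl⟩ := hu
  rw [map_mul, map_zpow, map_zpow, h1, h2]

theorem mem_of_odd {l : ℕ} (hl : l.Prime) (h2 : l ≠ 2) {z : G} {k : ℕ} (hz : z ^ l ^ k = 1) {H : Subgroup G}
    (h : z * z ∈ H) : z ∈ H := by
  obtain ⟨m, hm⟩ := exists_pow_eq_self_of_coprime (x := z) (n := 2) (Nat.Coprime.coprime_dvd_right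
    (orderOf_dvd_of_pow_eq_one hz) (((Nat.coprime_primes Nat.prime_two hl).2 h2.symm).pow_right k))
  rw [← hm, sq]
  exact pow_mem h m

theorem U_inv {h : Commute x t} {l : ℕ} (hl : l.Prime) (h2 : l ≠ 2) (hx : x ^ l = 1) (ht : t * t = 1) {u : G}
    (hu : u ∈ U h) (h1 : u * u = 1) (h0 : u ≠ 1) : u = t := by
  obtain ⟨i, j, rfl⟩ := hu
  rw [(h.zpow_zpow i j).symm.mul_mul_mul_comm, ← (Commute.refl t).mul_zpow, ht, one_zpow, mul_one] at h1
  have h3 : x ^ i ∈ (⊥ : Subgroup G) := mem_of_odd hl h2 (k := 1)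
    (by rw [pow_one, ← zpow_natCast, ← zpow_mul, mul_comm, zpow_mul, zpow_natCast, hx, one_zpow]) h1
  rw [mem_bot.1 h3, one_mul] at h0 ⊢
  obtain ⟨k, rfl | rfl⟩ := Int.even_or_odd' j
  · rw [zpow_mul, zpow_two, ht, one_zpow] at h0; exact absurd rfl h0
  · rw [zpow_add, zpow_mul, zpow_two, ht, one_zpow, one_mul, zpow_one]

theorem aut_inner [Finite G] {l n : ℕ} (hl : l.Prime) (hl2 : l ≠ 2) (hn : n ≠ 0) (hx : x ^ l = 1) (hx1 : x ≠ 1)
    (ht : t * t = 1) (ht1 : t ≠ 1) (hxt : Commute x t)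
    (hA : ∀ β : MulAut G, β x = x → β t = t → ∃ u ∈ U hxt, ∀ g, β (β g) = u * g * u⁻¹)
    (hC : ∀ c, Commute c x → c * c = 1 → c ≠ 1 → c = t) (hZ : ∀ z : G, (∀ g, z * g = g * z) → z = 1)
    (hy : ∀ i < l, i ≠ 0 → ∃ (y : G) (m : ℕ), y * x ^ i * y⁻¹ = x ^ m ∧ m ^ n % l = 1) (φ : MulAut G) :
    ∃ h u : G, ∀ g, ((MulAut.conj h * φ) ^ (2 * n)) g = u * g * u⁻¹ := by
  have := Fact.mk hl
  have ho : orderOf x = l := orderOf_eq_prime hx hx1
  have hf : ∀ (β : MulAut G) m, β x = x ^ m → m.Coprime l → β t = t := fun β m h1 h2 => by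
    obtain ⟨k, hk⟩ := exists_pow_eq_self_of_coprime (ho ▸ h2)
    refine hC _ ?_ (by rw [← map_mul, ht, map_one]) (by simpa using ht1)
    rw [← hk, ← h1]
    exact (hxt.map β).symm.pow_right k
  have h1 : ∀ z k, Commute z x → z ^ l ^ k = 1 → z ∈ zpowers x := fun z k h1 h2 => by
    have h3 : MulAut.conj z x = x := by simp [h1.eq]
    obtain ⟨u, hu, h4⟩ := hA _ h3 (hf _ 1 (by simpa using h3) (by simp))
    have h5 : u⁻¹ * (z * z) = 1 := hZ _ fun g => by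
      have := h4 g
      simp only [MulAut.conj_apply] at this
      calc _ = u⁻¹ * (z * (z * g * z⁻¹) * z⁻¹) * (z * z) := by group
        _ = _ := by rw [this]; group
    refine mem_of_odd hl hl2 h2 (mem_of_odd hl hl2 (k := k) ?_ ?_)
    · rw [(Commute.refl z).mul_pow, h2, one_mul]
    · rw [← inv_mul_eq_one.1 h5]; exact U_sq ht hu
  have hp : ∀ y : G, y ^ l = 1 → IsPGroup l (zpowers y) := fun y hy =>
    IsPGroup.iff_card.2 (by
      rcases (Nat.dvd_prime hl).1 (orderOf_dvd_of_pow_eq_one hy) with h | h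
      exacts [⟨0, by simp [h]⟩, ⟨1, by simp [h]⟩])
  obtain ⟨Q, hQ⟩ := (hp x hx).exists_le_sylow
  have h2 : ∀ q ∈ Q.1, q ∈ zpowers x := fun q hq => by
    have hxQ : x ∈ Q.1 := hQ (mem_zpowers x)
    have : Nontrivial Q := ⟨⟨x, hxQ⟩, 1, fun e => hx1 (congrArg Subtype.val e)⟩
    have := Q.2.center_nontrivial
    obtain ⟨z, hz⟩ := exists_ne (1 : center Q)
    have h3 : ∀ q (hq : q ∈ Q.1), Commute q z.1.1 := fun q hq => congrArg Subtype.val (mem_center_iff.1 z.2 ⟨q, hq⟩)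
    obtain ⟨k, hk⟩ := Q.2 z.1
    have h4 := h1 _ k (h3 x hxQ).symm (congrArg Subtype.val hk)
    have h5 : (⟨x, mem_zpowers x⟩ : zpowers x) ∈ zpowers ⟨_, h4⟩ :=
      mem_zpowers_of_prime_card (by rw [Nat.card_zpowers, ho])
        fun e => hz (Subtype.ext (Subtype.ext (show z.1.1 = 1 from congrArg Subtype.val e)))
    obtain ⟨i, hi⟩ := h5
    obtain ⟨k', hk'⟩ := Q.2 ⟨q, hq⟩
    have h6 : z.1.1 ^ i = x := congrArg Subtype.val hi
    exact h1 q k' (h6 ▸ (h3 q hq).zpow_right i) (congrArg Subtype.val hk')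
  obtain ⟨Q', hQ'⟩ := (hp (φ x) (by rw [← map_pow, hx, map_one])).exists_le_sylow
  obtain ⟨g, rfl⟩ := MulAction.exists_smul_eq G Q' Q
  obtain ⟨i, hi⟩ := mem_powers_iff_mem_zpowers.2 (h2 _ (smul_mem_pointwise_smul _ (MulAut.conj g) _ (hQ' (mem_zpowers _))))
  have hi' : x ^ (i % l) = g * φ x * g⁻¹ := by rw [← ho, pow_mod_orderOf]; exact hi
  obtain ⟨y, m, h3, h4⟩ := hy (i % l) (Nat.mod_lt _ hl.pos) fun e => by
    rw [e, pow_zero, eq_comm, conj_eq_one_iff] at hi'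
    exact hx1 (by simpa using hi')
  have h5 : (MulAut.conj (y * g) * φ) x = x ^ m := by
    rw [← h3, hi', MulAut.mul_apply, MulAut.conj_apply]; group
  have h6 : (MulAut.conj (y * g) * φ) t = t := hf _ m h5 ((Nat.coprime_pow_left_iff (Nat.pos_of_ne_zero hn) _ _).1
    (by rw [Nat.Coprime, Nat.gcd_comm, Nat.gcd_rec, h4, Nat.gcd_one_left]))
  refine ⟨y * g, ?_⟩
  generalize MulAut.conj (y * g) * φ = ψ at h5 h6
  have h7 : ∀ k, (ψ ^ k) x = x ^ m ^ k ∧ (ψ ^ k) t = t := fun k => by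
    induction k with
    | zero => simp
    | succ k ih => simp only [pow_succ', MulAut.mul_apply, ih, map_pow, h5, h6, pow_mul, and_self]
  obtain ⟨u, -, hu⟩ := hA (ψ ^ n) (by rw [(h7 n).1, ← pow_mod_orderOf, ho, h4, pow_one]) (h7 n).2
  exact ⟨u, fun g => by rw [two_mul, pow_add, MulAut.mul_apply, hu]⟩

theorem aut_inner' [Finite G] {X : Type*} [MulAction G X] {Ω : Set X} {τ : X → G} {a b₀ b₁ : X} {l n : ℕ}
    (hl : l.Prime) (hl2 : l ≠ 2) (hn : n ≠ 0) (hx : x ^ l = 1) (hx1 : x ≠ 1)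
    (ht : τ a * τ a = 1) (ht1 : τ a ≠ 1) (hxt : Commute x (τ a))
    (hΩ : ∀ g : G, ∀ p ∈ Ω, g • p ∈ Ω) (hτ : ∀ g : G, ∀ p ∈ Ω, g * τ p * g⁻¹ = τ (g • p)) (hi : Set.InjOn τ Ω)
    (ha : a ∈ Ω) (h0 : b₀ ∈ Ω) (h1 : b₁ ∈ Ω) (htr : ∀ p ∈ Ω, ∃ g : G, g • a = p) (hfix : ∀ p ∈ Ω, x • p = p → p = a)
    (hG : ∀ q ∈ Ω, ∀ b, b = b₀ ∨ b = b₁ → (∀ u ∈ U hxt, Commute (τ b) (τ (u • b)) ↔ Commute (τ q) (τ (u • q))) →
      ∃ u ∈ U hxt, q = u • b₀ ∨ q = u • b₁)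
    (hgen : ∀ β : MulAut G, β x = x → β (τ a) = τ a → β (τ b₀) = τ b₀ → ∀ g, β g = g)
    (htw : b₁ = b₀ ∨ ∀ m < l, ∃ w ∈ U hxt,
      ¬ (Commute (τ b₀) (τ (w • b₁)) ↔ Commute (τ b₁) (τ ((w * x ^ m) • b₀))))
    (hZ : ∀ z : G, (∀ g, z * g = g * z) → z = 1)
    (hy : ∀ i < l, i ≠ 0 → ∃ (y : G) (m : ℕ), y * x ^ i * y⁻¹ = x ^ m ∧ m ^ n % l = 1) (φ : MulAut G) :
    ∃ h u : G, ∀ g, ((MulAut.conj h * φ) ^ (2 * n)) g = u * g * u⁻¹ := by
  have k0 : ∀ β : MulAut G, β x = x → β (τ a) = τ a → ∀ u ∈ U hxt, ∀ p ∈ Ω, ∀ q ∈ Ω, β (τ p) = τ q →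
      β (τ (u • p)) = τ (u • q) := fun β e1 e2 u hu p hp q hq e => by
    rw [← hτ u p hp, ← hτ u q hq, map_mul, map_mul, map_inv, U_fix β e1 e2 hu, e]
  have kc : ∀ (β : MulAut G) (g g' : G), Commute g g' ↔ Commute (β g) (β g') := fun β g g' =>
    ⟨fun h => h.map β, fun h => Commute.of_map β.injective h⟩
  have k1 : ∀ β : MulAut G, β x = x → β (τ a) = τ a → ∀ b ∈ Ω, b = b₀ ∨ b = b₁ →
      ∃ u ∈ U hxt, β (τ b) = τ (u • b₀) ∨ β (τ b) = τ (u • b₁) := fun β e1 e2 b hb hb' => by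
    obtain ⟨g, hg⟩ := htr b hb
    have e : β (τ b) = τ (β g • a) := by rw [← hg, ← hτ g a ha, ← hτ _ a ha, map_mul, map_mul, map_inv, e2]
    obtain ⟨u, hu, h⟩ := hG _ (hΩ (β g) a ha) b hb' fun u hu => by
      rw [kc β, e, k0 β e1 e2 u hu b hb _ (hΩ (β g) a ha) e]
    exact ⟨u, hu, h.imp (fun h => by rw [e, h]) fun h => by rw [e, h]⟩
  have k2 : ∀ β : MulAut G, β x = x → β (τ a) = τ a → ∀ u ∈ U hxt, β (τ b₀) = τ (u • b₀) →
      ∀ g, β g = u * g * u⁻¹ := fun β e1 e2 u hu e g => by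
    have := hgen (MulAut.conj u⁻¹ * β) (by simp [e1, mul_assoc, (U_comm' (left_mem hxt) hu).eq])
      (by simp [e2, mul_assoc, (U_comm' (right_mem hxt) hu).eq])
      (by rw [MulAut.mul_apply, e, MulAut.conj_apply, hτ _ _ (hΩ u _ h0), inv_smul_smul]) g
    rw [MulAut.mul_apply, MulAut.conj_apply] at this
    conv_rhs => rw [← this]
    group
  refine aut_inner hl hl2 hn hx hx1 ht ht1 hxt (fun β e1 e2 => ?_) (fun c e1 e2 e3 => ?_) hZ hy φ
  · suffices ∃ u ∈ U hxt, β (β (τ b₀)) = τ (u • b₀) by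
      obtain ⟨u, hu, e⟩ := this
      exact ⟨u, hu, k2 (β * β) (by simp [e1]) (by simp [e2]) u hu e⟩
    have k3 : ∀ u ∈ U hxt, β (τ b₀) = τ (u • b₀) → ∃ u ∈ U hxt, β (β (τ b₀)) = τ (u • b₀) := fun u hu e =>
      ⟨u * u, mul_mem hu hu, by rw [e, k0 β e1 e2 u hu _ h0 _ (hΩ u _ h0) e, mul_smul]⟩
    obtain ⟨u, hu, e | e⟩ := k1 β e1 e2 b₀ h0 (Or.inl rfl)
    · exact k3 u hu e
    obtain ⟨v, hv, e' | e'⟩ := k1 β e1 e2 b₁ h1 (Or.inr rfl)
    · exact ⟨u * v, mul_mem hu hv, by rw [e, k0 β e1 e2 u hu _ h1 _ (hΩ v _ h0) e', mul_smul]⟩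
    · have h2 := k0 β e1 e2 _ (mul_mem hu (inv_mem hv)) _ h1 _ (hΩ v _ h1) e'
      rw [mul_smul u v⁻¹ (v • b₁), inv_smul_smul, ← e] at h2
      have h3 := hi (hΩ _ _ h1) h0 (β.injective h2)
      refine k3 (u * (u * v⁻¹)⁻¹) (mul_mem hu (inv_mem (mul_mem hu (inv_mem hv)))) ?_
      rw [mul_smul u, e, ← h3, inv_smul_smul]
  · have f1 : MulAut.conj c x = x := by simp [e1.eq]
    have f0 : x • a = a := hi (hΩ x a ha) ha (by rw [← hτ x a ha, hxt.eq, mul_inv_cancel_right])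
    have f2 : MulAut.conj c (τ a) = τ a := by
      rw [MulAut.conj_apply, hτ c a ha, hfix _ (hΩ c a ha) (by rw [← mul_smul, ← e1.eq, mul_smul, f0])]
    have k3 : ∀ u ∈ U hxt, MulAut.conj c (τ b₀) = τ (u • b₀) → c = τ a := fun u hu e => by
      have h2 : u⁻¹ * c = 1 := hZ _ fun g => by
        have := k2 _ f1 f2 u hu e g
        rw [MulAut.conj_apply] at this
        calc _ = u⁻¹ * (c * g * c⁻¹) * c := by group
          _ = _ := by rw [this]; group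
      rw [← inv_mul_eq_one.1 h2] at e2 e3 ⊢
      exact U_inv hl hl2 hx ht hu e2 e3
    obtain ⟨u, hu, e | e⟩ := k1 _ f1 f2 b₀ h0 (Or.inl rfl)
    · exact k3 u hu e
    rcases htw with rfl | htw
    · exact k3 u hu e
    obtain ⟨i, hi'⟩ := mem_powers_iff_mem_zpowers.2 (U_sq ht (inv_mem hu))
    obtain ⟨w, hw, h2⟩ := htw (i % l) (Nat.mod_lt _ hl.pos)
    have h3 : x ^ (i % l) = u⁻¹ * u⁻¹ := by rw [← pow_eq_pow_mod i hx]; exact hi'
    have h4 : MulAut.conj c (τ (u • b₁)) = τ b₀ := by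
      rw [← e, ← MulAut.mul_apply, ← map_mul, e2, map_one, MulAut.one_apply]
    have h5 := k0 _ f1 f2 _ (mul_mem hw (inv_mem hu)) _ (hΩ u _ h1) _ h0 h4
    rw [mul_smul w u⁻¹ (u • b₁), inv_smul_smul] at h5
    refine absurd ?_ h2
    rw [kc (MulAut.conj c), e, h5, kc (MulAut.conj u⁻¹), MulAut.conj_apply, MulAut.conj_apply, hτ _ _ (hΩ u _ h1),
      hτ _ _ (hΩ _ _ h0), inv_smul_smul, h3, ← mul_smul, ← mul_assoc, ← mul_assoc, (U_comm' hw (inv_mem hu)).eq]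

end Cfsg.Agent.H4.Rigid
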