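import Cfsg.Agent.H4.FiC
import Cfsg.Agent.H4.FiT
import Cfsg.Agent.H4.Rigid

/-!
The permutation group of degree 3510 and its subgroup generated by eight of the transpositions.
-/

set_option autoImplicit false

namespace Cfsg.Agent.H4.Fi

open BP Equiv

/-- the generators -/
noncomputable abbrev σ : ℕ → Perm ℕ := gen S

theorem σ_big {s : ℕ} (h : 10 ≤ s) : σ s = 1 := gen_of_le S s h

theorem σ_sq (s : ℕ) : σ s * σ s = 1 := by
  by_cases h : s < 10
  · simpa using wf.eq_one (allLt_spec c_sq s h)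
  · rw [σ_big (by omega), one_mul]

theorem σ_inv (s : ℕ) : (σ s)⁻¹ = σ s := inv_eq_of_mul_eq_one_right (σ_sq s)

theorem R1_one : ∀ w ∈ R1, ev S w = 1 := fun w hw => by
  rw [← List.take_append_drop 28 R1, List.mem_append] at hw
  exact wf.eq_one (hw.elim (List.all_eq_true.1 c_R1a w) (List.all_eq_true.1 c_R1b w))

theorem RR_one : ∀ w ∈ RR, ev S w = 1 := fun w hw =>
  (List.mem_append.1 hw).elim (R1_one w) fun h => wf.eq_one (List.all_eq_true.1 c_RA w h)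

section
variable {Γ : Type*} [Group Γ] {g : ℕ → Γ} (hg : ∀ s, g s * g s = 1) {R : List (List ℕ)}
  (hR : ∀ w ∈ R, (w.map g).prod = 1)
include hg hR

theorem comm {s t : ℕ} (h : [s, t, s, t] ∈ R ∨ [t, s, t, s] ∈ R) : g t * g s = g s * g t := by
  have k : ∀ s t, [s, t, s, t] ∈ R → g t * g s = g s * g t := fun s t h => by
    have h1 : ([s, t].map g).prod * ([s, t].map g).prod = 1 := by simpa [mul_assoc] using hR _ h
    simpa using (prod_reverse hg [s, t]).trans (inv_eq_of_mul_eq_one_right h1)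
  exact h.elim (k s t) fun h => (k t s h).symm

theorem braid {s t : ℕ} (h : [s, t, s, t, s, t] ∈ R ∨ [t, s, t, s, t, s] ∈ R) :
    g t * (g s * g t) = g s * (g t * g s) := by
  have k : ∀ s t, [s, t, s, t, s, t] ∈ R → g t * (g s * g t) = g s * (g t * g s) := fun s t h => by
    have h1 : ([s, t, s].map g).prod * ([t, s, t].map g).prod = 1 := by simpa [mul_assoc] using hR _ h
    simpa using ((prod_reverse hg [s, t, s]).trans (inv_eq_of_mul_eq_one_right h1)).symm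
  exact h.elim (k s t) fun h => (k t s h).symm

end

/-- the eight generators of the orthogonal group -/
abbrev J1 : List ℕ := [1, 2, 3, 4, 5, 6, 7, 8]

/-- all nine generators -/
abbrev J0 : List ℕ := [0, 1, 2, 3, 4, 5, 6, 7, 8]

theorem inj1 {Γ : Type*} [Group Γ] {g : ℕ → Γ} (hg : ∀ s, g s * g s = 1) (hR : ∀ w ∈ R1, (w.map g).prod = 1) :
    Inj g S J1 := by
  have k : ∀ {Q : List (List ℕ)}, (∀ w ∈ Q, w ∈ R1) → ∀ w ∈ Q, (w.map g).prod = 1 ∧ ev S w = 1 :=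
    fun h w hw => ⟨hR w (h w hw), R1_one w (h w hw)⟩
  have h8 := lev_inj wf hg σ_sq c_L8 (k (by decide +kernel)) inj_nil
  have h7 := lev_inj wf hg σ_sq c_L7 (k (by decide +kernel)) h8
  have h6 := lev_inj wf hg σ_sq c_L6 (k (by decide +kernel)) h7
  have h5 := lev_inj wf hg σ_sq c_L5 (k (by decide +kernel)) h6
  have h4 := lev_inj wf hg σ_sq c_L4 (k (by decide +kernel)) h5
  have h3 := lev_inj wf hg σ_sq c_L3 (k (by decide +kernel)) h4
  have ht := fun s t (hs : s < 9) (ht : t < 9) => allLt_spec (allLt_spec c_tp s hs) t ht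
  simp only [Bool.and_eq_true, Bool.or_eq_true, Bool.not_eq_true', List.elem_eq_mem, decide_eq_true_eq,
    or_assoc] at ht
  have hb : ∀ {T s t}, tp T s t = true → s < 9 ∧ t < 9 := fun h => by
    simp only [tp, Bool.and_eq_true, Nat.ble_eq] at h; omega
  have d2 := red_spec (fun s t h => comm hg hR ((ht s t (hb h).1 (hb h).2).1.resolve_left (by simp [h])))
    (fun s t h => braid hg hR ((ht s t (hb h).1 (hb h).2).2.resolve_left (by simp [h]))) hg _ _ _ c_red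
  simp only [c_wB, List.map_append, List.prod_append, prod_reverse hg,
    hR (rp [3, 2, 1, 3, 4, 5, 3, 7, 8] 10) (by decide +kernel), mul_one, mul_inv_cancel, one_mul] at d2
  have h2 := lev_inj wf hg σ_sq c_L2 (fun w hw => by
    have : ∀ w ∈ Q2, w ∈ R1 ∨ (w = D2.flatten ∧ w ∈ D0 ++ D2) := by decide +kernel
    rcases this w hw with h | ⟨h, h'⟩
    · exact ⟨hR w h, R1_one w h⟩
    · exact ⟨h ▸ d2, wf.eq_one (List.all_eq_true.1 c_D0 w h')⟩) h3
  exact lev_inj wf hg σ_sq c_L1 (fun w hw => by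
    have : ∀ w ∈ Q1, w ∈ R1 ∨ (w ∈ D1 ∧ ∀ s ∈ w, s ∈ [1, 2, 3, 4, 5, 7, 8]) := by decide +kernel
    rcases this w hw with h | ⟨h, h'⟩
    · exact ⟨hR w h, R1_one w h⟩
    · have := wf.eq_one (List.all_eq_true.1 c_D1 w h)
      exact ⟨h2.rel h' this, this⟩) h2

/-- the group -/
noncomputable abbrev G0 : Subgroup (Perm ℕ) := sub σ J0

theorem σ_mem (s : ℕ) : σ s ∈ G0 := by
  by_cases h : s < 9
  · exact sub_gen (by revert s; decide)
  by_cases h' : s = 9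
  · have := RR_one (rp [0, 1, 2, 3, 4, 7] 5 ++ [9]) (by decide +kernel)
    rw [ev_append, ev_cons, ev_nil, mul_one] at this
    rw [h', show σ 9 = _ from (inv_eq_of_mul_eq_one_right this).symm]
    exact inv_mem (sub_word (by decide +kernel))
  · rw [σ_big (by omega)]; exact one_mem _

theorem ev_mem (w : List ℕ) : ev S w ∈ G0 :=
  Subgroup.list_prod_mem _ fun x hx => by
    obtain ⟨a, -, rfl⟩ := List.mem_map.1 hx
    exact σ_mem a

theorem le_G0 (J : List ℕ) : sub σ J ≤ G0 := sub_le fun s _ => σ_mem s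

theorem G0_le : G0 ≤ Fx 3510 := sub_le fun s hs => by
  simpa using wf.agree (allLt_spec c_tail s (by revert s; decide))

instance finite_sub (J : List ℕ) : Finite (sub σ J) :=
  Finite.of_injective _ (Subgroup.inclusion_injective ((le_G0 J).trans G0_le))

theorem G_lt {g : Perm ℕ} (hg : g ∈ G0) {p : ℕ} (hp : p < 3510) : g p < 3510 := Fx.lt (G0_le hg) hp

theorem σ_zero : ∀ s ∈ [0, 2, 3, 4, 5, 6, 7, 8, 9], σ s * σ 0 * (σ s)⁻¹ = σ 0 ∧ σ s 0 = 0 := by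
  intro s hs
  refine ⟨?_, by simpa using wf.pt (List.all_eq_true.1 c_zero s hs)⟩
  by_cases h : s = 0
  · simp [h]
  · have h1 : ∀ s ∈ [0, 2, 3, 4, 5, 6, 7, 8, 9], s ≠ 0 → [0, s, 0, s] ∈ RR := by decide +kernel
    rw [comm σ_sq RR_one (Or.inl (h1 s hs h)), mul_inv_cancel_right]

theorem exists_tau : ∃ τ : ℕ → Perm ℕ, τ 0 = σ 0 ∧ ∀ s < 10, ∀ p < 3510, σ s * τ p * (σ s)⁻¹ = τ (σ s p) := by
  let g : ℕ → ConjAct (Perm ℕ) := fun s => ConjAct.toConjAct (σ s)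
  have hg : ∀ s, g s * g s = 1 := σ_sq
  have hR : ∀ w ∈ RR, IsRel g S w := fun w hw => ⟨RR_one w hw, RR_one w hw⟩
  have hf : ∀ s ∈ [0, 2, 3, 4, 5, 6, 7, 8, 9], g s • σ 0 = σ 0 ∧ gen S s 0 = 0 := fun s hs =>
    ⟨by rw [ConjAct.smul_def, ConjAct.ofConjAct_toConjAct]; exact (σ_zero s hs).1, (σ_zero s hs).2⟩
  obtain ⟨c, hc, h0⟩ := tree_start wf hg σ_sq hf _
  have h1 := run_spec wf hg σ_sq hR P0 (K := K0) h0
  rw [Nat.eq_of_beq_eq_true c_P0] at h1
  exact ⟨c, hc, (run_spec wf hg σ_sq hR P1 h1).full c_P1⟩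

/-- the transposition attached to a point -/
noncomputable def τ : ℕ → Perm ℕ := exists_tau.choose

theorem τ_zero : τ 0 = σ 0 := exists_tau.choose_spec.1

theorem τ_conj {g : Perm ℕ} (hg : g ∈ G0) : ∀ p < 3510, g * τ p * g⁻¹ = τ (g p) := by
  obtain ⟨w, hw, rfl⟩ := exists_word σ_sq hg
  change ∀ p < 3510, ev S w * τ p * (ev S w)⁻¹ = τ (ev S w p)
  intro p hp
  clear hg
  induction w with
  | nil => simp
  | cons s w ih =>
    have h0 : ∀ s ∈ J0, s < 10 := by decide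
    have h1 : σ s * τ _ * (σ s)⁻¹ = τ _ := exists_tau.choose_spec.2 s (h0 s (hw s (by simp))) _ (G_lt (ev_mem w) hp)
    rw [ev_cons, Perm.mul_apply, ← h1, ← ih fun t ht => hw t (List.mem_cons_of_mem _ ht)]
    group

/-- the point belongs to the generator -/
def IsPt (s : ℕ) : Prop := τ (pt s) = σ s ∧ pt s < 3510

theorem IsPt.edge {s t : ℕ} (h : IsPt s) (h1 : (s, t) ∈ edges) : IsPt t := by
  have h2 : ev S [s, t] (pt s) = pt t := wf.pt (List.all_eq_true.1 c_pts _ h1)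
  have h3 : ∀ a ∈ edges, [a.1, a.2, a.1, a.2, a.1, a.2] ∈ RR := by decide +kernel
  refine ⟨?_, h2 ▸ G_lt (ev_mem _) h.2⟩
  rw [← h2, ← τ_conj (ev_mem _) _ h.2, h.1, mul_inv_eq_iff_eq_mul]
  simpa [mul_assoc] using (braid σ_sq RR_one (Or.inl (h3 _ h1))).symm

theorem isPt : ∀ s < 9, IsPt s := by
  have h0 : IsPt 0 := ⟨τ_zero, by decide⟩
  have h1 := h0.edge (t := 1) (by decide)
  have h2 := h1.edge (t := 2) (by decide)
  have h3 := h2.edge (t := 3) (by decide)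
  have h4 := h3.edge (t := 4) (by decide)
  have h5 := h4.edge (t := 5) (by decide)
  have h6 := h5.edge (t := 6) (by decide)
  have h7 := h3.edge (t := 7) (by decide)
  have h8 := h7.edge (t := 8) (by decide)
  intro s hs
  interval_cases s <;> assumption

/-- inclusion of sets -/
def sb (X Y : ℕ) : Bool := Nat.beq (Nat.lor X Y) Y

theorem sb_spec {X Y p : ℕ} (h : sb X Y = true) (hp : X.testBit p) : Y.testBit p := by
  rw [← Nat.eq_of_beq_eq_true h, tbLor, hp, Bool.true_or]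

/-- the set is an orbit -/
noncomputable def sysChk (J : List ℕ) (Om : ℕ) (rl : List ℕ) : Bool :=
  J.all (fun s => Nat.ble s 8 && tb Om (pt s) && Nat.beq (apW S [s] Om) Om) && Nat.beq (Nat.shiftRight Om 3510) 0 &&
    sb Om (reach S (J.map fun s => [s]) rl (Nat.pow 2 (pt 1))) && J.elem 1

/-- the properties of an orbit -/
structure Sys (J : List ℕ) (Om : ℕ) : Prop where
  gen : ∀ s ∈ J, s < 9 ∧ Om.testBit (pt s)
  lt : ∀ p, Om.testBit p → p < 3510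
  inv : ∀ g ∈ sub σ J, ∀ p, Om.testBit p → Om.testBit (g p)
  tr : ∀ p q, Om.testBit p → Om.testBit q → ∃ g ∈ sub σ J, g p = q
  mem : ∀ p, Om.testBit p → τ p ∈ sub σ J

theorem sys_of {J : List ℕ} {Om : ℕ} {rl : List ℕ} (h : sysChk J Om rl = true) : Sys J Om := by
  simp only [sysChk, Bool.and_eq_true, List.all_eq_true, Nat.ble_eq, Nat.beq_eq, tb_eq, List.elem_eq_mem,
    decide_eq_true_eq] at h
  obtain ⟨⟨⟨h1, h2⟩, h3⟩, h4⟩ := h
  have h5 : ∀ p, Om.testBit p → ∃ g ∈ sub σ J, g p = pt 1 := fun p hp => by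
    refine wf.reach (P := fun p => ∃ g ∈ sub σ J, g p = pt 1) ?_ _ _ ?_ p (sb_spec h3 hp)
    · rintro w hw p ⟨g, hg, e⟩
      obtain ⟨s, hs, rfl⟩ := List.mem_map.1 hw
      exact ⟨g * σ s, mul_mem hg (sub_gen hs), by simpa using e⟩
    · intro p hp
      rw [tbPow, decide_eq_true_eq] at hp
      exact ⟨1, one_mem _, hp.symm⟩
  have h6 : ∀ p, Om.testBit p → p < 3510 := fun p hp => by
    by_contra h
    have := congrArg (·.testBit (p - 3510)) (show Om >>> 3510 = 0 from h2)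
    simp only [Nat.testBit_shiftRight, Nat.zero_testBit, show 3510 + (p - 3510) = p by omega, hp] at this
    cases this
  refine ⟨fun s hs => ⟨Nat.lt_succ_of_le (h1 s hs).1.1, (h1 s hs).1.2⟩, h6, fun g hg p hp => ?_, fun p q hp hq => ?_,
    fun p hp => ?_⟩
  · refine (sub_le (H := Stb Om) (fun s hs => ?_) hg p).trans hp
    have := wf.stb.2 (h1 s hs).2
    rwa [ev_cons, ev_nil, mul_one] at this
  · obtain ⟨g, hg, e⟩ := h5 p hp
    obtain ⟨g', hg', e'⟩ := h5 q hq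
    exact ⟨g'⁻¹ * g, mul_mem (inv_mem hg') hg, by rw [Perm.mul_apply, e, ← e']; simp⟩
  · obtain ⟨g, hg, e⟩ := h5 p hp
    have := τ_conj (le_G0 J hg) p (h6 p hp)
    rw [e, (isPt 1 (by norm_num)).1] at this
    exact (Subgroup.mul_mem_cancel_left _ hg).1 ((Subgroup.mul_mem_cancel_right _ (inv_mem hg)).1 (this ▸ sub_gen h4))

/-- all points below a bound -/
def msk (m : ℕ) : ℕ := Nat.sub (Nat.pow 2 m) 1

theorem msk_iff {m p : ℕ} : (msk m).testBit p ↔ p < m :=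
  (Bool.eq_iff_iff.1 (Nat.testBit_two_pow_sub_one m p)).trans decide_eq_true_iff

theorem sys0 : Sys J0 (msk 3510) := sys_of (rl := [0, 2, 1, 3, 4, 7, 5, 8, 3, 2, 6, 4, 7, 3, 1, 5, 4, 2, 7, 8, 3, 5, 1, 0, 6, 7, 8, 2, 4, 3, 1, 5, 0, 6, 2, 7, 1, 3, 2]) (by decide +kernel)

theorem sys1 : Sys J1 Om1 := sys_of (rl := [1, 0, 2, 3, 6, 1, 4, 7, 2, 5, 3, 6, 1, 2, 4, 3, 1, 6, 0, 7, 4, 2, 5, 1, 0]) (by decide +kernel)

theorem three_pts {J : List ℕ} {W : List (List ℕ)} {a b c : ℕ} (hW : ∀ w ∈ W, ev S w ∈ sub σ J ∧ ev S w a = a)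
    (l : List ℕ) (p : ℕ) (hp : (reach S W l (Nat.lor (Nat.pow 2 a) (Nat.lor (Nat.pow 2 b) (Nat.pow 2 c)))).testBit p) :
    ∃ g ∈ sub σ J, g a = a ∧ (g p = a ∨ g p = b ∨ g p = c) := by
  refine wf.reach (P := fun p => ∃ g ∈ sub σ J, g a = a ∧ (g p = a ∨ g p = b ∨ g p = c)) ?_ _ _ ?_ p hp
  · rintro w hw p ⟨g, hg, h1, h2⟩
    exact ⟨g * ev S w, mul_mem hg (hW w hw).1, by rw [Perm.mul_apply, (hW w hw).2, h1], h2⟩
  · intro p hp
    simp only [tbLor, tbPow, Bool.or_eq_true, decide_eq_true_eq] at hp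
    exact ⟨1, one_mem _, rfl, by simpa [eq_comm] using hp⟩

theorem orb0 (p : ℕ) (hp : (msk 3510).testBit p) : ∃ g ∈ G0, g (pt 0) = pt 0 ∧ (g p = pt 0 ∨ g p = pt 1 ∨ g p = pt 2) :=
  three_pts (fun w hw => ⟨ev_mem w, by
    have h4 : ∀ w ∈ [[2], [3], [4], [5], [6], [7], [8], [9]], ∃ s ∈ [0, 2, 3, 4, 5, 6, 7, 8, 9], w = [s] := by decide
    obtain ⟨s, hs, rfl⟩ := h4 w hw
    rw [ev_cons, ev_nil, mul_one]
    exact (σ_zero s hs).2⟩) _ p (covers_spec c_orb0 p (msk_iff.1 hp))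

theorem orb1 (p : ℕ) (hp : Om1.testBit p) :
    ∃ g ∈ sub σ J1, g (pt 6) = pt 6 ∧ (g p = pt 6 ∨ g p = pt 5 ∨ g p = pt 1) := by
  have := c_orb1
  rw [Bool.and_eq_true, List.all_eq_true] at this
  have h1 : ∀ w ∈ W1, ∀ s ∈ w, s ∈ J1 := by decide +kernel
  have h2 := congrArg (·.testBit p) (Nat.eq_of_beq_eq_true this.1)
  simp only [tbLor, hp, Bool.or_true] at h2
  exact three_pts (fun w hw => ⟨sub_word (h1 w hw), wf.pt (this.2 w hw)⟩) _ p h2.symm

theorem mv_ne {w : List ℕ} {p : ℕ} (h : tb (apW S w (Nat.pow 2 p)) p = false) : ev S w p ≠ p := fun e => by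
  rw [tb_eq, wf.apW, e, tbPow] at h
  simp at h

theorem τ_inj {p q : ℕ} (hp : p < 3510) (hq : q < 3510) (h : τ p = τ q) : p = q := by
  obtain ⟨g, hg, e⟩ := sys0.tr p 0 (msk_iff.2 hp) (msk_iff.2 (by norm_num))
  obtain ⟨c, hc, h1, h2⟩ := orb0 (g q) (msk_iff.2 (G_lt hg hq))
  have h3 : τ (c (g q)) = σ 0 := by
    rw [← τ_conj hc _ (G_lt hg hq), ← τ_conj hg q hq, ← h, τ_conj hg p hp, e, τ_conj hc 0 (by norm_num)]
    exact (congrArg τ h1).trans τ_zero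
  rcases h2 with h2 | h2 | h2
  · exact g.injective (e.trans (c.injective (h2.trans h1.symm)).symm)
  · rw [h2, (isPt 1 (by norm_num)).1] at h3
    exact absurd (by simpa [h3] using (σ_zero 0 (by simp)).2) (mv_ne (w := [1]) (p := 0) (by decide +kernel))
  · rw [h2, (isPt 2 (by norm_num)).1] at h3
    have h4 : ev S [0] 16 = 16 := wf.pt (by decide +kernel)
    exact absurd (by simpa [h3] using h4) (mv_ne (w := [2]) (p := 16) (by decide +kernel))

theorem fix_iff {g : Perm ℕ} (hg : g ∈ G0) {p : ℕ} (hp : p < 3510) : g p = p ↔ Commute g (τ p) := by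
  rw [Commute, SemiconjBy, ← mul_inv_eq_iff_eq_mul, τ_conj hg p hp]
  exact ⟨congrArg τ, τ_inj (G_lt hg hp) hp⟩

theorem base {g : Perm ℕ} (hg : g ∈ G0) (h : ∀ s ∈ J0, Commute g (σ s)) : g = 1 := by
  have h1 : G0 ≤ Subgroup.centralizer {g} := sub_le fun s hs => Subgroup.mem_centralizer_singleton_iff.2 (h s hs).symm
  ext p
  by_cases hp : p < 3510
  · exact (fix_iff hg hp).2 (Subgroup.mem_centralizer_singleton_iff.1 (h1 (sys0.mem p (msk_iff.2 hp)))).symm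
  · exact G0_le hg p (by omega)

theorem base1 {g : Perm ℕ} (hg : g ∈ G0) (h : ∀ s ∈ J1, Commute g (σ s)) : g = 1 := by
  refine base hg fun s hs => (List.mem_cons.1 hs).elim (fun e => ?_) (h s)
  rw [e, ← τ_zero, ← fix_iff hg (by norm_num)]
  have h1 := covers_spec c_fix _ (G_lt hg (show 0 < 3510 by norm_num))
  have h2 : ∀ s ∈ [2, 3, 4, 5, 6, 7, 8], (mv S 12 [s] 12).testBit (g 0) = false := fun s hs => by
    have h3 : ∀ s ∈ [2, 3, 4, 5, 6, 7, 8], s ∈ J1 ∧ s ∈ [0, 2, 3, 4, 5, 6, 7, 8, 9] := by decide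
    rw [wf.mv, ev_cons, ev_nil, mul_one, ← Perm.mul_apply, ← (h s (h3 s hs).1).eq, Perm.mul_apply,
      (σ_zero s (h3 s hs).2).2]
  generalize [2, 3, 4, 5, 6, 7, 8] = l at h1 h2
  induction l with
  | nil => simpa [Nat.testBit_one_eq_true_iff_self_eq_zero] using h1
  | cons s l ih =>
    rw [List.foldr_cons, tbLor, h2 s (by simp), Bool.false_or] at h1
    exact ih h1 fun t ht => h2 t (List.mem_cons_of_mem _ ht)

theorem Sys.inj {J : List ℕ} {Om : ℕ} (h : Sys J Om) {a b c : ℕ} (ha : a ∈ J) (hb : b ∈ J) (hc : c ∈ J)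
    (ho : ∀ p, Om.testBit p → ∃ g ∈ sub σ J, g (pt a) = pt a ∧ (g p = pt a ∨ g p = pt b ∨ g p = pt c))
    (hz : ∀ g ∈ G0, (∀ s ∈ J, Commute g (σ s)) → g = 1) {Q : Type*} [Group Q] (φ : sub σ J →* Q)
    (h1 : φ ⟨_, sub_gen hb⟩ ≠ φ ⟨_, sub_gen ha⟩) (h2 : φ ⟨_, sub_gen hc⟩ ≠ φ ⟨_, sub_gen ha⟩) :
    Function.Injective φ := by
  refine (injective_iff_map_eq_one _).2 fun z e => Subtype.ext (hz _ (le_G0 J z.2) fun s hs => ?_)
  obtain ⟨g, hg, e1⟩ := h.tr _ _ (h.gen a ha).2 (h.gen s hs).2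
  have h3 := isPt a (h.gen a ha).1
  rw [← (isPt s (h.gen s hs).1).1, ← fix_iff (le_G0 J z.2) (isPt s (h.gen s hs).1).2, ← e1]
  obtain ⟨y, hy⟩ : ∃ y : sub σ J, y = ⟨g, hg⟩⁻¹ * z * ⟨g, hg⟩ := ⟨_, rfl⟩
  have h4 : φ y = 1 := by simp [hy, e]
  obtain ⟨c', hc', h5, h6⟩ := ho _ (h.inv _ y.2 _ (h.gen a ha).2)
  have h7 : ∀ s (hs : s ∈ J), c' (y.1 (pt a)) = pt s → φ ⟨_, sub_gen hs⟩ = φ ⟨_, sub_gen ha⟩ := fun s hs e => by
    have h8 : (⟨_, sub_gen hs⟩ : sub σ J) = ⟨c', hc'⟩ * (y * ⟨_, sub_gen ha⟩ * y⁻¹) * (⟨c', hc'⟩ : sub σ J)⁻¹ :=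
      Subtype.ext (by
        change σ s = c' * (y.1 * σ a * y.1⁻¹) * c'⁻¹
        rw [← h3.1, τ_conj (le_G0 J y.2) _ h3.2, τ_conj (le_G0 J hc') _ (G_lt (le_G0 J y.2) h3.2), e,
          (isPt s (h.gen s hs).1).1])
    have h9 : (⟨c', hc'⟩ * ⟨_, sub_gen ha⟩ * (⟨c', hc'⟩ : sub σ J)⁻¹ : sub σ J) = ⟨_, sub_gen ha⟩ :=
      Subtype.ext (by
        change c' * σ a * c'⁻¹ = σ a
        rw [← h3.1, τ_conj (le_G0 J hc') _ h3.2, h5])
    rw [h8]
    conv_rhs => rw [← h9]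
    simp only [map_mul, map_inv, h4, one_mul, inv_one, mul_one]
  rcases h6 with h6 | h6 | h6
  · have := c'.injective (h6.trans h5.symm)
    rw [hy] at this
    exact Perm.inv_eq_iff_eq.1 this
  · exact absurd (h7 b hb h6) h1
  · exact absurd (h7 c hc h6) h2

end Cfsg.Agent.H4.Fi
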