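import Cfsg.Agent.H4.FiF
import Cfsg.Agent.H4.FiM

/-!
Three classes of subgroups generated by root involutions.
-/

set_option autoImplicit false

namespace Cfsg.Agent.H4.Fi

open BP Cfsg.Lie

theorem sub_all {Γ : Type*} [Group Γ] {g : ℕ → Γ} {J : List ℕ} {H : Subgroup (sub g J)}
    (h : ∀ s (hs : s ∈ J), ⟨g s, sub_gen hs⟩ ∈ H) (p : sub g J) : p ∈ H := by
  obtain ⟨q, hq, e⟩ := sub_le (H := H.map (Subgroup.subtype _)) (fun s hs => ⟨_, h s hs, rfl⟩) p.2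
  exact (show q = p from Subtype.ext e) ▸ hq

theorem gE_R1 {K : Type*} [Field K] [CharP K 2] {ω : K} (hω : ω * ω = ω + 1) : ∀ w ∈ R1, (w.map (gE ω)).prod = 1 :=
  fun w hw => by
    rw [← List.take_append_drop 28 R1, List.mem_append] at hw
    exact gE_rel hω (hw.elim (List.all_eq_true.1 e_R1a w) (List.all_eq_true.1 e_R1b w))

theorem three_sub {K : Type*} [Field K] [CharP K 2] (h3 : ∀ c : K, c ≠ 0 → c ^ 3 = 1) {ω : K} (hω : ω * ω = ω + 1)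
    {J : List ℕ} {Om : ℕ} (h : Sys J Om) (hI : Inj (gE ω) S J) {a b c : ℕ} (ha : a ∈ J) (hb : b ∈ J) (hc : c ∈ J)
    (ho : ∀ p, Om.testBit p → ∃ g ∈ sub σ J, g (pt a) = pt a ∧ (g p = pt a ∨ g p = pt b ∨ g p = pt c))
    (hz : ∀ g ∈ G0, (∀ s ∈ J, Commute g (σ s)) → g = 1) (h1 : gE ω b ≠ gE ω a) (h2 : gE ω c ≠ gE ω a)
    (hJ : ∀ s ∈ [3, 4, 5, 6, 7, 8], s ∈ J) {n : ℕ} (hn : ¬ 3 ∣ n)
    (hA : ∀ φ : MulAut (sub σ J), ∃ h u : sub σ J, ∀ g, ((MulAut.conj h * φ) ^ n) g = u * g * u⁻¹) :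
    ∃ H : Fin 3 → Subgroup (twistedE6 K 2), (∀ i, Nonempty (H i ≃* sub σ J)) ∧
      ∀ i j, i ≠ j → ∀ g : twistedE6 K 2, (H i).map (MulAut.conj g).toMonoidHom ≠ H j := by
  obtain ⟨π, hπ⟩ := hI.hom
  have h4 : ∀ p, π p ∈ twistedE6 K 2 := sub_all (H := (twistedE6 K 2).comap π) fun s hs => by
    rw [Subgroup.mem_comap, hπ s hs]; exact gE_mem ω s
  have h5 := h.inj ha hb hc ho hz π (by rwa [hπ a ha, hπ b hb]) (by rwa [hπ a ha, hπ c hc])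
  refine E6T.three h3 hω π h5 h4 hn hA fun z N h hz => gE_fix hω z N h fun s hs => ?_
  rw [← hπ s (hJ s hs)]
  exact hz _

end Cfsg.Agent.H4.Fi
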