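import Cfsg.Agent.H4.FiTop
import Cfsg.Agent.H4.FiG
import Cfsg.Agent.H8.Values
import Cfsg.Agent.H8.Transfer

/-!
The subgroup of `Fi₂₂` generated by eight of the generators is the orthogonal group `Ω₇(3)`.
-/

set_option autoImplicit false
set_option maxRecDepth 100000

namespace Cfsg.Agent.H4.Fi.O7

open BP H8 QuadraticMap

/-- the index set -/
abbrev I : Type := Unit ⊕ (Fin 3 ⊕ Fin 3)

/-- the space -/
abbrev V : Type := I → ZMod 3

/-- the position of a coordinate -/
def ps : I → ℕ := Sum.elim (fun _ => 0) (Sum.elim (fun i => i + 1) fun i => i + 4)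

/-- a digit -/
def dg (c k : ℕ) : ℕ := Nat.div c (Nat.pow 3 k)

/-- the vector with a given code -/
def toW (c : ℕ) : V := fun i => (dg c (ps i) : ZMod 3)

/-- the code with given digits -/
def ofF (f : ℕ → ℕ) : ℕ := f 0 % 3 + 3 * (f 1 % 3 + 3 * (f 2 % 3 + 3 * (f 3 % 3 + 3 * (f 4 % 3 + 3 * (f 5 % 3 +
  3 * (f 6 % 3))))))

theorem toW_ofF (f : ℕ → ℕ) (i : I) : toW (ofF f) i = f (ps i) := by
  refine (ZMod.natCast_eq_natCast_iff' _ _ 3).2 ?_
  have h : ∀ i, ps i < 7 := by decide
  have := h i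
  change ofF f / 3 ^ ps i % 3 = _
  generalize ps i = k at *
  unfold ofF
  interval_cases k <;> omega

theorem exists_code (v : V) : ∃ c < 2187, v = toW c := by
  refine ⟨ofF fun k => (v (gt [.inl (), .inr (.inl 0), .inr (.inl 1), .inr (.inl 2), .inr (.inr 0), .inr (.inr 1)]
    (.inr (.inr 2)) k)).val, by unfold ofF; omega, funext fun i => ?_⟩
  rw [toW_ofF, ZMod.natCast_zmod_val]
  rcases i with i | i | i
  · rfl
  all_goals fin_cases i <;> rfl

/-- the bilinear form -/
def bN (x u : ℕ) : ℕ := 2 * dg x 0 * dg u 0 + (dg x 1 * dg u 4 + dg x 4 * dg u 1) + (dg x 2 * dg u 5 + dg x 5 * dg u 2) +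
  (dg x 3 * dg u 6 + dg x 6 * dg u 3)

/-- the quadratic form -/
def qN (x : ℕ) : ℕ := (dg x 0 * dg x 0 + dg x 1 * dg x 4 + dg x 2 * dg x 5 + dg x 3 * dg x 6) % 3

/-- minus a reflection -/
noncomputable def nrN (u x : ℕ) : ℕ := force (bN x u % 3) fun b => ofF fun k => 2 * dg x k + 2 * b * dg u k

/-- the vectors of the generating reflections -/
noncomputable def uN : ℕ → ℕ := gt [1485, 1485, 1728, 495, 408, 838, 757, 1756] 1513

/-- evaluation of a word -/
noncomputable def evN (w : List ℕ) (x : ℕ) : ℕ :=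
  List.rec (motive := fun _ => ℕ) x (fun s _ ih => force ih (nrN (uN s))) w

/-- the points reached along a tree -/
noncomputable def orbN (l : List ℕ) : ℕ → ℕ :=
  List.rec (motive := fun _ => ℕ → ℕ) id (fun a _ ih M => force (Bool.rec M
    (Nat.lor M (Nat.pow 2 (nrN (uN (a % 16)) (a / 16)))) (tb M (a / 16))) ih) l

theorem c_rel : R1.all (fun w => allLt (fun k => Nat.beq (evN w (3 ^ k)) (3 ^ k)) 7) = true := by decide +kernel

/-- the tree -/
def trN : List ℕ := [23762, 23763, 31537, 31539, 31540, 27651, 27652, 12674, 12676, 12679, 12818, 12820, 12821, 12823, 24052, 24055,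
  33221, 33223, 8968, 7921, 7924, 7927, 30435, 30437, 30439, 23911, 15720, 19205, 19207, 4488, 27430, 27431, 11011,
  11016, 4180, 4183, 1683, 1685, 1687, 12419, 12424, 21989, 21991, 8630, 8631, 28931, 28936, 31432, 19862, 19863,
  6467, 6472, 9047, 28051, 28056, 10210, 10216, 2787, 2789, 2791, 24355, 24360, 6533, 12310, 12311, 30888, 28104,
  4966, 4967, 22243, 22248, 15783, 31763, 31768, 18504, 4551, 20531, 20536, 7266, 7272, 31299, 31304, 16786, 16788,
  16792, 34920, 30183, 9173, 24614, 24615, 21592, 19912, 32100, 32102, 12503, 8184, 31991, 31511, 16819, 16824, 32680,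
  4707, 4712, 20564, 20568, 9767, 15939, 15944, 31794, 31796, 31800, 17560, 20999, 19682, 19684, 19688, 4148, 4152,
  29160, 8887, 29639, 16052, 16054, 24423, 4120, 16023, 13414, 16184, 8835, 8840, 28020, 28024, 7719, 5092, 5096,
  34552, 15895, 27554, 27556, 27560, 8148, 8152, 23320, 4663, 22839, 20212, 20216, 34085, 34088, 16775, 3011, 3016,
  32311, 11191, 2931, 26822, 32360, 14709, 8452, 8456, 17928, 31351, 5813, 5816, 20583, 28711, 28324, 28328, 17045,
  17048, 31815, 1507, 1512, 16231, 6247, 1539, 25683, 25685, 25688, 4167, 4984, 29175, 5255, 5256, 13591, 24467,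
  13187, 5284, 25525, 11621, 11624, 28007, 22423, 19848, 34535, 3859, 15075, 15077, 15080, 8135, 8616, 23303, 10503,
  10504, 27175, 12451, 26323, 10420, 22565, 22567, 22568, 24600, 2999, 24563, 31527, 3443, 26888, 34663, 18979, 19940,
  33810, 1397, 27448, 17943, 1955, 4535, 24835, 5698, 29429, 29431, 29432, 12328, 1527, 12355, 15767, 2371, 13448,
  17335, 33491, 28212, 16930, 2645, 16068, 16071, 16072, 1384, 5271, 24407, 21379, 16100, 23955, 6114, 1367, 9139,
  29746, 29748, 34597, 9585, 12166, 9063, 14675, 11346, 24147, 22162, 26033, 32084, 32087, 32088, 2712, 10487, 12519,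
  31091, 32052, 12915, 10930, 2727, 6611, 22722, 22724, 17301, 7457, 24326, 26807, 26808, 12232, 20007, 14791, 18675,
  4275, 34834, 34836, 29413, 20402, 20404, 18273, 30771, 2866, 2868, 3713, 3716, 13557, 30710, 12723, 28578, 13041,
  16466, 16468, 2225, 13431, 13432, 24264, 28151, 25543, 33315, 7971, 17634, 17636, 22485, 27698, 27700, 32465, 21219,
  1650, 1652, 2097, 2100, 27109, 21190, 33283, 33288, 25511, 12183, 19955, 9155, 25826, 25828, 4226, 4228, 24977,
  24980, 14997, 32006, 20353, 20356, 13730, 13732, 21953, 21956, 10677, 13332, 11125, 13702, 31634, 31636, 3153,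
  12625, 12628, 18611, 18616, 14727, 24311, 28195, 6595, 14930, 14932, 8018, 8020, 14529, 14532, 25669, 16006, 27745,
  27748, 27026, 27028, 30513, 30516, 5365, 26180, 6213, 26966, 14866, 14872, 30695, 34579, 16115, 24450, 24452, 2850,
  2852, 7585, 7588, 17429, 24001, 24004, 5381, 3300, 17029, 12262, 16516, 34131, 18385, 18388, 29525, 19284, 33011,
  33013, 18726, 28677, 18326, 23809, 23812, 12580, 32835, 25794, 25800, 21207, 17315, 32035, 12466, 12468, 1666, 1668,
  9841, 9844, 34853, 12865, 12868, 10757, 2516, 34005, 24518, 31588, 17715, 32737, 32740, 22757, 33188, 19315, 19317,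
  33558, 22357, 32710, 9809, 9816, 13719, 29395, 13570, 13572, 24546, 24548, 31473, 31476, 18997, 21969, 21972, 10693,
  21076, 7203, 7205, 8086, 24100, 19395, 19397, 33686, 11541, 8534, 28947, 13975, 10276, 30099, 30101, 9398, 30547,
  30549, 23061, 5910, 10246, 23860, 19011, 30243, 15271, 7521, 7528, 26951, 22499, 27090, 27092, 12370, 12372, 15809,
  15812, 33477, 30497, 30500, 5349, 30052, 10083, 10085, 4070, 12772, 33027, 33029, 18790, 5797, 4918, 22899, 26647,
  6646, 11382, 7094, 10515, 15010, 15012, 11105, 11108, 29733, 5025, 5028, 21397, 4580, 13171, 13173, 10598, 19268,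
  32995, 32997, 28230, 32547, 32549, 6341, 31718, 21795, 21797, 29285, 29287, 11446, 27382, 34294, 33846, 7638, 21603,
  25351, 5475, 25650, 25652, 6225, 6228, 22741, 8561, 8564, 31077, 9012, 26339, 26341, 5590, 19333, 20166, 18437,
  10949, 16726, 30627, 30629, 23141, 23143, 6038, 19766, 9220, 17012, 34821, 28692, 3731, 3733, 9334, 19796, 3427,
  3429, 17670, 3875, 3877, 33829, 33831, 14230, 30565, 23077, 27510, 22181, 27958, 20468, 20470, 34373, 17270, 9782,
  9783, 6772, 34020, 17653, 22340, 2083, 2085, 6854, 27492, 2387, 2389, 34758, 1939, 1941, 16917, 16919, 26582, 27972,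
  18053, 33910, 7702, 7703, 9413, 24995, 24997, 31014, 13315, 13317, 9573, 9575, 15494, 24851, 24853, 6133, 6135,
  14454, 5685, 15350, 30324, 30326, 30327, 15844, 16740, 25478, 30166, 18519, 6725, 14515, 14517, 21414, 26195, 26197,
  7477, 7479, 25318, 14659, 10917, 10919, 11365, 21716, 21718, 21719, 21014, 32663, 29654, 18261, 2406, 29938, 29941,
  29943, 14086, 29060, 29062, 29063, 22149, 32500, 32502, 32503, 32948, 32950, 19078, 19079, 9607, 22822, 32485, 3366,
  20802, 20805, 20807, 26726, 22980, 22982, 22983, 18199, 32967, 7399, 10852, 10854, 1797, 34212, 34214, 34215, 13958,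
  13959, 33751, 20839, 30311, 10039]

theorem c_orb : force (orbN trN (Nat.pow 2 1485)) (fun M => allLt (fun c => !Nat.beq (qN c) 2 || tb M c) 2187) = true := by
  decide +kernel

variable {Q : QuadraticForm (ZMod 3) V}

/-- minus a reflection -/
def nr (Q : QuadraticForm (ZMod 3) V) (v : V) : V ≃ₗ[ZMod 3] V := LinearEquiv.neg _ * refl Q v

theorem nr_apply (v x : V) : nr Q v x = -refl Q v x := rfl

theorem nr_mem (v : V) : nr Q v ∈ OG Q := fun x => by rw [nr_apply, Q_neg, refl_mem_OG]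

theorem nr_mul (u v : V) : nr Q u * nr Q v = refl Q u * refl Q v :=
  LinearEquiv.ext fun x => by simp [nr_apply]

theorem nr_conj {g : V ≃ₗ[ZMod 3] V} (hg : g ∈ OG Q) (v : V) : g * nr Q v * g⁻¹ = nr Q (g v) :=
  LinearEquiv.ext fun x => by rw [nr_apply, ← refl_conj hg]; simp [nr_apply]

variable (hQ : ⇑Q = quadFormOdd 3 (ZMod 3))
include hQ

theorem Q_toW (x : ℕ) : Q (toW x) = qN x := by
  simp [hQ, quadFormOdd, qN, toW, ps, Fin.sum_univ_three, pow_two, add_assoc]

theorem nr_toW {u : ℕ} (hu : Q (toW u) = 2) (x : ℕ) : nr Q (toW u) (toW x) = toW (nrN u x) := by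
  have h1 : polar Q (toW x) (toW u) = bN x u := by
    rw [hQ, polar_quadFormOdd]
    simp [bN, toW, ps, Fin.sum_univ_three, add_assoc]
  ext i
  rw [nrN, force_eq, toW_ofF, nr_apply, refl_apply, hu, h1]
  simp only [toW, Pi.neg_apply, Pi.sub_apply, Pi.smul_apply, smul_eq_mul, Nat.cast_add, Nat.cast_mul, Nat.cast_ofNat,
    ZMod.natCast_mod]
  exact (by decide +kernel : ∀ a b c : ZMod 3, -(a - c / 2 * b) = 2 * a + 2 * c * b) _ _ _

theorem Q_uN (s : ℕ) : Q (toW (uN s)) = 2 := by
  have : ∀ u ∈ [1513, 1485, 1485, 1728, 495, 408, 838, 757, 1756], qN u = 2 := by decide +kernel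
  rw [Q_toW hQ, this (uN s) (List.mem_cons.2 (gt_mem ..))]; rfl

/-- the generators -/
noncomputable def gO (Q : QuadraticForm (ZMod 3) V) (s : ℕ) : V ≃ₗ[ZMod 3] V := nr Q (toW (uN s))

theorem evN_spec (w : List ℕ) (x : ℕ) : (w.map (gO Q)).prod (toW x) = toW (evN w x) := by
  induction w with
  | nil => rfl
  | cons s w ih =>
    rw [List.map_cons, List.prod_cons, LinearEquiv.mul_apply, ih, gO, nr_toW hQ (Q_uN hQ s)]
    exact congrArg toW (force_eq ..).symm

theorem gO_R1 (w : List ℕ) (hw : w ∈ R1) : (w.map (gO Q)).prod = 1 := by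
  refine LinearEquiv.toLinearMap_injective ((Pi.basisFun (ZMod 3) I).ext fun i => ?_)
  have h1 : ∀ i : I, ps i < 7 ∧ Pi.single i 1 = toW (3 ^ ps i) := by decide +kernel
  have := congrArg toW (Nat.eq_of_beq_eq_true (allLt_spec (List.all_eq_true.1 c_rel w hw) _ (h1 i).1))
  rw [← evN_spec hQ, ← (h1 i).2] at this
  simpa using this

theorem nr_mem_sub (v : V) (hv : Q v = 2) : nr Q v ∈ sub (gO Q) J1 := by
  have h1 : ∀ (l : List ℕ) M, (∀ a ∈ l, a % 16 ∈ J1) → (∀ c, M.testBit c → nr Q (toW c) ∈ sub (gO Q) J1) →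
      ∀ c, (orbN l M).testBit c → nr Q (toW c) ∈ sub (gO Q) J1 := fun l => by
    induction l with
    | nil => exact fun M _ h => h
    | cons a l ih =>
      intro M hl h
      change ∀ c, (force (Bool.rec M _ (tb M (a / 16))) (orbN l)).testBit c → _
      rw [force_eq]
      refine ih _ (fun b hb => hl b (List.mem_cons_of_mem _ hb)) fun c hc => ?_
      cases e : tb M (a / 16) <;> rw [e] at hc
      · exact h c hc
      · rw [tbLor, tbPow, Bool.or_eq_true, decide_eq_true_eq] at hc
        refine hc.elim (h c) fun e' => ?_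
        have h2 := sub_gen (g := gO Q) (hl a (by simp))
        rw [← e', ← nr_toW hQ (Q_uN hQ _), ← nr_conj (nr_mem _)]
        exact mul_mem (mul_mem h2 (h _ (tb_eq .. ▸ e))) (inv_mem h2)
  obtain ⟨c, hc, rfl⟩ := exists_code v
  have h2 := allLt_spec ((force_eq ..).symm.trans c_orb) c hc
  refine h1 trN (Nat.pow 2 1485) (by decide +kernel) (fun c hc => ?_) c ?_
  · rw [tbPow, decide_eq_true_eq] at hc
    exact hc ▸ sub_gen (g := gO Q) (s := 1) (by decide)
  · have h3 : qN c < 3 := Nat.mod_lt _ (by norm_num)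
    rw [Q_toW hQ] at hv
    have h4 : qN c = 2 := by generalize qN c = a at *; interval_cases a <;> first | rfl | cases hv
    rwa [h4, tb_eq] at h2

theorem sub_eq (hN : ND Q) : sub (gO Q) J1 = Om Q := by
  have h7 : 7 ≤ Module.finrank (ZMod 3) V := (finrank_odd_space 3).ge
  have h1 : ∀ s t, gO Q s * gO Q t ∈ Om Q := fun s t =>
    nr_mul (Q := Q) _ _ ▸ refl_mul_refl_mem_Om hN (by omega) ((Q_uN hQ s).trans (Q_uN hQ t).symm)
  have h2 : ∀ s (w : List ℕ), gO Q s ^ w.length * (w.map (gO Q)).prod ∈ Om Q := fun s w => by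
    induction w with
    | nil => simp
    | cons t w ih =>
      have := mul_mem (Om_conj (pow_mem (nr_mem (toW (uN s))) w.length) (h1 s t)) ih
      rw [List.length_cons, List.map_cons, List.prod_cons, pow_succ]
      simpa [gO, mul_assoc] using this
  refine le_antisymm (sub_le fun s _ => ?_) (Om_le_of_normalized hN h7 (sub_le fun s _ => nr_mem _)
    (fun g hg x hx => sub_le (H := (sub (gO Q) J1).comap (MulAut.conj g).toMonoidHom) (fun s _ => ?_) hx)
    (sub_gen (s := 1) (by decide)) fun ⟨c, hc⟩ => ?_)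
  · have := h2 s (rp [1, 2, 3, 4, 5, 6, 7] 9)
    rwa [gO_R1 hQ _ (by decide +kernel), mul_one, show (rp [1, 2, 3, 4, 5, 6, 7] 9).length = 2 * 31 + 1 from rfl,
      pow_succ, pow_mul, pow_two, gO, nr_mul, refl_mul_self, one_pow, one_mul] at this
  · change g * nr Q _ * g⁻¹ ∈ sub (gO Q) J1
    rw [nr_conj (Om_le_OG hg)]
    exact nr_mem_sub hQ _ ((Om_le_OG hg _).trans (Q_uN hQ s))
  · have := congrFun (hc (toW 27)) (.inr (.inr 2))
    rw [gO, nr_toW hQ (Q_uN hQ 1)] at this
    clear hc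
    revert c
    decide +kernel

omit hQ in
theorem iso1 : Nonempty (sub σ J1 ≃* Omega (ZMod 3) (quadFormOdd 3 (ZMod 3))) := by
  obtain ⟨Q, hQ, hN⟩ := exists_quadraticForm (quadFormOdd_nondeg (F := ZMod 3) 3 (by decide))
  obtain ⟨φ, hφ⟩ := (inj1 (g := gO Q) (fun s => by rw [gO, nr_mul, refl_mul_self]) (gO_R1 hQ)).hom
  have hn : ∀ s t k, toW (nrN (uN s) k) ≠ toW (nrN (uN t) k) → gO Q s ≠ gO Q t := fun s t k h e => h (by
    rw [← nr_toW hQ (Q_uN hQ s), ← nr_toW hQ (Q_uN hQ t), ← gO, e, gO])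
  have h1 := sys1.inj (a := 6) (b := 5) (c := 1) (by decide) (by decide) (by decide) orb1 (fun _ => base1) φ
    (by rw [hφ 5 (by decide), hφ 6 (by decide)]; exact hn 5 6 3 (by decide +kernel))
    (by rw [hφ 1 (by decide), hφ 6 (by decide)]; exact hn 1 6 1 (by decide +kernel))
  have h2 : φ.range = Om Q := sub_eq hQ hN ▸ le_antisymm
    (fun _ ⟨p, e⟩ => e ▸ sub_all (H := (sub (gO Q) J1).comap φ) (fun s hs => by
      rw [Subgroup.mem_comap, hφ s hs]; exact sub_gen hs) p) (sub_le fun s hs => ⟨_, hφ s hs⟩)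
  rw [← hQ]
  exact ⟨(((MonoidHom.ofInjective h1).trans (MulEquiv.subgroupCongr h2)).trans (toLE.symm.subgroupMap _)).trans
    ((MulEquiv.subgroupCongr ((Subgroup.comap_equiv_eq_map_symm' toLE _).symm.trans (omegaGL_eq Q).symm)).trans
      (Subgroup.equivMapOfInjective _ _ (Subgroup.subtype_injective _)).symm)⟩

end Cfsg.Agent.H4.Fi.O7
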