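import Cfsg.Agent.H4.FiM

/-!
Certificates for the automorphisms of groups generated by transpositions.
-/

set_option autoImplicit false

namespace Cfsg.Agent.H4.Fi

open BP Equiv Rigid

/-- test whether the two points of a set commute -/
noncomputable def cm (X : ℕ) (c : List ℕ × ℕ) (val : Bool) : Bool :=
  force (apW S c.1 X) fun Y => Nat.ble c.2 8 && tb Y (pt c.2) && (Nat.beq (apW S [c.2] Y) Y == val)

theorem cm_aux {p r s : ℕ} {g : Perm ℕ} (hg : g ∈ G0) (hr : r < 3510) (hs : s < 9) (e : g (pt s) = p) {Y : ℕ}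
    (hY : ∀ i, Y.testBit i ↔ g i = p ∨ g i = r) : σ s ∈ Stb Y ↔ Commute (τ p) (τ r) := by
  obtain ⟨r, rfl⟩ := g.surjective r
  have h1 : r < 3510 := by simpa using G_lt (inv_mem hg) hr
  have h2 := isPt s hs
  have h3 : σ s (pt s) = pt s := (fix_iff (σ_mem s) h2.2).2 (h2.1 ▸ Commute.refl _)
  simp only [← e, g.injective.eq_iff] at hY
  rw [← e, ← τ_conj hg _ h1, ← τ_conj hg _ h2.2, h2.1, Commute.conj_iff, ← fix_iff (σ_mem s) h1]
  refine ⟨fun h => ?_, fun h i => ?_⟩
  · rcases (hY _).1 ((h r).trans ((hY r).2 (Or.inr rfl))) with h4 | h4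
    · rw [(σ s).injective (h4.trans h3.symm), h3]
    · exact h4
  · rw [Bool.eq_iff_iff, hY, hY]
    conv_lhs => rw [← h3, ← h, (σ s).injective.eq_iff, (σ s).injective.eq_iff]

theorem cm_spec {p r X : ℕ} {c : List ℕ × ℕ} {val : Bool} (hp : p < 3510) (hr : r < 3510)
    (hX : ∀ i, X.testBit i ↔ i = p ∨ i = r) (h : cm X c val = true) : Commute (τ p) (τ r) ↔ val = true := by
  simp only [cm, force_eq, Bool.and_eq_true, Nat.ble_eq, tb_eq, beq_iff_eq] at h
  obtain ⟨⟨h1, h2⟩, h3⟩ := h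
  have hY : ∀ i, (apW S c.1 X).testBit i ↔ ev S c.1 i = p ∨ ev S c.1 i = r := fun i => by rw [wf.apW, hX]
  rw [← h3, Nat.beq_eq, ← wf.stb, ev_cons, ev_nil, mul_one]
  rcases (hY _).1 h2 with e | e
  · exact (cm_aux (ev_mem _) hr (by omega) e hY).symm
  · exact Commute.symm_iff.trans (cm_aux (ev_mem _) hp (by omega) e fun i => (hY i).trans or_comm).symm

theorem ev_rev (w : List ℕ) : (ev S w.reverse)⁻¹ = ev S w := inv_eq_iff_eq_inv.2 (prod_reverse σ_sq w)

/-- words in `x`, its inverse and `t` -/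
noncomputable def uw (x : List ℕ) (a : ℕ) (l : List ℕ) : List ℕ := l.flatMap (gt [x, x.reverse, [a]] [])

/-- test whether `p` commutes with a translate of `q` -/
noncomputable def tst (x : List ℕ) (a p q : ℕ) (l : List ℕ) (c : List ℕ × ℕ) (val : Bool) : Bool :=
  cm (Nat.lor (Nat.pow 2 p) (apW S (uw x a l) (Nat.pow 2 q))) c val

theorem tst_spec {x : List ℕ} {a p q : ℕ} {l : List ℕ} {c : List ℕ × ℕ} {val : Bool} (hp : p < 3510) (hq : q < 3510)
    (h : tst x a p q l c val = true) : Commute (τ p) (τ ((ev S (uw x a l))⁻¹ q)) ↔ val = true :=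
  cm_spec hp (G_lt (inv_mem (ev_mem _)) hq) (fun i => by
    rw [tbLor, wf.apW, tbPow, tbPow, Bool.or_eq_true, decide_eq_true_eq, decide_eq_true_eq, eq_comm,
      Perm.eq_inv_iff_eq, eq_comm (a := q)]) h

/-- a test with two certificates -/
abbrev Tst := List ℕ × Bool × (List ℕ × ℕ) × (List ℕ × ℕ)

/-- the check for a representative -/
noncomputable def repChk (x : List ℕ) (a : ℕ) (TL : List Tst) (r : ℕ × List ℕ × Bool × (List ℕ × ℕ)) : Bool :=
  (TL.map fun t => (t.1, t.2.1)).elem (r.2.1, r.2.2.1) && tst x a r.1 r.1 r.2.1 r.2.2.2 (!r.2.2.1)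

/-- the set of representatives -/
noncomputable def pts (l : List ℕ) : ℕ := l.foldr (fun a X => Nat.lor (Nat.pow 2 a) X) 0

theorem pts_spec {l : List ℕ} {p : ℕ} (h : (pts l).testBit p) : p ∈ l := by
  induction l with
  | nil => simp [pts] at h
  | cons a l ih =>
    rw [pts, List.foldr_cons, tbLor, tbPow, Bool.or_eq_true, decide_eq_true_eq] at h
    exact List.mem_cons.2 (h.imp Eq.symm ih)

/-- the global checks -/
noncomputable def rigChk (J : List ℕ) (Om : ℕ) (x : List ℕ) (l a b b₁ : ℕ) (TL tw : List Tst) (rs rU rG : List ℕ) :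
    Bool :=
  J.elem a && J.elem b && tb Om b₁ &&
    force (mv S 12 x 12) (fun X => sb Om (Nat.lor X (Nat.pow 2 (pt a))) && !tb X (pt a) && tb X (pt b)) &&
    TL.all (fun t => tst x a (pt b) (pt b) t.1 t.2.2.1 t.2.1 && tst x a b₁ b₁ t.1 t.2.2.2 t.2.1) &&
    (TL.map fun t => (t.1, t.2.1)).elem ([2], false) &&
    sb (Nat.land Om (mv S 12 [a] 12)) (reach S [x, [a]] rU (pts (pt b :: b₁ :: rs))) &&
    sb (pts (J.map pt)) (reach S [x, [a], [b]] rG (Nat.pow 2 (pt b))) &&
    (Nat.beq b₁ (pt b) || allLt (fun m => (fun t : Tst => tst x a (pt b) b₁ t.1 t.2.2.1 t.2.1 &&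
      tst x a b₁ (pt b) (List.replicate m 1 ++ t.1) t.2.2.2 (!t.2.1)) (gt tw ([], false, ([], 0), ([], 0)) m)) l)

open Classical in
/-- the transpositions as elements of the subgroup -/
noncomputable def τ' (J : List ℕ) (p : ℕ) : sub σ J := if h : τ p ∈ sub σ J then ⟨τ p, h⟩ else 1

theorem Sys.aut {J : List ℕ} {Om : ℕ} (h : Sys J Om) {x : List ℕ} {l n a b b₁ : ℕ} {TL tw : List Tst}
    {reps : List (ℕ × List ℕ × Bool × (List ℕ × ℕ))} {rU rG : List ℕ}
    (hc : rigChk J Om x l a b b₁ TL tw (reps.map Prod.fst) rU rG = true) (hr : ∀ r ∈ reps, repChk x a TL r = true)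
    (hx : ev S x ∈ sub σ J) (hl : l.Prime) (hl2 : l ≠ 2) (hn : n ≠ 0) (hxl : ev S x ^ l = 1)
    (hz : ∀ g ∈ G0, (∀ s ∈ J, Commute g (σ s)) → g = 1)
    (hy : ∀ i < l, i ≠ 0 → ∃ y ∈ sub σ J, ∃ m : ℕ, y * ev S x ^ i * y⁻¹ = ev S x ^ m ∧ m ^ n % l = 1)
    (φ : MulAut (sub σ J)) : ∃ h u : sub σ J, ∀ g, ((MulAut.conj h * φ) ^ (2 * n)) g = u * g * u⁻¹ := by
  simp only [rigChk, force_eq, Bool.and_eq_true, List.all_eq_true, List.elem_eq_mem, decide_eq_true_eq, tb_eq,
    Bool.not_eq_true', Bool.or_eq_true, Nat.beq_eq] at hc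
  obtain ⟨⟨⟨⟨⟨⟨⟨⟨ha, hb⟩, h1⟩, ⟨c1, c2⟩, c3⟩, c4⟩, c5⟩, c6⟩, c7⟩, c8⟩ := hc
  have e1 : ∀ p, Om.testBit p → (τ' J p).1 = τ p := fun p hp => by rw [τ', dif_pos (h.mem p hp)]
  have e2 : ∀ p q, Om.testBit p → Om.testBit q → (Commute (τ' J p) (τ' J q) ↔ Commute (τ p) (τ q)) :=
    fun p q hp hq => by rw [← e1 p hp, ← e1 q hq]; exact Subtype.ext_iff
  have ha' := (h.gen a ha).2
  have hb' := (h.gen b hb).2
  have e3 : ∀ s ∈ J, (τ' J (pt s)).1 = σ s := fun s hs => (e1 _ (h.gen s hs).2).trans (isPt s (h.gen s hs).1).1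
  have hxt : Commute (⟨_, hx⟩ : sub σ J) (τ' J (pt a)) := Subtype.ext (by
    have := (fix_iff (ev_mem x) (h.lt _ ha')).1 ((wf.mv x _).1 c2)
    rw [← e1 _ ha'] at this
    exact this)
  have e4 : ∀ v : List ℕ, ∃ u ∈ U hxt, u.1 = (ev S (uw x a v))⁻¹ := fun v => by
    induction v with
    | nil => exact ⟨1, one_mem _, rfl⟩
    | cons i v ih =>
      obtain ⟨u, hu, e⟩ := ih
      suffices ∃ u ∈ U hxt, u.1 = (ev S (gt [x, x.reverse, [a]] [] i))⁻¹ by
        obtain ⟨u', hu', e'⟩ := this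
        exact ⟨u * u', mul_mem hu hu', by rw [uw, List.flatMap_cons, ev_append, mul_inv_rev, ← e', ← uw, ← e]; rfl⟩
      rcases gt_mem [x, x.reverse, [a]] [] i with e | e
      · exact ⟨1, one_mem _, by rw [e]; rfl⟩
      simp only [List.mem_cons, List.not_mem_nil, or_false] at e
      rcases e with e | e | e <;> rw [e]
      · exact ⟨_, inv_mem (left_mem hxt), rfl⟩
      · exact ⟨_, left_mem hxt, (ev_rev x).symm⟩
      · exact ⟨_, right_mem hxt, by rw [e3 a ha, ev_cons, ev_nil, mul_one, σ_inv]⟩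
  have hΩ : ∀ g : sub σ J, ∀ p ∈ {p | Om.testBit p}, g • p ∈ {p | Om.testBit p} := fun g p hp => h.inv _ g.2 p hp
  have hτ : ∀ g : sub σ J, ∀ p ∈ {p | Om.testBit p}, g * τ' J p * g⁻¹ = τ' J (g • p) := fun g p hp =>
    Subtype.ext (by
      rw [e1 _ (hΩ g p hp), Subgroup.coe_mul, Subgroup.coe_mul, e1 p hp]
      exact τ_conj (le_G0 J g.2) p (h.lt p hp))
  refine aut_inner' (Ω := {p | Om.testBit p}) (τ := τ' J) (b₀ := pt b) (b₁ := b₁) hl hl2 hn (Subtype.ext hxl)
    (fun e => ?_) (Subtype.ext (by rw [Subgroup.coe_mul, e3 a ha]; exact σ_sq a)) (fun e => ?_) hxt hΩ hτ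
    (fun p hp q hq e => τ_inj (h.lt p hp) (h.lt q hq) (by rw [← e1 p hp, ← e1 q hq, e])) ha' hb' h1
    (fun p hp => ?_) (fun p hp e => ?_) (fun q hq c hc hu => ?_) (fun β f1 f2 f3 g => ?_) ?_
    (fun z e => Subtype.ext (hz _ (le_G0 J z.2) fun s hs => congrArg Subtype.val (e ⟨_, sub_gen hs⟩)))
    (fun i hi hi0 => ?_) φ
  · have : ev S x (pt b) = pt b := by rw [show ev S x = 1 from congrArg Subtype.val e]; rfl
    rw [← wf.mv, c3] at this
    cases this
  · obtain ⟨t, ht, e'⟩ := List.mem_map.1 c5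
    have := tst_spec (h.lt _ hb') (h.lt _ hb') (c4 t ht).1
    rw [show t.1 = [2] from (Prod.ext_iff.1 e').1, show t.2.1 = false from (Prod.ext_iff.1 e').2, show uw x a [2] = [a] from rfl, ev_cons, ev_nil, mul_one,
      show BP.gen S a = _ from (e3 a ha).symm, e] at this
    exact absurd (this.1 (Commute.refl _)) (by simp)
  · obtain ⟨g, hg, e⟩ := h.tr _ p ha' hp
    exact ⟨⟨g, hg⟩, e⟩
  · have := sb_spec c1 hp
    rwa [tbLor, (wf.mv x p).2 e, Bool.false_or, tbPow, decide_eq_true_eq, eq_comm] at this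
  · let Good : ℕ → Prop := fun p => ∀ t ∈ TL.map fun t => (t.1, t.2.1),
      (Commute (τ p) (τ ((ev S (uw x a t.1))⁻¹ p)) ↔ t.2 = true)
    have g1 : Good q := fun t ht => by
      obtain ⟨t, ht', rfl⟩ := List.mem_map.1 ht
      obtain ⟨u, hu', e⟩ := e4 t.1
      have hc' : Om.testBit c := by rcases hc with rfl | rfl <;> assumption
      have := hu u hu'
      rw [e2 _ _ hc' (hΩ u c hc'), e2 _ _ hq (hΩ u q hq)] at this
      change (Commute _ (τ (u.1 c)) ↔ Commute _ (τ (u.1 q))) at this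
      rw [← e, ← this, e]
      rcases hc with rfl | rfl
      exacts [tst_spec (h.lt _ hb') (h.lt _ hb') (c4 t ht').1, tst_spec (h.lt _ h1) (h.lt _ h1) (c4 t ht').2]
    have g2 : (mv S 12 [a] 12).testBit q := by
      rw [← Bool.not_eq_false, wf.mv]
      intro e
      have := g1 _ c5
      rw [show uw x a [2] = [a] from rfl, Perm.inv_eq_iff_eq.2 e.symm] at this
      exact absurd (this.1 (Commute.refl _)) (by simp)
    refine wf.reach (P := fun p => Om.testBit p → Good p → ∃ u ∈ U hxt, p = u • pt b ∨ p = u • b₁) ?_ _ _ ?_ q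
      (sb_spec c6 (by rw [Nat.land_eq, Nat.testBit_and, hq, g2]; rfl)) hq g1
    · intro w hw p ih hp hg
      obtain ⟨v, hv, e⟩ : ∃ v ∈ U hxt, v.1 = ev S w := by
        simp only [List.mem_cons, List.not_mem_nil, or_false] at hw
        rcases hw with rfl | rfl
        exacts [⟨_, left_mem hxt, rfl⟩, ⟨_, right_mem hxt, by rw [e3 a ha, ev_cons, ev_nil, mul_one]⟩]
      rw [← e] at ih
      obtain ⟨u, hu, e'⟩ := ih (hΩ v p hp) fun t ht => by
        obtain ⟨u, hu, e'⟩ := e4 t.1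
        have h2 : u.1 * v.1 = v.1 * u.1 := congrArg Subtype.val (U_comm' hu hv).eq
        rw [← hg t ht, ← e', ← Perm.mul_apply, h2, Perm.mul_apply, ← τ_conj (le_G0 J v.2) p (h.lt p hp),
          ← τ_conj (le_G0 J v.2) (u.1 p) (h.lt _ (hΩ u p hp)), Commute.conj_iff]
      refine ⟨v⁻¹ * u, mul_mem (inv_mem hv) hu, ?_⟩
      rw [mul_smul, mul_smul, eq_inv_smul_iff, eq_inv_smul_iff]
      exact e'
    · intro p hp hp' hg
      rcases List.mem_cons.1 (pts_spec hp) with rfl | hp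
      · exact ⟨1, one_mem _, Or.inl rfl⟩
      rcases List.mem_cons.1 hp with rfl | hp
      · exact ⟨1, one_mem _, Or.inr rfl⟩
      obtain ⟨r, hr', rfl⟩ := List.mem_map.1 hp
      have := hr r hr'
      simp only [repChk, Bool.and_eq_true, List.elem_eq_mem, decide_eq_true_eq] at this
      have h2 := (hg _ this.1).symm.trans (tst_spec (h.lt _ hp') (h.lt _ hp') this.2)
      simp at h2
  · have h2 : ∀ s (hs : s ∈ J), β ⟨_, sub_gen hs⟩ = ⟨_, sub_gen hs⟩ := fun s hs => by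
      rw [← show τ' J (pt s) = ⟨_, sub_gen hs⟩ from Subtype.ext (e3 s hs)]
      refine wf.reach (P := fun p => Om.testBit p → β (τ' J p) = τ' J p) ?_ _ _ ?_ _
        (sb_spec c7 ?_) (h.gen s hs).2
      · intro w hw p ih hp
        obtain ⟨v, hv, e⟩ : ∃ v : sub σ J, β v = v ∧ v.1 = ev S w := by
          simp only [List.mem_cons, List.not_mem_nil, or_false] at hw
          rcases hw with rfl | rfl | rfl
          exacts [⟨_, f1, rfl⟩, ⟨_, f2, by rw [e3 a ha, ev_cons, ev_nil, mul_one]⟩,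
            ⟨_, f3, by rw [e3 b hb, ev_cons, ev_nil, mul_one]⟩]
        rw [← e] at ih
        have := ih (hΩ v p hp)
        change β (τ' J (v • p)) = τ' J (v • p) at this
        rwa [← hτ v p hp, map_mul, map_mul, map_inv, hv, mul_left_inj, mul_right_inj] at this
      · intro p hp _
        rw [tbPow, decide_eq_true_eq] at hp
        exact hp ▸ f3
      · have := List.mem_map_of_mem (f := pt) hs
        generalize J.map pt = L at this
        induction L with
        | nil => cases this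
        | cons c L ih =>
          rw [pts, List.foldr_cons, tbLor, tbPow, Bool.or_eq_true, decide_eq_true_eq]
          exact (List.mem_cons.1 this).imp Eq.symm ih
    obtain ⟨g', e, e'⟩ := sub_le (H := (β.toMonoidHom.eqLocus (MonoidHom.id _)).map (Subgroup.subtype _))
      (fun s hs => ⟨_, h2 s hs, rfl⟩) g.2
    exact (show g' = g from Subtype.ext e') ▸ e
  · refine c8.imp id fun c8 m hm => ?_
    have := allLt_spec c8 m hm
    generalize gt tw ([], false, ([], 0), ([], 0)) m = t at this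
    rw [Bool.and_eq_true] at this
    obtain ⟨u, hu, e⟩ := e4 t.1
    refine ⟨u, hu, fun h2 => ?_⟩
    rw [e2 _ _ hb' (hΩ u _ h1), e2 _ _ h1 (hΩ _ _ hb')] at h2
    have h3 := tst_spec (h.lt _ hb') (h.lt _ h1) this.1
    have h4 := tst_spec (h.lt _ h1) (h.lt _ hb') this.2
    have h5 : (ev S (uw x a (List.replicate m 1 ++ t.1)))⁻¹ = u.1 * ev S x ^ m := by
      rw [uw, List.flatMap_append, ev_append, mul_inv_rev, ← uw, ← uw, ← e, mul_right_inj]
      clear hm this h2 h4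
      induction m with
      | zero => rfl
      | succ m ih =>
        rw [List.replicate_succ, uw, List.flatMap_cons, ev_append, mul_inv_rev, ← uw, ih, pow_succ, mul_right_inj,
          show gt [x, x.reverse, [a]] [] 1 = x.reverse from rfl, ev_rev]
    rw [← e] at h3
    rw [h5] at h4
    have h6 := h3.symm.trans (h2.trans h4)
    simp at h6
  · obtain ⟨y, hy, m, e, e'⟩ := hy i hi hi0
    exact ⟨⟨y, hy⟩, m, Subtype.ext e, e'⟩

end Cfsg.Agent.H4.Fi
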