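import Cfsg.Agent.H4.FiS1

/-!
Automorphisms of the group `Fi₂₂`.
-/

set_option autoImplicit false
set_option maxRecDepth 100000

namespace Cfsg.Agent.H4.Fi

open BP

/-- an element of order 11 -/
def x0 : List ℕ := [8, 9, 5, 4, 3, 2, 7, 6]

/-- tests -/
def TL0 : List Tst := [([2], false, ([], 1), ([], 1)),
  ([0], false, ([], 1), ([], 1)),
  ([0, 2], true, ([], 1), ([], 1)),
  ([0, 0], false, ([], 1), ([], 1)),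
  ([0, 0, 2], true, ([], 1), ([], 1)),
  ([0, 0, 0], false, ([], 1), ([], 1)),
  ([0, 0, 0, 0], true, ([], 1), ([], 1))]

/-- tests -/
def tw0 : List Tst := []

/-- representatives -/
def rs0 : List (ℕ × List ℕ × Bool × (List ℕ × ℕ)) := [(7, [0], false, ([3, 2], 1)),
  (11, [0], false, ([4, 3, 2], 1)),
  (19, [0, 0, 2], true, ([5, 4, 3, 2], 1)),
  (779, [0], false, ([8, 7, 3, 2], 1)),
  (2435, [0, 0, 2], true, ([6, 5, 4, 3, 2], 1)),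
  (32, [0, 2], true, ([7, 5, 4, 3, 2], 1)),
  (33, [0, 0], false, ([3, 7, 4, 3, 2], 1)),
  (34, [0, 2], true, ([8, 7, 4, 3, 2], 1)),
  (147, [0, 2], true, ([9, 5, 4, 3, 2], 1)),
  (153, [0], false, ([9, 8, 7, 3, 2], 1)),
  (178, [0, 2], true, ([3, 7, 5, 4, 3, 2], 1)),
  (51, [0, 2], true, ([8, 7, 5, 4, 3, 2], 1)),
  (53, [0, 2], true, ([8, 3, 7, 4, 3, 2], 1)),
  (316, [0, 2], true, ([9, 7, 5, 4, 3, 2], 1)),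
  (176, [0, 2], true, ([9, 6, 5, 4, 3, 2], 1)),
  (1324, [0, 2], true, ([8, 7, 6, 5, 4, 3, 2], 1)),
  (73, [0, 2], true, ([2, 3, 7, 5, 4, 3, 2], 1)),
  (74, [0, 2], true, ([4, 3, 7, 5, 4, 3, 2], 1)),
  (1164, [0], false, ([7, 8, 9, 5, 4, 3, 2], 1)),
  (772, [0, 0], false, ([9, 3, 7, 5, 4, 3, 2], 1)),
  (2181, [0, 2], true, ([5, 9, 8, 7, 4, 3, 2], 1)),
  (1927, [0, 2], true, ([4, 5, 9, 8, 7, 3, 2], 1)),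
  (245, [0], false, ([6, 5, 9, 8, 7, 3, 2], 1)),
  (1656, [0, 2], true, ([9, 8, 7, 5, 4, 3, 2], 1)),
  (399, [0, 2], true, ([5, 9, 7, 6, 5, 4, 3, 2], 1)),
  (180, [0, 2], true, ([6, 5, 9, 8, 7, 4, 3, 2], 1)),
  (1171, [0, 2], true, ([9, 8, 3, 7, 5, 4, 3, 2], 1)),
  (1953, [0, 2], true, ([4, 5, 9, 8, 7, 4, 3, 2], 1)),
  (300, [0, 2], true, ([3, 7, 8, 9, 5, 4, 3, 2], 1)),
  (306, [0, 2], true, ([6, 4, 5, 9, 8, 7, 3, 2], 1)),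
  (2096, [0, 2], true, ([5, 9, 8, 7, 5, 4, 3, 2], 1)),
  (778, [0], false, ([1, 2, 3, 4, 5, 9, 8, 7], 3)),
  (1322, [0], false, ([9, 8, 7, 6, 5, 4, 3, 2], 1)),
  (1665, [0, 0, 2], true, ([8, 2, 3, 7, 6, 5, 4, 3, 2], 1)),
  (128, [0], false, ([5, 4, 3, 7, 6, 5, 4, 3, 2], 1)),
  (1541, [0], false, ([7, 8, 4, 3, 7, 5, 4, 3, 2], 1)),
  (149, [0, 2], true, ([7, 8, 9, 3, 7, 5, 4, 3, 2], 1)),
  (220, [0, 2], true, ([4, 5, 9, 7, 6, 5, 4, 3, 2], 1)),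
  (941, [0, 2], true, ([6, 4, 5, 9, 8, 7, 4, 3, 2], 1)),
  (2444, [0, 2], true, ([3, 7, 8, 9, 7, 5, 4, 3, 2], 1)),
  (572, [0], false, ([3, 4, 5, 9, 6, 5, 4, 3, 2], 1)),
  (2526, [0, 0, 2], true, ([7, 8, 5, 9, 6, 5, 4, 3, 2], 1)),
  (1816, [0, 2], true, ([5, 6, 4, 5, 9, 8, 7, 3, 2], 1)),
  (1175, [0, 2], true, ([1, 2, 3, 7, 8, 5, 9, 6, 5], 4)),
  (386, [0, 0], false, ([7, 3, 4, 5, 9, 8, 7, 3, 2], 1)),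
  (389, [0], false, ([2, 3, 4, 5, 9, 8, 7, 3, 2], 1)),
  (390, [0], false, ([6, 3, 4, 5, 9, 8, 7, 3, 2], 1)),
  (2191, [0, 2], true, ([4, 5, 9, 8, 7, 5, 4, 3, 2], 1)),
  (723, [0, 2], true, ([1, 2, 3, 4, 5, 9, 8, 7, 3], 2)),
  (949, [0, 2], true, ([6, 5, 9, 8, 7, 5, 4, 3, 2], 1)),
  (287, [0, 2], true, ([5, 6, 4, 5, 9, 8, 7, 4, 3, 2], 1)),
  (1957, [0], false, ([4, 3, 7, 8, 9, 7, 5, 4, 3, 2], 1)),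
  (304, [0, 2], true, ([2, 3, 4, 5, 9, 8, 7, 4, 3, 2], 1)),
  (454, [0, 2], true, ([3, 7, 8, 5, 9, 6, 5, 4, 3, 2], 1)),
  (420, [0, 2], true, ([4, 3, 7, 8, 9, 6, 5, 4, 3, 2], 1)),
  (2747, [0, 2], true, ([5, 6, 3, 4, 5, 9, 8, 7, 3, 2], 1)),
  (2702, [0, 2], true, ([3, 7, 8, 9, 8, 7, 5, 4, 3, 2], 1)),
  (931, [0, 2], true, ([4, 2, 3, 7, 8, 9, 5, 4, 3, 2], 1)),
  (1458, [0, 2], true, ([1, 2, 3, 4, 5, 9, 8, 7, 3, 2], 1)),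
  (501, [0], false, ([6, 2, 3, 4, 5, 9, 8, 7, 3, 2], 1)),
  (686, [0], false, ([6, 4, 5, 9, 8, 7, 5, 4, 3, 2], 1)),
  (771, [0, 2], true, ([4, 5, 9, 8, 3, 7, 5, 4, 3, 2], 1)),
  (992, [0], false, ([9, 7, 8, 5, 9, 6, 5, 4, 3, 2], 1)),
  (1067, [0, 0, 2], true, ([5, 6, 1, 2, 3, 4, 5, 9, 8, 7], 3)),
  (1472, [0], false, ([5, 9, 8, 3, 7, 6, 5, 4, 3, 2], 1)),
  (1475, [0, 2], true, ([9, 5, 6, 4, 5, 9, 8, 7, 3, 2], 1)),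
  (3089, [0], false, ([5, 4, 2, 3, 7, 8, 9, 5, 4, 3, 2], 1)),
  (1181, [0, 2], true, ([2, 3, 7, 8, 9, 3, 7, 5, 4, 3, 2], 1)),
  (782, [0, 2], true, ([4, 3, 7, 8, 9, 7, 6, 5, 4, 3, 2], 1)),
  (388, [0, 2], true, ([2, 3, 7, 8, 9, 8, 7, 5, 4, 3, 2], 1)),
  (537, [0, 2], true, ([1, 2, 3, 4, 5, 9, 8, 7, 3, 2, 1], 0)),
  (1183, [0, 2], true, ([6, 4, 5, 9, 8, 7, 6, 5, 4, 3, 2], 1)),
  (573, [0, 0, 2], true, ([7, 8, 3, 4, 5, 9, 6, 5, 4, 3, 2], 1)),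
  (578, [0, 2], true, ([4, 3, 7, 8, 5, 9, 6, 5, 4, 3, 2], 1)),
  (584, [0, 2], true, ([5, 4, 3, 7, 8, 9, 6, 5, 4, 3, 2], 1)),
  (2994, [0, 2], true, ([4, 5, 6, 3, 4, 5, 9, 8, 7, 3, 2], 1)),
  (1220, [0, 2], true, ([5, 6, 2, 3, 4, 5, 9, 8, 7, 3, 2], 1)),
  (2907, [0, 0, 2], true, ([6, 5, 4, 3, 7, 8, 9, 5, 4, 3, 2], 1)),
  (1671, [0, 0, 0, 0], true, ([3, 7, 2, 3, 4, 5, 9, 8, 7, 3, 2], 1)),
  (849, [0, 2], true, ([9, 3, 7, 8, 5, 9, 6, 5, 4, 3, 2], 1)),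
  (2403, [0, 2], true, ([9, 5, 6, 4, 5, 9, 8, 7, 4, 3, 2], 1)),
  (1672, [0, 2], true, ([9, 5, 6, 3, 4, 5, 9, 8, 7, 3, 2], 1)),
  (257, [0, 2], true, ([3, 7, 8, 5, 4, 3, 7, 6, 5, 4, 3, 2], 1)),
  (2582, [0, 2], true, ([3, 7, 8, 5, 9, 3, 7, 6, 5, 4, 3, 2], 1)),
  (456, [0, 2], true, ([4, 3, 7, 8, 5, 9, 7, 6, 5, 4, 3, 2], 1)),
  (461, [0, 2], true, ([5, 4, 3, 7, 8, 9, 7, 6, 5, 4, 3, 2], 1)),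
  (2585, [0, 2], true, ([5, 6, 2, 3, 4, 5, 9, 8, 7, 4, 3, 2], 1)),
  (648, [0, 2], true, ([1, 2, 3, 7, 8, 9, 6, 5, 4, 3, 2, 1], 0)),
  (2320, [0, 0, 2], true, ([6, 5, 4, 3, 7, 8, 9, 6, 5, 4, 3, 2], 1)),
  (1027, [0, 2], true, ([4, 1, 2, 3, 7, 8, 5, 9, 6, 5, 4, 3], 2)),
  (3021, [0, 2], true, ([3, 7, 8, 3, 4, 5, 9, 6, 5, 4, 3, 2], 1)),
  (1766, [0, 2], true, ([5, 6, 1, 2, 3, 4, 5, 9, 8, 7, 3, 2], 1)),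
  (1048, [0], false, ([7, 5, 6, 1, 2, 3, 4, 5, 9, 8, 7, 3], 2)),
  (2955, [0, 0], false, ([4, 5, 9, 8, 2, 3, 7, 6, 5, 4, 3, 2], 1)),
  (3096, [0, 0], false, ([9, 3, 7, 8, 5, 9, 7, 6, 5, 4, 3, 2], 1)),
  (1462, [0, 2], true, ([8, 6, 4, 5, 9, 8, 7, 6, 5, 4, 3, 2], 1)),
  (1705, [0, 0, 2], true, ([9, 7, 8, 3, 4, 5, 9, 6, 5, 4, 3, 2], 1)),
  (2254, [0, 2], true, ([4, 5, 9, 7, 8, 3, 7, 6, 5, 4, 3, 2], 1)),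
  (2741, [0, 2], true, ([9, 4, 5, 6, 3, 4, 5, 9, 8, 7, 3, 2], 1)),
  (1425, [0, 2], true, ([9, 5, 6, 2, 3, 4, 5, 9, 8, 7, 3, 2], 1)),
  (2472, [0, 0], false, ([9, 5, 4, 3, 7, 8, 9, 6, 5, 4, 3, 2], 1)),
  (325, [0, 2], true, ([4, 3, 7, 8, 5, 4, 3, 7, 6, 5, 4, 3, 2], 1)),
  (2837, [0, 2], true, ([4, 3, 7, 8, 5, 9, 3, 7, 6, 5, 4, 3, 2], 1)),
  (2199, [0, 2], true, ([5, 9, 6, 5, 4, 3, 7, 8, 9, 5, 4, 3, 2], 1)),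
  (2434, [0, 2], true, ([9, 3, 7, 8, 5, 4, 3, 7, 6, 5, 4, 3, 2], 1)),
  (593, [0, 2], true, ([4, 5, 6, 2, 3, 4, 5, 9, 8, 7, 4, 3, 2], 1)),
  (1298, [0, 2], true, ([5, 9, 4, 3, 7, 8, 5, 9, 6, 5, 4, 3, 2], 1)),
  (799, [0, 2], true, ([1, 2, 3, 7, 8, 5, 9, 6, 5, 4, 3, 2, 1], 0)),
  (926, [0, 2], true, ([3, 4, 5, 6, 2, 3, 4, 5, 9, 8, 7, 3, 2], 1)),
  (2705, [0, 2], true, ([7, 8, 9, 3, 7, 8, 5, 9, 6, 5, 4, 3, 2], 1)),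
  (3231, [0, 0, 2], true, ([5, 4, 1, 2, 3, 7, 8, 5, 9, 6, 5, 4, 3], 2)),
  (2330, [0, 2], true, ([5, 9, 3, 7, 8, 4, 3, 7, 6, 5, 4, 3, 2], 1)),
  (1547, [0, 2], true, ([8, 6, 3, 4, 5, 9, 8, 7, 6, 5, 4, 3, 2], 1)),
  (1548, [0, 0, 2], true, ([9, 3, 7, 8, 5, 9, 3, 7, 6, 5, 4, 3, 2], 1)),
  (3368, [0, 0, 2], true, ([9, 5, 6, 2, 3, 4, 5, 9, 8, 7, 4, 3, 2], 1)),
  (1159, [0], false, ([9, 4, 5, 6, 3, 4, 5, 9, 8, 7, 4, 3, 2], 1)),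
  (3345, [0, 0, 0], false, ([8, 7, 3, 4, 5, 9, 8, 7, 6, 5, 4, 3, 2], 1)),
  (3164, [0, 0, 2], true, ([5, 3, 4, 2, 3, 7, 8, 9, 7, 6, 5, 4, 3, 2], 1)),
  (1430, [0], false, ([5, 6, 3, 4, 5, 9, 8, 3, 7, 6, 5, 4, 3, 2], 1)),
  (1561, [0, 0, 0, 0], true, ([6, 5, 4, 2, 3, 7, 8, 5, 9, 6, 5, 4, 3, 2], 1)),
  (1282, [0, 2], true, ([5, 9, 4, 5, 6, 3, 4, 5, 9, 8, 7, 4, 3, 2], 1)),
  (3190, [0, 2], true, ([7, 8, 9, 7, 5, 6, 3, 4, 5, 9, 8, 7, 3, 2], 1)),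
  (3186, [0], false, ([9, 3, 7, 4, 5, 6, 3, 4, 5, 9, 8, 7, 3, 2], 1)),
  (2336, [0], false, ([9, 3, 4, 5, 6, 2, 3, 4, 5, 9, 8, 7, 3, 2], 1)),
  (2071, [0, 2], true, ([6, 2, 3, 4, 5, 9, 8, 4, 3, 7, 6, 5, 4, 3, 2], 1)),
  (1286, [0, 2], true, ([2, 3, 7, 4, 5, 6, 2, 3, 4, 5, 9, 8, 7, 3, 2], 1)),
  (1291, [0, 0, 2], true, ([9, 3, 4, 2, 3, 7, 8, 5, 9, 7, 6, 5, 4, 3, 2], 1))]

theorem c_rig0 : rigChk J0 (msk 3510) x0 11 0 1 2 TL0 tw0 (rs0.map Prod.fst) [1, 0, 0, 0, 0, 0, 0, 0, 0, 0, 0]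
    [1, 2, 0, 2, 0, 2, 0, 2, 1, 0, 2, 1, 0, 2, 1, 0, 2, 1, 0, 2, 1, 0, 2, 1, 0, 2, 1, 0, 2, 1, 0, 2, 1, 0, 0] = true := by decide +kernel

theorem c_rs00 : ((rs0.drop 0).take 43).all (repChk x0 0 TL0) = true := by decide +kernel

theorem c_rs01 : ((rs0.drop 43).take 43).all (repChk x0 0 TL0) = true := by decide +kernel

theorem c_rs02 : ((rs0.drop 86).take 43).all (repChk x0 0 TL0) = true := by decide +kernel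

theorem c_rs0 : ∀ r ∈ rs0, repChk x0 0 TL0 r = true := by
  intro r hr
  rw [show rs0 = (rs0.drop 0).take 43 ++ (rs0.drop 43).take 43 ++ (rs0.drop 86).take 43 by decide +kernel] at hr
  simp only [List.mem_append] at hr
  rcases hr with (h | h) | h
  · exact List.all_eq_true.1 c_rs00 r h
  · exact List.all_eq_true.1 c_rs01 r h
  · exact List.all_eq_true.1 c_rs02 r h

theorem c_x0 : agree S 12 0 (rp x0 11) = true := by decide +kernel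

theorem aut0 (φ : MulAut (sub σ J0)) : ∃ h u : sub σ J0, ∀ g, ((MulAut.conj h * φ) ^ 20) g = u * g * u⁻¹ :=
  sys0.aut (n := 10) c_rig0 c_rs0 (ev_mem _) (by norm_num) (by norm_num) (by norm_num)
    ((rp_eq _ _).symm.trans (wf.eq_one c_x0)) (fun _ => base)
    (fun i hi hi0 => ⟨1, one_mem _, i, by simp, by revert i; decide⟩) φ

end Cfsg.Agent.H4.Fi
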