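import Cfsg.Agent.H4.FiR

/-!
Automorphisms of the orthogonal group `Ω₇(3)`.
-/

set_option autoImplicit false
set_option maxRecDepth 100000

namespace Cfsg.Agent.H4.Fi

open BP

/-- an element of order 7 -/
def x1 : List ℕ := [6, 5, 4, 3, 7, 8]

/-- tests -/
def TL1 : List Tst := [([2], false, ([], 2), ([6, 2, 3, 4, 5, 9, 8, 7, 4, 3, 2, 1], 0)),
  ([0], false, ([], 2), ([6, 2, 3, 4, 5, 9, 8, 7, 4, 3, 2, 1], 0)),
  ([0, 2], true, ([], 2), ([6, 2, 3, 4, 5, 9, 8, 7, 4, 3, 2, 1], 0)),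
  ([0, 0], true, ([], 2), ([6, 2, 3, 4, 5, 9, 8, 7, 4, 3, 2, 1], 0))]

/-- tests -/
def tw1 : List Tst := [([0], false, ([], 2), ([8, 7, 3], 2)),
  ([1], true, ([], 2), ([5, 4, 3, 7, 6, 5, 4, 3], 2)),
  ([2], true, ([], 2), ([5, 4, 3, 7, 6, 5, 4, 3, 2], 1)),
  ([2], true, ([], 2), ([6, 2, 3, 4, 5, 9, 8, 7, 4, 3, 2, 1], 0)),
  ([2], true, ([], 2), ([3, 7, 8, 4, 3, 7, 5, 4, 3, 2], 1)),
  ([], false, ([], 2), ([7, 8, 3, 7, 4, 3], 2)),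
  ([], false, ([], 2), ([8, 7, 3], 2))]

/-- representatives -/
def rs1 : List (ℕ × List ℕ × Bool × (List ℕ × ℕ)) := [(67, [0], false, ([3], 2)),
  (17, [0], false, ([4, 3], 2)),
  (18, [0], false, ([7, 3], 2)),
  (100, [0, 2], true, ([7, 4, 3], 2)),
  (394, [0, 0], true, ([2, 3, 7, 8, 4, 3, 7, 5, 4, 3], 2)),
  (258, [0], false, ([2, 3, 7, 8, 9, 5, 4, 3, 2, 1], 0)),
  (422, [0], false, ([2, 3, 4, 5, 9, 8, 7, 3, 2, 1], 0)),
  (675, [0, 2], true, ([2, 3, 7, 8, 4, 3, 7, 5, 4, 3, 2], 1)),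
  (328, [0, 0], true, ([2, 3, 7, 8, 9, 7, 5, 4, 3, 2, 1], 0)),
  (518, [0, 0], true, ([2, 3, 4, 5, 9, 8, 7, 4, 3, 2, 1], 0)),
  (529, [0, 2], true, ([4, 2, 3, 7, 8, 9, 5, 4, 3, 2, 1], 0)),
  (404, [0, 2], true, ([7, 2, 3, 4, 5, 9, 8, 7, 3, 2, 1], 0)),
  (673, [0, 0], true, ([7, 6, 2, 3, 4, 5, 9, 8, 7, 3, 2, 1], 0)),
  (418, [0], false, ([4, 2, 3, 7, 8, 9, 7, 5, 4, 3, 2, 1], 0))]

theorem c_rig1 : rigChk J1 Om1 x1 7 1 2 409 TL1 tw1 (rs1.map Prod.fst) [1, 0, 0, 0, 0, 0, 0]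
    [1, 2, 0, 2, 0, 2, 1, 0, 2, 1, 0, 2, 1, 0, 2, 1, 0, 2, 1, 0, 2, 1, 0, 2, 1, 0, 0] = true := by decide +kernel

theorem c_rs10 : ((rs1.drop 0).take 7).all (repChk x1 1 TL1) = true := by decide +kernel

theorem c_rs11 : ((rs1.drop 7).take 7).all (repChk x1 1 TL1) = true := by decide +kernel

theorem c_rs1 : ∀ r ∈ rs1, repChk x1 1 TL1 r = true := by
  intro r hr
  rw [show rs1 = (rs1.drop 0).take 7 ++ (rs1.drop 7).take 7 by decide +kernel] at hr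
  simp only [List.mem_append] at hr
  rcases hr with h | h
  · exact List.all_eq_true.1 c_rs10 r h
  · exact List.all_eq_true.1 c_rs11 r h

theorem c_x1 : agree S 12 0 (rp x1 7) = true := by decide +kernel

/-- an element of the normaliser -/
def y1 : List ℕ := [3, 5, 4, 8, 7, 3]

theorem c_y1 : agree S 12 0 (y1 ++ x1 ++ y1.reverse ++ (x1.reverse ++ x1.reverse)) = true := by decide +kernel

theorem rp_eq (w : List ℕ) (n : ℕ) : ev S (rp w n) = ev S w ^ n := by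
  induction n with
  | zero => rfl
  | succ n ih => rw [rp, List.replicate_succ, List.flatten_cons, ev_append, ← rp, ih, pow_succ']

theorem aut1 (φ : MulAut (sub σ J1)) : ∃ h u : sub σ J1, ∀ g, ((MulAut.conj h * φ) ^ 4) g = u * g * u⁻¹ := by
  refine sys1.aut (n := 2) c_rig1 c_rs1 (sub_word (by decide)) (by norm_num) (by norm_num) (by norm_num)
    ((rp_eq _ _).symm.trans (wf.eq_one c_x1)) (fun _ => base1) (fun i hi hi0 => ?_) φ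
  have h1 := wf.eq_one c_y1
  have hy : ev S y1 ∈ sub σ J1 := sub_word (by decide)
  simp only [ev_append, fun w => inv_eq_iff_eq_inv.1 (ev_rev w)] at h1
  generalize ev S x1 = x, ev S y1 = y at *
  have h2 : ∀ k, y * x ^ k * y⁻¹ = x ^ (2 * k) := fun k => by
    rw [← conj_pow, pow_mul, sq, show y * x * y⁻¹ = x * x from mul_inv_eq_one.1 (by rwa [mul_inv_rev])]
  have h3 : ∀ k, y * y * x ^ k * (y * y)⁻¹ = x ^ (2 * (2 * k)) := fun k => by rw [← h2, ← h2]; group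
  have h4 : ∀ i < 7, i ≠ 0 → i ^ 2 % 7 = 1 ∨ (2 * i) ^ 2 % 7 = 1 ∨ (2 * (2 * i)) ^ 2 % 7 = 1 := by decide
  rcases h4 i hi hi0 with h | h | h
  exacts [⟨1, one_mem _, i, by simp, h⟩, ⟨y, hy, _, h2 i, h⟩, ⟨y * y, mul_mem hy hy, _, h3 i, h⟩]

end Cfsg.Agent.H4.Fi
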