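import Cfsg.Agent.H4.FiU
import Cfsg.Agent.H4.FiS0
import Cfsg.Prelude.Def_Spor_Fi22

/-!
The presented group `Fi₂₂` is the permutation group of degree 3510.
-/

set_option autoImplicit false

namespace Cfsg.Agent.H4.Fi

open BP Equiv Cfsg.Spor

theorem inj0 {Γ : Type*} [Group Γ] {g : ℕ → Γ} (hg : ∀ s, g s * g s = 1) (hR : ∀ w ∈ R1, (w.map g).prod = 1)
    (hA : ∀ w ∈ RA, (w.map g).prod = 1) : Inj g S J0 := by
  have h1 := inj1 hg hR
  refine step_inj wf wf0 hg σ_sq c_tab0 (R := Q0) (fun w hw => ?_) (fun c ht hp h h0 => run_spec wf0 hp ht h X1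
    (Nat.eq_of_beq_eq_true c_X0 ▸ run_spec wf0 hp ht h X0 h0)) ((force_eq ..).symm.trans c_X1) h1
  have : ∀ w ∈ Q0, w ∈ R1 ∨ (w ∈ RA ∧ w ∈ RR) ∨ (w ∈ D0 ++ D2 ∧ ∀ s ∈ w, s ∈ J1) := by decide +kernel
  rcases this w hw with h | h | h
  · exact ⟨hR w h, R1_one w h, Q0_one w hw⟩
  · exact ⟨hA w h.1, RR_one w h.2, Q0_one w hw⟩
  · have := wf.eq_one (List.all_eq_true.1 c_D0 w h.1)
    exact ⟨h1.rel h.2 this, this, Q0_one w hw⟩

theorem rp_prod {Γ : Type*} [Group Γ] (g : ℕ → Γ) (w : List ℕ) (n : ℕ) :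
    ((rp w n).map g).prod = (w.map g).prod ^ n := by
  induction n with
  | zero => simp [rp]
  | succ n ih => rw [rp, List.replicate_succ, List.flatten_cons, List.map_append, List.prod_append, ← rp, ih, pow_succ']

/-- the list of generators -/
def gens : List Fi22.Gen := [.a, .b, .c, .d, .e, .f, .g, .h, .i]

/-- the number of a generator -/
def ix (x : Fi22.Gen) : ℕ := gens.idxOf x

/-- the generators of the presented group -/
noncomputable def gF (s : ℕ) : Fi22 := gt (gens.map PresentedGroup.of) 1 s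

theorem gF_ix (x : Fi22.Gen) : gF (ix x) = PresentedGroup.of x := by cases x <;> rfl

theorem cox_rel (x y : Fi22.Gen) :
    ((PresentedGroup.of x : Fi22) * PresentedGroup.of y) ^ coxLabel Fi22.edges x y = 1 := by
  have h : ∀ x, x ∈ coxNodes Fi22.edges := fun x => by cases x <;> decide
  exact PresentedGroup.one_of_mem (rels := coxRelators Fi22.edges ∪ {r | r ∈ Fi22.extra})
    (Or.inl ⟨x, h x, y, h y, rfl⟩)

theorem extra_iff {Γ : Type*} [Group Γ] (g : ℕ → Γ) (F : FreeGroup Fi22.Gen →* Γ)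
    (hF : ∀ x, F (FreeGroup.of x) = g (ix x)) : (∀ r ∈ Fi22.extra, F r = 1) ↔
      ((rp [3, 2, 1, 3, 4, 5, 3, 7, 8] 10).map g).prod = 1 ∧ ((rp [0, 1, 2, 3, 4, 5, 7] 9).map g).prod = 1 ∧
        ((rp [1, 2, 3, 4, 5, 6, 7] 9).map g).prod = 1 := by
  simp only [Fi22.extra, List.forall_mem_cons, map_pow, map_mul, hF, mul_assoc, rp_prod, List.map_cons,
    List.prod_cons, List.map_nil, List.prod_nil, mul_one, List.not_mem_nil, false_imp_iff, imp_true_iff, and_true]
  rfl

theorem iso0 : Nonempty (G0 ≃* Fi22) := by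
  have hg : ∀ s, gF s * gF s = 1 := fun s => by
    rcases gt_mem (gens.map PresentedGroup.of) (1 : Fi22) s with h | h
    · rw [gF, h, one_mul]
    · obtain ⟨x, -, e⟩ := List.mem_map.1 h
      simpa [gF, ← e, coxLabel] using cox_rel x x
  have hR : ∀ w ∈ R1 ++ RA, (w.map gF).prod = 1 := fun w hw => by
    have : ∀ w ∈ R1 ++ RA, (∃ x ∈ gens, ∃ y ∈ gens, w = rp [ix x, ix y] (coxLabel Fi22.edges x y)) ∨
      w = rp [3, 2, 1, 3, 4, 5, 3, 7, 8] 10 ∨ w = rp [0, 1, 2, 3, 4, 5, 7] 9 ∨ w = rp [1, 2, 3, 4, 5, 6, 7] 9 := by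
      decide +kernel
    have k := (extra_iff gF (PresentedGroup.mk (coxRelators Fi22.edges ∪ {r | r ∈ Fi22.extra}))
      fun x => (gF_ix x).symm).1 fun r hr => PresentedGroup.one_of_mem (Or.inr hr)
    rcases this w hw with ⟨x, -, y, -, rfl⟩ | rfl | rfl | rfl
    · simpa [rp_prod, gF_ix] using cox_rel x y
    exacts [k.1, k.2.1, k.2.2]
  obtain ⟨φ, hφ⟩ := (inj0 hg (fun w hw => hR w (List.mem_append_left _ hw))
    fun w hw => hR w (List.mem_append_right _ hw)).hom
  have hψ : ∀ r ∈ coxRelators Fi22.edges ∪ {r | r ∈ Fi22.extra}, FreeGroup.lift (fun x => σ (ix x)) r = 1 := by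
    have k : ∀ w n, rp w n ∈ RR → (w.map σ).prod ^ n = 1 := fun w n h => (rp_prod σ w n).symm.trans (RR_one _ h)
    rintro r (⟨x, -, y, -, rfl⟩ | hr)
    · have : x = y ∨ rp [ix x, ix y] (coxLabel Fi22.edges x y) ∈ RR ∨ rp [ix y, ix x] (coxLabel Fi22.edges x y) ∈ RR := by
        cases x <;> cases y <;> decide +kernel
      rw [map_pow, map_mul, FreeGroup.lift_apply_of, FreeGroup.lift_apply_of]
      rcases this with rfl | h | h
      · rw [σ_sq, one_pow]
      · simpa using k _ _ h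
      · rw [show σ (ix x) * σ (ix y) = σ (ix x) * (σ (ix y) * σ (ix x)) * (σ (ix x))⁻¹ by group, conj_pow,
          conj_eq_one_iff]
        simpa using k _ _ h
    · exact (extra_iff σ _ fun x => FreeGroup.lift_apply_of).2 ⟨RR_one _ (by decide +kernel),
        RR_one _ (by decide +kernel), RR_one _ (by decide +kernel)⟩ r hr
  have hn : ∀ x y, gF (ix x) = gF (ix y) → pt (ix x) = pt (ix y) := fun x y e => by
    have := congrArg (PresentedGroup.toGroup hψ) e
    have h : ∀ x, ix x < 9 := fun x => by cases x <;> decide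
    rw [gF_ix, gF_ix, PresentedGroup.toGroup.of, PresentedGroup.toGroup.of, ← (isPt _ (h x)).1,
      ← (isPt _ (h y)).1] at this
    exact τ_inj (isPt _ (h x)).2 (isPt _ (h y)).2 this
  refine ⟨MulEquiv.ofBijective φ ⟨sys0.inj (a := 0) (b := 1) (c := 2) (by decide) (by decide) (by decide) orb0
    (fun _ => base) φ ?_ ?_, MonoidHom.range_eq_top.1 ?_⟩⟩
  · rw [hφ 1 (by decide), hφ 0 (by decide)]; exact fun e => absurd (hn .b .a e) (by decide)
  · rw [hφ 2 (by decide), hφ 0 (by decide)]; exact fun e => absurd (hn .c .a e) (by decide)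
  · rw [eq_top_iff, ← PresentedGroup.closure_range_of, Subgroup.closure_le]
    rintro _ ⟨x, rfl⟩
    exact ⟨_, (hφ (ix x) (by cases x <;> decide)).trans (gF_ix x)⟩

end Cfsg.Agent.H4.Fi
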