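import Cfsg.Agent.H4.LpA
import Cfsg.Agent.H4.BmO

/-!
Multiplicities of linear characters of 2-subgroups of `Ω₈⁺(2)`.
-/

set_option autoImplicit false
set_option maxRecDepth 100000

namespace Cfsg.Agent.H4.Bm.O

open BP T8

/-- the simple root elements -/
noncomputable def xs : ℕ → ℕ := gt [9241421826029257473, 9241492057334612481, 9277450485676376577, 9531903864555700737] I

/-- the negative simple root elements -/
noncomputable def ys : ℕ → ℕ := gt [9241439280776348163, 9250428887845045761, 13853107707018215937, 9241421689672434177] I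

/-- a sign character of the Sylow 2-subgroup -/
noncomputable def zl (i : ℕ) : List ℕ := zs.map fun z => Bool.rec (2 * z) (2 * z + 1) (Nat.beq z (xs i))

theorem c_step : allLt (fun i => stepB mu I vb ib (xs i) (ys i) (zl i)) 4 = true := by decide +kernel

theorem c_B : grpC mu I ib cl (zs.map (2 * ·)) [1, 68, 68, 68, 103, 188, 40, 448, 448, 448, 576, 1384, 128, 128, 0, 0] = true := by decide +kernel

theorem c_z0 : grpC mu I ib cl (zl 0) [1, 36, 36, 36, 71, 60, 8, -64, -64, -64, -192, 392, -128, -128, 0, 0] = true := by decide +kernel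

theorem c_z1 : grpC mu I ib cl (zl 1) [1, 36, 36, 36, 71, 60, 8, -64, -64, -64, -192, 392, -128, -128, 0, 0] = true := by decide +kernel

theorem c_z2 : grpC mu I ib cl (zl 2) [1, 36, 36, 36, 71, 60, 8, -64, -64, -64, -192, 392, -128, -128, 0, 0] = true := by decide +kernel

theorem c_z3 : grpC mu I ib cl (zl 3) [1, 36, 36, 36, 71, 60, 8, -64, -64, -64, -192, 392, -128, -128, 0, 0] = true := by decide +kernel

theorem c_s0 : grpC mu I ib cl [18482845593383732226, 18484260647769474050, 18771232632762926083, 18483687836537586690, 18699157017243419651]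
    [1, 0, 0, 2, 1, 0, -4, 0, 0, 0, 0, 0, 0, 0, 0, 0] = true := by decide +kernel

theorem c_s1 : grpC mu I ib cl [18483408577696891906, 18483980289383597058, 19426652115610108931, 18628093329975804930, 18772226041518228482, 19139525442940831235]
    [1, 0, 6, 0, 9, -4, -4, 0, -8, 0, 0, 0, 0, 0, 0, 0] = true := by decide +kernel

theorem c_s2 : grpC mu I ib cl [18482845593383732226, 18483406361493767170, 18483979172725654530, 18554900971352753155, 18628093329975804930, 18482843652058514946, 18844562379135124483]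
    [1, 8, 0, 0, 3, -4, 8, 16, -16, -16, 0, 0, 0, 0, 0, 0] = true := by decide +kernel

theorem c_s3 : grpC mu I ib cl [18482845593383732226, 18772790683722449922, 19354150653714630147]
    [1, 0, 0, 0, 1, 2, 0, 0, 0, 0, -4, 0, 0, 0, 0, 0] = true := by decide +kernel

theorem c_s4 : grpC mu I ib cl [18482845593383732226, 18482984114669224962, 18771091345518363650, 18482844476725789699, 18484823108063200258]
    [1, -2, -2, 0, 5, 2, 2, 0, 0, 0, 0, -6, 0, 0, 0, 0] = true := by decide +kernel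

theorem c_s5 : grpC mu I ib cl [18482845593383732226, 18483979172725654530, 18484259548224291842, 18771091895274308610, 18483406361493767170, 18555182446396572674, 19138567751066191363, 19426770089671525891]
    [1, 0, 0, 24, 19, 20, 4, 0, 0, 32, -64, 28, -32, -32, 0, 0] = true := by decide +kernel

theorem c_enum :
    ∀ t1 ∈ poss 248 248,
    ∀ t2 ∈ poss 248 248,
    ∀ t3 ∈ poss 248 248,
    ∀ t4 ∈ poss 248 248,
    ∀ t5 ∈ poss 248 248,
    ∀ t6 ∈ poss t4 248, Ok 32 (1 * 248 + 2 * t3 + 1 * t4 + (-4) * t6) →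
    ∀ t7 ∈ poss t1 248,
    ∀ t8 ∈ poss t2 248, Ok 64 (1 * 248 + 6 * t2 + 9 * t4 + (-4) * t5 + (-4) * t6 + (-8) * t8) →
    ∀ t9 ∈ poss t3 248, Ok 128 (1 * 248 + 8 * t1 + 3 * t4 + (-4) * t5 + 8 * t6 + 16 * t7 + (-16) * t8 + (-16) * t9) →
    ∀ t10 ∈ poss t5 248, Ok 8 (1 * 248 + 1 * t4 + 2 * t5 + (-4) * t10) →
    ∀ t11 ∈ poss t4 248, Ok 32 (1 * 248 + (-2) * t1 + (-2) * t2 + 5 * t4 + 2 * t5 + 2 * t6 + (-6) * t11) →
    ∀ t12 ∈ poss t11 t4,
    ∀ t13 ∈ poss t6 t4, Ok 4096 (1 * 248 + 68 * t1 + 68 * t2 + 68 * t3 + 103 * t4 + 188 * t5 + 40 * t6 + 448 * t7 + 448 * t8 + 448 * t9 + 576 * t10 + 1384 * t11 + 128 * t12 + 128 * t13) → Ok 4096 (1 * 248 + 36 * t1 + 36 * t2 + 36 * t3 + 71 * t4 + 60 * t5 + 8 * t6 + (-64) * t7 + (-64) * t8 + (-64) * t9 + (-192) * t10 + 392 * t11 + (-128) * t12 + (-128) * t13) → Ok 256 (1 * 248 + 24 * t3 + 19 * t4 + 20 * t5 + 4 * t6 + 32 * t9 + (-64) * t10 + 28 * t11 + (-32) * t12 + (-32) * t13) →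
    0 < (-3) * 248 + (-76) * t1 + (-76) * t2 + (-76) * t3 + (-181) * t4 + (-52) * t5 + 8 * t6 + 704 * t7 + 704 * t8 + 704 * t9 + 1344 * t10 + (-184) * t11 + 640 * t12 + 640 * t13 ∧ t1 ≠ t5 ∧ t2 ≠ t5 ∧ t3 ≠ t5 := by
  decide +kernel

end Cfsg.Agent.H4.Bm.O
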