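import Cfsg.Agent.H4.LpA
import Cfsg.Agent.H4.BmS

/-!
Multiplicities of linear characters of 2-subgroups of `Sp₆(2)`.
-/

set_option autoImplicit false
set_option maxRecDepth 100000

namespace Cfsg.Agent.H4.Bm.S

open BP T8

/-- the simple root elements -/
noncomputable def xs : ℕ → ℕ := gt [34634481857, 35167166593, 38925254785] I

/-- the negative simple root elements -/
noncomputable def ys : ℕ → ℕ := gt [34764505219, 51810156929, 34630418561] I

/-- a sign character of the Sylow 2-subgroup -/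
noncomputable def zl (i : ℕ) : List ℕ := zs.map fun z => Bool.rec (2 * z) (2 * z + 1) (Nat.beq z (xs i))

theorem c_step : allLt (fun i => stepB mu I vb ib (xs i) (ys i) (zl i)) 3 = true := by decide +kernel

theorem c_B : grpC mu I ib cl (zs.map (2 * ·)) [1, 7, 27, 41, 68, 20, 40, 40, 92, 112, 32, 32, 0, 0, 0, 0] = true := by decide +kernel

theorem c_z0 : grpC mu I ib cl (zl 0) [1, 7, 11, 25, 36, 4, 8, 8, -20, -16, -32, -32, 0, 0, 0, 0] = true := by decide +kernel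

theorem c_z1 : grpC mu I ib cl (zl 1) [1, 7, 11, 25, 36, 4, 8, 8, -20, -16, -32, -32, 0, 0, 0, 0] = true := by decide +kernel

theorem c_z2 : grpC mu I ib cl (zl 2) [1, -1, 27, 17, 4, 4, -24, -24, 76, -16, -32, -32, 0, 0, 0, 0] = true := by decide +kernel

theorem c_s0 : grpC mu I ib cl [69295177986, 73757393155, 75906449667, 77917618435, 69277360386]
    [1, 0, 5, 2, -4, -4, 0, 0, 0, 0, 0, 0, 0, 0, 0, 0] = true := by decide +kernel

theorem c_s1 : grpC mu I ib cl [69295177986, 71410680066, 82346803458, 77877780867, 77859422594]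
    [1, 2, 1, -2, 6, 0, -2, -6, 0, 0, 0, 0, 0, 0, 0, 0] = true := by decide +kernel

theorem c_s2 : grpC mu I ib cl [69295177986, 73774702850, 71410155778, 79085748610, 77945938307]
    [1, 0, 3, 0, -4, -6, 0, 0, -2, 0, 8, 0, 0, 0, 0, 0] = true := by decide +kernel

theorem c_s3 : grpC mu I ib cl [69261099266, 69295177986, 71410155778, 73756868866, 77917618435, 69277360386, 79058485506, 69268963715]
    [1, 1, -1, -13, -12, 4, 16, 0, 4, 32, -32, 0, 0, 0, 0, 0] = true := by decide +kernel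

theorem c_enum :
    ∀ t1 ∈ poss 248 248,
    ∀ t2 ∈ poss 248 248,
    ∀ t3 ∈ poss 248 248,
    ∀ t4 ∈ poss 248 248,
    ∀ t5 ∈ poss t2 248, Ok 32 (1 * 248 + 5 * t2 + 2 * t3 + (-4) * t4 + (-4) * t5) →
    ∀ t6 ∈ poss t3 248,
    ∀ t7 ∈ poss t3 248, Ok 32 (1 * 248 + 2 * t1 + 1 * t2 + (-2) * t3 + 6 * t4 + (-2) * t6 + (-6) * t7) →
    ∀ t8 ∈ poss t2 248,
    ∀ t9 ∈ poss t3 248,
    ∀ t10 ∈ poss t8 t2, Ok 32 (1 * 248 + 3 * t2 + (-4) * t4 + (-6) * t5 + (-2) * t8 + 8 * t10) → Ok 256 (1 * 248 + 1 * t1 + (-1) * t2 + (-13) * t3 + (-12) * t4 + 4 * t5 + 16 * t6 + 4 * t8 + 32 * t9 + (-32) * t10) →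
    ∀ t11 ∈ poss t5 t2, Ok 512 (1 * 248 + 7 * t1 + 27 * t2 + 41 * t3 + 68 * t4 + 20 * t5 + 40 * t6 + 40 * t7 + 92 * t8 + 112 * t9 + 32 * t10 + 32 * t11) → Ok 512 (1 * 248 + 7 * t1 + 11 * t2 + 25 * t3 + 36 * t4 + 4 * t5 + 8 * t6 + 8 * t7 + (-20) * t8 + (-16) * t9 + (-32) * t10 + (-32) * t11) → Ok 512 (1 * 248 + (-1) * t1 + 27 * t2 + 17 * t3 + 4 * t4 + 4 * t5 + (-24) * t6 + (-24) * t7 + 76 * t8 + (-16) * t9 + (-32) * t10 + (-32) * t11) →
    0 < (-2) * 248 + (-6) * t1 + (-22) * t2 + (-26) * t3 + (-8) * t4 + 8 * t5 + 48 * t6 + 48 * t7 + 56 * t8 + 160 * t9 + 128 * t10 + 128 * t11 ∧ t1 ≠ t4 := by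
  decide +kernel

end Cfsg.Agent.H4.Bm.S
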