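import Cfsg.Agent.H4.Dick

/-! Subfields of finite fields and the corresponding subgroups of `PGL₂(q)`. -/

set_option autoImplicit false
set_option linter.unusedSectionVars false

namespace Cfsg.Agent.H4.Subf

open MulAction Matrix Cfsg.Agent.H4.Mob Cfsg.Agent.H4.MobCard Cfsg.Agent.H4.Bar Cfsg.Agent.H4.Pair
  Cfsg.Agent.H4.Dick

variable {F : Type*} [Field F] [Finite F]

theorem pow_card_sub (E : Subfield F) {x : F} (hx : x ∈ E) (k : ℕ) : x ^ Nat.card E ^ k = x := by
  have := Fintype.ofFinite E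
  rw [Nat.card_eq_fintype_card]
  exact congrArg Subtype.val (FiniteField.pow_card_pow k (⟨x, hx⟩ : E))

theorem exists_subfield {m r : ℕ} (h : Nat.card F = m ^ r) :
    ∃ E : Subfield F, Nat.card E = m ∧ ∀ x, x ∈ E ↔ x ^ m = x := by
  have := Fintype.ofFinite F
  obtain ⟨p, hp⟩ := CharP.exists F
  obtain ⟨n, hpp, hn⟩ := FiniteField.card F p
  have := Fact.mk hpp
  have h1 : 1 < Nat.card F := Finite.one_lt_card
  have hr : r ≠ 0 := by rintro rfl; rw [h] at h1; simp at h1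
  have hm : 1 < m := by
    by_contra e
    have : m ^ r ≤ 1 := pow_le_one₀ (Nat.zero_le _) (by omega)
    omega
  obtain ⟨a, -, rfl⟩ := (Nat.dvd_prime_pow hpp).1 (show m ∣ p ^ (n : ℕ) by
    rw [← hn, ← Nat.card_eq_fintype_card, h]; exact dvd_pow_self m hr)
  let E : Subfield F := RingHom.eqLocusField (iterateFrobenius F p a) (RingHom.id F)
  have hE : ∀ x, x ∈ E ↔ x ^ p ^ a = x := fun _ => Iff.rfl
  refine ⟨E, ?_, hE⟩
  have h2 : Nat.card (powMonoidHom (p ^ a - 1) : Fˣ →* Fˣ).ker = p ^ a - 1 := by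
    rw [IsCyclic.card_powMonoidHom_ker, Nat.card_units, h]
    exact Nat.gcd_eq_right (by simpa using Nat.sub_dvd_pow_sub_pow (p ^ a) 1 r)
  have h3 : (E : Set F) = insert 0 (Units.val '' ((powMonoidHom (p ^ a - 1) : Fˣ →* Fˣ).ker : Set Fˣ)) := by
    ext x
    simp only [SetLike.mem_coe, hE, Set.mem_insert_iff, Set.mem_image, MonoidHom.mem_ker,
      powMonoidHom_apply]
    have e : p ^ a = p ^ a - 1 + 1 := by omega
    constructor
    · intro hx
      by_cases h0 : x = 0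
      · exact Or.inl h0
      · refine Or.inr ⟨Units.mk0 x h0, Units.ext ?_, rfl⟩
        rw [e, pow_succ] at hx
        simpa using (mul_left_eq_self₀.1 hx).resolve_right h0
    · rintro (rfl | ⟨u, hu, rfl⟩)
      · exact zero_pow (by omega)
      · rw [e, pow_succ, ← Units.val_pow_eq_pow_val, hu]; simp
  change Nat.card (E : Set F) = _
  rw [Nat.card_coe_set_eq, h3, Set.ncard_insert_of_notMem (by simp),
    Set.ncard_image_of_injective _ Units.val_injective, ← Nat.card_coe_set_eq]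
  change Nat.card (powMonoidHom (p ^ a - 1) : Fˣ →* Fˣ).ker + 1 = _
  omega

theorem card_eq_pow (E : Subfield F) : Nat.card F = Nat.card E ^ Module.finrank E F :=
  Module.natCard_eq_pow_finrank

theorem eq_of_le_of_card {E E' : Subfield F} (h : E ≤ E') (hc : Nat.card E' ≤ Nat.card E) : E = E' :=
  SetLike.coe_injective (Set.eq_of_subset_of_ncard_le h hc)

theorem mem_iff_pow (E : Subfield F) {x : F} : x ∈ E ↔ x ^ Nat.card E = x := by
  obtain ⟨E', h1, h2⟩ := exists_subfield (card_eq_pow E)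
  rw [← h2, eq_of_le_of_card (E := E) (E' := E') (fun x hx => (h2 x).2 (by
    simpa using pow_card_sub E hx 1)) h1.le]

theorem card_top : Nat.card (⊤ : Subfield F) = Nat.card F :=
  Nat.card_congr Subfield.topEquiv.toEquiv

theorem exists_prime_over {E : Subfield F} (hE : E ≠ ⊤) :
    ∃ (E' : Subfield F) (r : ℕ), E ≤ E' ∧ r.Prime ∧ Nat.card F = Nat.card E' ^ r := by
  have h := card_eq_pow E
  have h1 : Module.finrank E F ≠ 1 := fun e =>
    hE (eq_of_le_of_card le_top (by rw [card_top, h, e, pow_one]))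
  obtain ⟨r, hr, k, hk⟩ := Nat.exists_prime_and_dvd h1
  rw [hk, mul_comm, pow_mul] at h
  obtain ⟨E', h2, h3⟩ := exists_subfield h
  exact ⟨E', r, fun x hx => (h3 x).2 (pow_card_sub E hx k), hr, by rw [h2, h]⟩

theorem ne_top_of_pow {E : Subfield F} {r : ℕ} (hr : r.Prime) (h : Nat.card F = Nat.card E ^ r) :
    E ≠ ⊤ := by
  rintro rfl
  rw [card_top] at h
  have := Nat.pow_lt_pow_right (Finite.one_lt_card (α := F)) hr.one_lt
  rw [pow_one] at this
  omega

theorem two_ne_sub (h2 : (2 : F) ≠ 0) (E : Subfield F) : (2 : E) ≠ 0 := fun e =>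
  h2 (by rw [← map_ofNat E.subtype 2, e, map_zero])

theorem PGsub_le_LS (h2 : (2 : F) ≠ 0) {E : Subfield F} (h : Nat.card F = Nat.card E ^ 2) :
    PGsub E ≤ LS F := by
  intro g hg
  obtain ⟨a, b, c, d, hd, ha, hb, hc, hd', rfl⟩ := exists_of_mem_PGsub hg
  have := Fintype.ofFinite F
  rw [mob_mem_range_toPGL, FiniteField.isSquare_iff (ringChar_ne h2) hd, ← Nat.card_eq_fintype_card, h]
  obtain ⟨k, hk⟩ := odd_of_two_ne (two_ne_sub h2 E)
  have h1 := (mem_iff_pow E).1 (E.sub_mem (E.mul_mem ha hd') (E.mul_mem hb hc))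
  rw [hk, pow_succ] at h1
  rw [hk, show (2 * k + 1) ^ 2 / 2 = 2 * k * (k + 1) by
    rw [show (2 * k + 1) ^ 2 = 1 + 2 * (2 * k * (k + 1)) by ring]; omega, pow_mul,
    (mul_left_eq_self₀.1 h1).resolve_right hd, one_pow]

theorem LS_inf_PGsub (h2 : (2 : F) ≠ 0) {E : Subfield F} {r : ℕ} (hr : Odd r)
    (h : Nat.card F = Nat.card E ^ r) : LS F ⊓ PGsub E = PSsub E := by
  refine le_antisymm ?_ (le_inf (PSsub_le_LS E) (PSsub_le E))
  rintro g ⟨hL, hg⟩
  obtain ⟨a, b, c, d, hd, ha, hb, hc, hd', rfl⟩ := exists_of_mem_PGsub hg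
  obtain ⟨y, hy⟩ := mob_mem_range_toPGL.1 hL
  refine mob_mem_PSsub ha hb hc hd' ((mem_iff_pow E).2 ?_) hy
  have h1 := (mem_iff_pow E).1 (E.sub_mem (E.mul_mem ha hd') (E.mul_mem hb hc))
  rw [hy, mul_pow] at h1
  refine (mul_self_eq_mul_self_iff.1 h1).resolve_right fun e => ?_
  have ho := odd_of_two_ne (two_ne_sub h2 E)
  have key : ∀ k, y ^ Nat.card E ^ k = (-1) ^ k * y := by
    intro k
    induction k with
    | zero => simp
    | succ k ih => rw [pow_succ, pow_mul, ih, mul_pow, e, ← pow_mul, mul_comm k, pow_mul,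
        ho.neg_one_pow]; ring
  have := Fintype.ofFinite F
  have h3 := key r
  rw [← h, Nat.card_eq_fintype_card, FiniteField.pow_card, hr.neg_one_pow] at h3
  have : y = 0 := mul_left_cancel₀ h2 (by linear_combination h3)
  exact hd (by rw [hy, this, mul_zero])

theorem card_PGsub (E : Subfield F) :
    Nat.card (PGsub E) = (Nat.card E + 1) * Nat.card E * (Nat.card E - 1) := by
  rw [← card_PG, Nat.card_congr (pgSubEquiv E).toEquiv]

theorem card_PSsub (h2 : (2 : F) ≠ 0) (E : Subfield F) :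
    2 * Nat.card (PSsub E) = (Nat.card E + 1) * Nat.card E * (Nat.card E - 1) := by
  rw [← card_PS_odd _ (odd_of_two_ne (two_ne_sub h2 E)), Nat.card_congr (psSubEquiv E).toEquiv]

theorem exists_model (K : Type*) [Field K] [Finite K] :
    ∃ (F₀ : Type) (_ : Field F₀) (_ : Fintype F₀), Fintype.card F₀ = Nat.card K ∧
      Nonempty (K ≃+* F₀) := by
  have : Finite (Shrink.{0} K) := Finite.of_equiv K (equivShrink.{0} K)
  have := Fintype.ofFinite (Shrink.{0} K)
  exact ⟨Shrink.{0} K, inferInstance, this, by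
    rw [← Nat.card_eq_fintype_card, Nat.card_congr (equivShrink.{0} K)],
    ⟨(Shrink.ringEquiv.{0} K).symm⟩⟩

theorem nonempty_ringEquiv {K K' : Type*} [Field K] [Finite K] [Field K'] [Finite K']
    (h : Nat.card K = Nat.card K') : Nonempty (K ≃+* K') := by
  have := Fintype.ofFinite K
  have := Fintype.ofFinite K'
  exact ⟨FiniteField.ringEquivOfCardEq (by simpa using h)⟩

theorem exists_golden {K : Type*} [Field K] [Finite K] (h2 : (2 : K) ≠ 0)
    (h : Nat.card K % 5 = 1 ∨ Nat.card K % 5 = 4) : ∃ φ : K, φ * φ = φ + 1 := by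
  have := Fintype.ofFinite K
  have : Fact (Nat.Prime 5) := ⟨Nat.prime_five⟩
  have ho := Nat.odd_iff.1 (odd_of_two_ne h2)
  rw [Nat.card_eq_fintype_card] at h ho
  obtain ⟨s, hs⟩ : IsSquare ((5 : ℕ) : K) := by
    rw [FiniteField.isSquare_odd_prime_iff (ringChar_ne h2) (by norm_num), Ne,
      quadraticChar_neg_one_iff_not_isSquare, not_not, ZMod.χ₄_nat_eq_if_mod_four,
      ← ZMod.natCast_mod (Fintype.card K) 5]
    rw [if_neg (by omega)]
    rcases h with h | h <;> rw [h] <;> split_ifs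
    exacts [⟨1, by decide +revert⟩, ⟨2, by decide +revert⟩, ⟨2, by decide +revert⟩,
      ⟨1, by decide +revert⟩]
  refine ⟨(1 + s) / 2, ?_⟩
  field_simp
  push_cast at hs
  linear_combination -hs

theorem exists_golden_sub (h2 : (2 : F) ≠ 0) {E : Subfield F}
    (h : Nat.card E % 5 = 1 ∨ Nat.card E % 5 = 4) : ∃ φ ∈ E, φ * φ = φ + 1 := by
  obtain ⟨φ, h⟩ := exists_golden (two_ne_sub h2 E) h
  exact ⟨φ, φ.2, congrArg Subtype.val h⟩

theorem not_PSsub_le_stab (E : Subfield F) (x : P1 F) : ¬ PSsub E ≤ stabilizer (PG F) x := by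
  intro h
  rcases P1_cases x with rfl | ⟨t, rfl⟩
  · have := h (mob_mem_PSsub (a := 0) (b := -1) (c := 1) (d := 0) (s := 1) (h := by simp) E.zero_mem
      (E.neg_mem E.one_mem) E.one_mem E.zero_mem E.one_mem (by ring))
    simp [mob_smul_inf_eq_inf] at this
  · simpa using h (tr_mem_PSsub E.one_mem)

theorem not_PSsub_le_Nor {E : Subfield F} (h3 : 3 ≤ Nat.card E) {x y : P1 (Kb F)} (hxy : x ≠ y) :
    ¬ PSsub E ≤ Nor x y := by
  intro h
  have key : ∀ b : F, b ≠ 0 → tr b ∉ Tor x y := fun b hb e => by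
    have h1 : x ∈ fixedBy (P1 (Kb F)) (tr b) := e.1
    have h2 : y ∈ fixedBy (P1 (Kb F)) (tr b) := e.2
    rw [tr_fixed hb] at h1 h2
    exact hxy (h1.trans h2.symm)
  obtain ⟨b, h0, h1⟩ : ∃ b : E, b ≠ 0 ∧ b ≠ -1 := by
    by_contra hc
    push Not at hc
    have := Set.ncard_le_ncard (s := Set.univ) (t := {(0 : E), -1}) fun b _ => by
      by_cases e : b = 0
      · exact Or.inl e
      · exact Or.inr (hc b e)
    rw [Set.ncard_univ] at this
    have := this.trans (Set.ncard_insert_le _ _)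
    rw [Set.ncard_singleton] at this
    omega
  have := mul_mem_Tor (h (tr_mem_PSsub b.2)) (h (tr_mem_PSsub E.one_mem))
    (key _ fun e => h0 (Subtype.ext e)) (key _ one_ne_zero)
  rw [tr_mul] at this
  exact key _ (fun e => h1 (Subtype.ext (by simpa using eq_neg_of_add_eq_zero_left e))) this

theorem arith {p a b r s : ℕ} (hp : p.Prime) (hr : r.Prime) (hs : s.Prime) (ha : a ≠ 0)
    (h : a * r = b * s)
    (hd : (p ^ a + 1) * p ^ a * (p ^ a - 1) ∣ 2 * ((p ^ b + 1) * p ^ b * (p ^ b - 1))) : a = b := by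
  have h1 : 2 ≤ p ^ a := Nat.one_lt_pow ha hp.one_lt
  have e1 : (p ^ a + 1) * (p ^ a - 1) = p ^ (2 * a) - 1 := by
    rw [mul_comm 2, pow_mul, ← Nat.sq_sub_sq, one_pow]
  have e2 : (p ^ b + 1) * (p ^ b - 1) = p ^ (2 * b) - 1 := by
    rw [mul_comm 2, pow_mul, ← Nat.sq_sub_sq, one_pow]
  have h2 : p ^ (2 * a) - 1 ∣ 2 * (p ^ (2 * b) - 1) * p ^ b := by
    rw [← e1, ← e2]
    refine Dvd.dvd.trans ⟨p ^ a, by ring⟩ (hd.trans (dvd_of_eq (by ring)))
  have h3 : (p ^ (2 * a) - 1).Coprime (p ^ b) := by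
    refine Nat.Coprime.pow_right _ (Nat.Coprime.symm ((Nat.Prime.coprime_iff_not_dvd hp).2 fun e => ?_))
    have h4 : p ∣ p ^ (2 * a) := dvd_pow_self p (by omega)
    have h5 : 1 ≤ p ^ (2 * a) := Nat.one_le_pow _ _ hp.pos
    exact hp.one_lt.ne' (Nat.dvd_one.1 (by simpa [Nat.sub_sub_self h5] using Nat.dvd_sub h4 e))
  have h4 : p ^ (2 * a) - 1 ∣ 2 * (p ^ (2 * Nat.gcd a b) - 1) := by
    rw [← Nat.gcd_mul_left, ← Nat.pow_sub_one_gcd_pow_sub_one, ← Nat.gcd_mul_left]
    exact Nat.dvd_gcd (Dvd.intro_left _ rfl) (h3.dvd_of_dvd_mul_right h2)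
  have h5 : a ∣ b := by
    obtain ⟨k, hk⟩ := Nat.gcd_dvd_left a b
    have hg : 0 < Nat.gcd a b := Nat.gcd_pos_of_pos_left _ (Nat.pos_of_ne_zero ha)
    by_contra hn
    have hk2 : 2 ≤ k := by
      rcases k with _ | _ | k
      · omega
      · exact absurd (by rw [hk, zero_add, mul_one]; exact Nat.gcd_dvd_right a b) hn
      · omega
    have h6 : p ^ (2 * Nat.gcd a b) ≤ p ^ a := Nat.pow_le_pow_right hp.pos (by nlinarith)
    have h7 : 2 ≤ p ^ (2 * Nat.gcd a b) := Nat.one_lt_pow (by omega) hp.one_lt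
    have h8 := Nat.le_of_dvd (by omega) h4
    rw [← e1] at h8
    obtain ⟨m, hm⟩ : ∃ m, p ^ a = m + 1 := ⟨p ^ a - 1, by omega⟩
    rw [hm] at h8 h6 h1
    simp only [Nat.add_sub_cancel] at h8
    have : (m + 1 + 1) * m ≤ 2 * m := by omega
    nlinarith
  obtain ⟨c, rfl⟩ := h5
  have h6 : r = c * s := Nat.eq_of_mul_eq_mul_left (Nat.pos_of_ne_zero ha) (by rw [h]; ring)
  rcases (Nat.dvd_prime hr).1 ⟨s, h6⟩ with rfl | rfl
  · simp
  · have := hs.one_lt
    have := hr.pos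
    nlinarith

theorem card_eq_of_dvd {E E' : Subfield F} {r s : ℕ} (hr : r.Prime) (hs : s.Prime)
    (h : Nat.card F = Nat.card E ^ r) (h' : Nat.card F = Nat.card E' ^ s)
    (hd : (Nat.card E + 1) * Nat.card E * (Nat.card E - 1) ∣
      2 * ((Nat.card E' + 1) * Nat.card E' * (Nat.card E' - 1))) : Nat.card E = Nat.card E' := by
  obtain ⟨p, hp⟩ := CharP.exists F
  have := Fintype.ofFinite E
  have := Fintype.ofFinite E'
  obtain ⟨a, hpp, ha⟩ := FiniteField.card E p
  obtain ⟨b, -, hb⟩ := FiniteField.card E' p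
  rw [← Nat.card_eq_fintype_card] at ha hb
  rw [ha, hb] at hd ⊢
  rw [h, ha, hb, ← pow_mul, ← pow_mul] at h'
  rw [arith hpp hr hs a.ne_zero (Nat.pow_right_injective hpp.two_le h') hd]

end Cfsg.Agent.H4.Subf
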