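import Cfsg.Agent.H4.Quat
import Cfsg.Agent.H4.Subf
import Cfsg.Agent.H2.QuatAut

/-! Maximal subgroups of `PSL₂(q)` and `PGL₂(q)`. -/

set_option autoImplicit false
set_option linter.unusedSectionVars false

namespace Cfsg.Agent.H4.Max

open MulAction Matrix Cfsg.Agent.H4.Mob Cfsg.Agent.H4.MobCard Cfsg.Agent.H4.Bar Cfsg.Agent.H4.Pair
  Cfsg.Agent.H4.Dick Cfsg.Agent.H4.Quat Cfsg.Agent.H4.Subf

theorem sylow_conj {G : Type*} [Group G] [Finite G] {p k : ℕ} (hp : p.Prime) {H P Q : Subgroup G}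
    (hP : P ≤ H) (hQ : Q ≤ H) (hc : Nat.card P = p ^ k) (hc' : Nat.card Q = p ^ k)
    (hn : ¬ p ^ (k + 1) ∣ Nat.card H) : ∃ g, cj g P = Q := by
  have := Fact.mk hp
  have h1 : (Nat.card H).factorization p = k := by
    have h0 : Nat.card H ≠ 0 := Nat.card_pos.ne'
    have h2 := (hp.pow_dvd_iff_le_factorization h0).1 (hc ▸ Subgroup.card_dvd_of_le hP)
    have h3 := mt (hp.pow_dvd_iff_le_factorization h0).2 hn
    omega
  obtain ⟨g, hg⟩ := exists_smul_eq H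
    (Sylow.ofCard (P.subgroupOf H) (by
      rw [h1, Nat.card_congr (Subgroup.subgroupOfEquivOfLe hP).toEquiv, hc]))
    (Sylow.ofCard (Q.subgroupOf H) (by
      rw [h1, Nat.card_congr (Subgroup.subgroupOfEquivOfLe hQ).toEquiv, hc']))
  have hg := congrArg Sylow.toSubgroup hg
  rw [Sylow.coe_subgroup_smul, Sylow.coe_ofCard, Sylow.coe_ofCard] at hg
  refine ⟨g, Subgroup.eq_of_le_of_card_ge ?_ (by rw [card_cj, hc, hc'])⟩
  rintro _ ⟨x, hx, rfl⟩
  have : MulAut.conj g • (⟨x, hP hx⟩ : H) ∈ Q.subgroupOf H :=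
    hg ▸ Subgroup.smul_mem_pointwise_smul _ _ _ hx
  exact this

variable {F : Type*} [Field F] [Finite F]

/-- `M` is maximal among the subgroups of `H` not containing `PSL₂` -/
structure Mx (H M : Subgroup (PG F)) : Prop where
  LH : LS F ≤ H
  normal : H.Normal
  le : M ≤ H
  nle : ¬ LS F ≤ M
  max : ∀ B, M ≤ B → B ≤ H → ¬ LS F ≤ B → B ≤ M

theorem Mx.conj {H M : Subgroup (PG F)} (h : Mx H M) (g : PG F) : Mx H (cj g M) := by
  have := h.normal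
  refine ⟨h.LH, h.normal, by rw [cj_le_iff, cj_normal]; exact h.le,
    by rw [le_cj_iff, cj_normal]; exact h.nle, fun B h1 h2 h3 => le_cj_iff.2 (h.max _
      (cj_le_iff.1 h1) ?_ ?_)⟩
  · rwa [cj_le_iff, cj_normal]
  · rwa [le_cj_iff, cj_normal]

theorem Mx.eq_inf {H M A : Subgroup (PG F)} (h : Mx H M) (hA : M ≤ A) (hL : ¬ LS F ≤ A) :
    M = H ⊓ A :=
  le_antisymm (le_inf h.le hA) (h.max _ (le_inf h.le hA) inf_le_left fun e => hL (e.trans inf_le_right))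

theorem Mx.of_forall {H B : Subgroup (PG F)} (hL : LS F ≤ H) (hn : H.Normal) (hB : B ≤ H)
    (hB' : ¬ LS F ≤ B) (h : ∀ M, B ≤ M → Mx H M → M ≤ B) : Mx H B := by
  refine ⟨hL, hn, hB, hB', fun C h1 h2 h3 => ?_⟩
  obtain ⟨M, h4, h5⟩ := Finite.exists_le_maximal (p := fun M => M ≤ H ∧ ¬ LS F ≤ M) ⟨h2, h3⟩
  exact h4.trans (h M (h1.trans h4) ⟨hL, hn, h5.1.1, h5.1.2, fun D h6 h7 h8 => h5.2 ⟨h7, h8⟩ h6⟩)

theorem exists_mx {H B : Subgroup (PG F)} (hL : LS F ≤ H) (hn : H.Normal) (hB : B ≤ H)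
    (hB' : ¬ LS F ≤ B) : ∃ M, B ≤ M ∧ Mx H M := by
  obtain ⟨M, h4, h5⟩ := Finite.exists_le_maximal (p := fun M => M ≤ H ∧ ¬ LS F ≤ M) ⟨hB, hB'⟩
  exact ⟨M, h4, hL, hn, h5.1.1, h5.1.2, fun D h6 h7 h8 => h5.2 ⟨h7, h8⟩ h6⟩

theorem Mx.isCoatom {G : Type*} [Group G] {φ : G →* PG F} (hφ : Function.Injective φ)
    (hr : φ.range = LS F) {B : Subgroup (PG F)} (h : Mx (LS F) B) : IsCoatom (B.comap φ) := by
  refine ⟨fun e => h.nle ?_, fun C hC => ?_⟩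
  · rw [← hr]
    rintro _ ⟨x, rfl⟩
    exact (e ▸ Subgroup.mem_top x : x ∈ B.comap φ)
  · by_contra e
    refine hC.not_ge (Subgroup.map_le_iff_le_comap.1 (h.max _ ?_ (hr ▸ Subgroup.map_le_range _ _) ?_))
    · intro x hx
      obtain ⟨y, rfl⟩ : x ∈ φ.range := hr ▸ h.le hx
      exact ⟨y, hC.le hx, rfl⟩
    · intro h1
      refine e (eq_top_iff.2 fun y _ => ?_)
      obtain ⟨z, hz, e⟩ := h1 (hr ▸ ⟨y, rfl⟩ : φ y ∈ LS F)
      exact hφ e ▸ hz

theorem mx_of_coatom {M : Subgroup (PS F)} (h : IsCoatom M) :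
    Mx (LS F) (M.map ProjectiveSpecialLinearGroup.toPGL) := by
  have hi := ProjectiveSpecialLinearGroup.toPGL_injective (n := Fin 2) (R := F)
  refine ⟨le_rfl, inferInstance, Subgroup.map_le_range _ _, fun e => h.1 (eq_top_iff.2 fun y _ => ?_),
    fun B h1 h2 h3 => ?_⟩
  · obtain ⟨z, hz, e⟩ := e ⟨y, rfl⟩
    exact hi e ▸ hz
  · rcases h.le_iff.1 (Subgroup.map_le_iff_le_comap.1 h1) with e | e
    · refine absurd ?_ h3
      rintro _ ⟨x, rfl⟩
      exact (e ▸ Subgroup.mem_top x : x ∈ B.comap _)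
    · intro x hx
      obtain ⟨y, rfl⟩ := h2 hx
      exact ⟨y, e ▸ hx, rfl⟩

theorem mx_of_coatom_top {M : Subgroup (PG F)} (h : IsCoatom M) (hL : ¬ LS F ≤ M) : Mx ⊤ M :=
  ⟨le_top, inferInstance, le_top, hL, fun B h1 _ h3 =>
    ((h.le_iff.1 h1).resolve_left fun e => h3 (e ▸ le_top)).le⟩

theorem Mx.exists_coatom {B : Subgroup (PG F)} (h : Mx (LS F) B) {G : Type*} [Group G]
    (e : Nonempty (B ≃* G)) : ∃ H : Subgroup (PS F), IsCoatom H ∧ Nonempty (H ≃* G) := by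
  have hi := ProjectiveSpecialLinearGroup.toPGL_injective (n := Fin 2) (R := F)
  obtain ⟨e⟩ := e
  exact ⟨_, h.isCoatom hi rfl, ⟨((Subgroup.equivMapOfInjective _ _ hi).trans
    (MulEquiv.subgroupCongr (Subgroup.map_comap_eq_self h.le))).trans e⟩⟩

theorem card_LS_dvd : Nat.card (LS F) ∣ (Nat.card F + 1) * Nat.card F * (Nat.card F - 1) :=
  card_PG F ▸ Subgroup.card_subgroup_dvd_card _

theorem not_LS_le_of_card {B : Subgroup (PG F)} {n m : ℕ} (hB : Nat.card B ≤ n) (hm : m ≤ Nat.card F)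
    (h : 2 * n < (m + 1) * m * (m - 1)) : ¬ LS F ≤ B := by
  intro e
  have h1 := Subgroup.card_le_of_le e
  have h2 := (LS F).index_mul_card
  have h3 : (LS F).index ≤ 2 := by rw [index_LS]; exact Nat.gcd_le_right _ two_pos
  have h4 : (m + 1) * m * (m - 1) ≤ Nat.card (PG F) := by
    rw [card_PG]; gcongr
  have := Nat.mul_le_mul h3 (h1.trans hB)
  omega

theorem Mx.sub_case {H M : Subgroup (PG F)} (h : Mx H M) {g : PG F} {E : Subfield F}
    (hE : E ≠ ⊤) (h3 : 3 ≤ Nat.card E) (hle : cj g M ≤ PGsub E) :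
    ∃ (g : PG F) (E : Subfield F) (r : ℕ), r.Prime ∧ Nat.card F = Nat.card E ^ r ∧
      3 ≤ Nat.card E ∧ cj g M = H ⊓ PGsub E := by
  obtain ⟨E', r, h1, h2, h4⟩ := exists_prime_over hE
  exact ⟨g, E', r, h2, h4, h3.trans (Set.ncard_le_ncard (s := (E : Set F)) (t := E') h1),
    (h.conj g).eq_inf (hle.trans (PGsub_mono h1)) (not_LS_le_PGsub (ne_top_of_pow h2 h4))⟩

theorem std_of_facts (h2 : (2 : F) ≠ 0) {a b : F} (hab : a * a + b * b = -1) {M : Subgroup (PG F)}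
    {G : Type*} [Group G] (e : M ≃* G) (h : ∃ i j : G, i ≠ 1 ∧ j ≠ 1 ∧ i ≠ j ∧ i * i = 1 ∧ j * j = 1 ∧
    i * j = j * i ∧ (∃ x y, i = x * y * x⁻¹ * y⁻¹) ∧ (∃ x y, j = x * y * x⁻¹ * y⁻¹) ∧
    (∀ g, (g * i * g⁻¹ = i ∨ g * i * g⁻¹ = j ∨ g * i * g⁻¹ = i * j) ∧
      (g * j * g⁻¹ = i ∨ g * j * g⁻¹ = j ∨ g * j * g⁻¹ = i * j))) :
    ∃ g, cj g M ≤ N0 h2 hab := by
  obtain ⟨i, j, h1, h3, h4, h5, h6, h7, ⟨x, y, h8⟩, ⟨z, w, h9⟩, h10⟩ := h
  let f : G →* PG F := M.subtype.comp e.symm.toMonoidHom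
  have hK : K4 (f i) (f j) :=
    K4.map ⟨h1, h3, h4, h5, h6, h7.symm⟩ f (M.subtype_injective.comp e.symm.injective)
  obtain ⟨g, e1, e2⟩ := hK.conj h2 (k4 h2 hab)
    (by rw [h8]; simp only [map_mul, map_inv]; exact commutator_mem_LS _ _)
    (by rw [h9]; simp only [map_mul, map_inv]; exact commutator_mem_LS _ _) qi_LS (qj_LS hab)
  refine ⟨g, ?_⟩
  rintro _ ⟨m, hm, rfl⟩
  obtain ⟨k, rfl⟩ : ∃ k, f k = m := ⟨e ⟨m, hm⟩, by simp [f]⟩
  have key : ∀ u, (k * u * k⁻¹ = i ∨ k * u * k⁻¹ = j ∨ k * u * k⁻¹ = i * j) →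
      g * f k * g⁻¹ * (g * f u * g⁻¹) * (g * f k * g⁻¹)⁻¹ ∈ (k4 h2 hab).V := by
    intro u hu
    have : g * f k * g⁻¹ * (g * f u * g⁻¹) * (g * f k * g⁻¹)⁻¹ = g * f (k * u * k⁻¹) * g⁻¹ := by
      simp only [map_mul, map_inv]; group
    rw [this, K4.mem_V]
    rcases hu with h | h | h <;> rw [h]
    · simp [e1]
    · simp [e2]
    · rw [← e1, ← e2]; simp [mul_assoc]
  have k1 := key i (h10 k).1
  have k2 := key j (h10 k).2
  rw [e1] at k1
  rw [e2] at k2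
  exact (k4 h2 hab).mem_N k1 k2

theorem A4_sq : ∀ g : alternatingGroup (Fin 4), ∃ x y, g = x * x * (y * y) := by decide +kernel

theorem A4_le_LS {M : Subgroup (PG F)} (e : M ≃* alternatingGroup (Fin 4)) : M ≤ LS F := by
  intro m hm
  obtain ⟨x, y, h⟩ := A4_sq (e ⟨m, hm⟩)
  have : m = e.symm x * e.symm x * (e.symm y * e.symm y) := by
    have := congrArg (fun u => (e.symm u : PG F)) h
    simpa using this
  exact this ▸ (LS F).mul_mem (mul_self_mem_LS _) (mul_self_mem_LS _)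

theorem A5_le_LS {M : Subgroup (PG F)} (e : M ≃* alternatingGroup (Fin 5)) : M ≤ LS F := by
  let f : alternatingGroup (Fin 5) →* PG F := M.subtype.comp e.symm.toMonoidHom
  rcases (inferInstance : ((LS F).comap f).Normal).eq_bot_or_eq_top with h | h
  · have : ∀ x : alternatingGroup (Fin 5), x * x = 1 := fun x => by
      rw [← Subgroup.mem_bot, ← h, Subgroup.mem_comap, map_mul]
      exact mul_self_mem_LS _
    exact absurd this (by decide +kernel)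
  · intro m hm
    have : e ⟨m, hm⟩ ∈ (LS F).comap f := h ▸ Subgroup.mem_top _
    simpa [f] using this

open scoped MatrixGroups in
theorem exists_B5 (h2 : (2 : F) ≠ 0) {a b : F} (hab : a * a + b * b = -1)
    (h : Nat.card F % 5 = 1 ∨ Nat.card F % 5 = 4) : ∃ B : Subgroup (PG F), B ≤ LS F ∧ ¬ LS F ≤ B ∧
      qi ∈ B ∧ qj hab ∈ B ∧ qw h2 hab ∈ B ∧
      ∃ r ∈ B, ∃ s ∈ B, r ≠ 1 ∧ r ^ 5 = 1 ∧ s * r * s⁻¹ = r⁻¹ := by
  obtain ⟨φ, hφ⟩ := exists_golden h2 h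
  obtain ⟨ψ, h1, h3, h4, h5, h6⟩ := exists_icos h2 hab hφ
  have ho := Nat.odd_iff.1 (odd_of_two_ne h2)
  have := Finite.one_lt_card (α := F)
  let r : SL(2, ZMod 5) := ⟨!![1, 1; 0, 1], by rw [Matrix.det_fin_two_of]; decide⟩
  let s : SL(2, ZMod 5) := ⟨!![2, 0; 0, 3], by rw [Matrix.det_fin_two_of]; decide⟩
  refine ⟨ψ.range, h3, not_LS_le_of_card (n := 120) (m := 7) ?_ (by omega) (by norm_num), h4, h5, h6,
    ψ r, ⟨r, rfl⟩, ψ s, ⟨s, rfl⟩, fun e => ?_, ?_, ?_⟩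
  · rw [← H2.QuatAut.card_sl]
    exact Nat.card_le_card_of_surjective _ ψ.rangeRestrict_surjective
  · exact absurd (Subgroup.mem_center_iff.1 (h1 e) s) (by decide +kernel)
  · rw [← map_pow, show r ^ 5 = 1 by decide +kernel, map_one]
  · have : r * (s * r) = s := Subtype.ext (by decide +kernel)
    rw [mul_inv_eq_iff_eq_mul, eq_inv_mul_iff_mul_eq, ← map_mul, ← map_mul, this]

theorem five_dvd_of {B : Subgroup (PG F)} {r : PG F} (hr : r ∈ B) (h1 : r ≠ 1) (h5 : r ^ 5 = 1) :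
    5 ∣ Nat.card B := by
  have : Fact (Nat.Prime 5) := ⟨Nat.prime_five⟩
  exact orderOf_eq_prime h5 h1 ▸ Subgroup.orderOf_dvd_natCard B hr

theorem mod_five_of_dvd {q : ℕ} (h : 5 ∣ (q + 1) * q * (q - 1)) (h5 : ¬ 5 ∣ q) (h1 : 1 ≤ q) :
    q % 5 = 1 ∨ q % 5 = 4 := by
  rcases (Nat.prime_five.dvd_mul).1 h with h | h
  · rcases (Nat.prime_five.dvd_mul).1 h with h | h <;> omega
  · omega

theorem even_of_pow_mod {p n : ℕ} (hp : p % 5 = 2 ∨ p % 5 = 3)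
    (h : p ^ n % 5 = 1 ∨ p ^ n % 5 = 4) : Even n := by
  rcases Nat.even_or_odd' n with ⟨k, rfl | rfl⟩
  · exact even_two_mul k
  have : ∀ k, p ^ (2 * k) % 5 = 1 ∨ p ^ (2 * k) % 5 = 4 := by
    intro k
    induction k with
    | zero => simp
    | succ k ih =>
      rw [mul_add, pow_add, mul_one, pow_two, Nat.mul_mod, Nat.mul_mod p p]
      rcases hp with h | h <;> rcases ih with h' | h' <;> simp [h, h']
  rw [pow_succ, Nat.mul_mod] at h
  rcases hp with h1 | h1 <;> rcases this k with h' | h' <;> simp [h1, h'] at h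

/-- classification of the maximal subgroups -/
theorem Mx.classify (h4 : 4 ≤ Nat.card F) (p : ℕ) [CharP F p] {H M : Subgroup (PG F)} (h : Mx H M) :
    (∃ x : P1 F, M = H ⊓ stabilizer (PG F) x) ∨ (∃ x y, IsPair x y ∧ M = H ⊓ Nor x y) ∨
    ((2 : F) ≠ 0 ∧ Nat.card F = p ∧ ¬ IsSquare (2 : F) ∧ ¬ (p % 5 = 1 ∨ p % 5 = 4) ∧
      Nonempty (M ≃* alternatingGroup (Fin 4))) ∨
    ((2 : F) ≠ 0 ∧ Nat.card F = p ∧ (M ≤ LS F ↔ IsSquare (2 : F)) ∧
      Nonempty (M ≃* Equiv.Perm (Fin 4))) ∨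
    ((2 : F) ≠ 0 ∧ (Nat.card F % 5 = 1 ∨ Nat.card F % 5 = 4) ∧ (Tame M ∨ (3 : F) = 0) ∧
      (Nat.card F = p ∨ (Nat.card F = p ^ 2 ∧ (p % 5 = 2 ∨ p % 5 = 3))) ∧
      Nonempty (M ≃* alternatingGroup (Fin 5))) ∨
    ∃ (g : PG F) (E : Subfield F) (r : ℕ), r.Prime ∧ Nat.card F = Nat.card E ^ r ∧
      3 ≤ Nat.card E ∧ cj g M = H ⊓ PGsub E := by
  have := Fintype.ofFinite F
  obtain ⟨n, hp, hn⟩ := FiniteField.card F p
  rw [← Nat.card_eq_fintype_card] at hn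
  obtain ⟨a, b, hab, habE⟩ := exists_ab (F := F)
  obtain ⟨E0, hE0, -⟩ := exists_subfield hn
  have hp3 : (2 : F) ≠ 0 → 3 ≤ p := fun h2 => by
    by_contra e
    have := hp.two_le
    exact h2 (by exact_mod_cast (CharP.cast_eq_zero_iff F p 2).2 (by rw [show p = 2 by omega]))
  have hN : ∀ h2 : (2 : F) ≠ 0, ¬ LS F ≤ N0 h2 hab := fun h2 =>
    not_LS_le_of_card (card_N0_le h2 hab) h4 (by norm_num)
  rcases dickson M with ⟨x, hx⟩ | ⟨x, y, hxy, hx⟩ | ⟨h2, -, he⟩ | ⟨h2, h5, ht, ⟨e⟩⟩ | ⟨g, E, h3, h5, h6⟩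
  · exact Or.inl ⟨x, h.eq_inf hx (PSsub_top (F := F) ▸ not_PSsub_le_stab ⊤ x)⟩
  · exact Or.inr (Or.inl ⟨x, y, hxy, h.eq_inf hx
      (PSsub_top (F := F) ▸ not_PSsub_le_Nor (by rw [card_top]; omega) hxy.ne)⟩)
  · right; right
    obtain ⟨g, hg⟩ : ∃ g, cj g M ≤ N0 h2 hab := by
      rcases he with ⟨⟨e⟩⟩ | ⟨⟨e⟩⟩
      · exact std_of_facts h2 hab e Small.A4_facts
      · exact std_of_facts h2 hab e Small.S4_facts
    by_cases hE : E0 = ⊤
    swap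
    · exact Or.inr (Or.inr (Or.inr (h.sub_case hE (hE0 ▸ hp3 h2)
        (hg.trans (N0_le_PGsub h2 hab (habE _).1 (habE _).2)))))
    rw [hE, card_top] at hE0
    have hg' := (h.conj g).eq_inf hg (hN h2)
    rcases he with ⟨⟨e⟩⟩ | ⟨⟨e⟩⟩
    · have hc : Nat.card (cj g M) = 12 := by rw [card_cj, Nat.card_congr e.toEquiv, Small.card_A4]
      have hs : ¬ IsSquare (2 : F) := fun hs => by
        rw [hg', inf_eq_right.2 (((N0_le_LS h2 hab).2 hs).trans h.LH), card_N0] at hc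
        omega
      refine Or.inl ⟨h2, hE0, hs, fun h5 => ?_, ⟨e⟩⟩
      obtain ⟨B, b1, b2, b3, b4, b5, r, hr, -, -, r1, r5, -⟩ := exists_B5 h2 hab (hE0 ▸ h5)
      have hL : cj g M ≤ LS F := by rw [cj_le_iff, cj_normal]; exact A4_le_LS e
      have := five_dvd_of ((h.conj g).max B ((le_inf hL hg).trans (LS_N0_le h2 hab hs b3 b4 b5))
        (b1.trans h.LH) b2 hr) r1 r5
      omega
    · refine Or.inr (Or.inl ⟨h2, hE0, ?_, ⟨e⟩⟩)
      rw [← N0_le_LS h2 hab, ← Subgroup.eq_of_le_of_card_ge hg (by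
        rw [card_N0, card_cj, Nat.card_congr e.toEquiv, Small.card_S4]), cj_le_iff, cj_normal]
  · right; right; right; right
    have hL := A5_le_LS e
    have hc : Nat.card M = 60 := by rw [Nat.card_congr e.toEquiv, Small.card_A5]
    have hp5 : ¬ 5 ∣ p := fun e => h5 (by
      have := (Nat.prime_dvd_prime_iff_eq Nat.prime_five hp).1 e
      exact_mod_cast (CharP.cast_eq_zero_iff F p 5).2 (this ▸ dvd_rfl))
    have hq : Nat.card F % 5 = 1 ∨ Nat.card F % 5 = 4 :=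
      mod_five_of_dvd ((Dvd.dvd.trans (by rw [hc]; norm_num) (Subgroup.card_dvd_of_le hL)).trans
        card_LS_dvd) (fun e => hp5 (Nat.prime_five.dvd_of_dvd_pow (hn ▸ e))) (by omega)
    obtain ⟨E, hE5, hE⟩ : ∃ E : Subfield F, (Nat.card E % 5 = 1 ∨ Nat.card E % 5 = 4) ∧
        (Nat.card E = p ∨ (Nat.card E = p ^ 2 ∧ (p % 5 = 2 ∨ p % 5 = 3))) := by
      by_cases h6 : p % 5 = 1 ∨ p % 5 = 4
      · exact ⟨E0, hE0 ▸ h6, Or.inl hE0⟩
      · have h7 : p % 5 = 2 ∨ p % 5 = 3 := by omega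
        obtain ⟨k, hk⟩ := even_of_pow_mod h7 (hn ▸ hq)
        rw [hk, ← two_mul, pow_mul] at hn
        obtain ⟨E, hE, -⟩ := exists_subfield hn
        refine ⟨E, Or.inr ?_, Or.inr ⟨hE, h7⟩⟩
        rw [hE, pow_two, Nat.mul_mod]
        rcases h7 with h | h <;> rw [h]
    by_cases hEt : E = ⊤
    · rw [hEt, card_top] at hE
      exact Or.inl ⟨h2, hq, ht, hE, ⟨e⟩⟩
    right
    obtain ⟨φ, hφE, hφ⟩ := exists_golden_sub h2 hE5
    obtain ⟨i, j, h1, h3, h6, h7, h8, h9⟩ := Small.A5_facts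
    let f : alternatingGroup (Fin 5) →* PG F := M.subtype.comp e.symm.toMonoidHom
    have hK : K4 (f i) (f j) :=
      K4.map ⟨h1, h3, h6, h7, h8, h9.symm⟩ f (M.subtype_injective.comp e.symm.injective)
    obtain ⟨g, e1, e2⟩ := hK.conj h2 (k4 h2 hab) (hL (e.symm i).2) (hL (e.symm j).2) qi_LS (qj_LS hab)
    have := Finite.one_lt_card (α := E)
    refine h.sub_case hEt (by omega) (g := g) (le_PGsub_of_pow h2 hab hφ hφE (habE _).1 (habE _).2
      (by rwa [cj_le_iff, cj_normal]) (e1 ▸ conj_mem_cj.2 (e.symm i).2)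
      (e2 ▸ conj_mem_cj.2 (e.symm j).2) ?_)
    rintro _ ⟨m, hm, rfl⟩
    obtain ⟨k, rfl⟩ : ∃ k, f k = m := ⟨e ⟨m, hm⟩, by simp [f]⟩
    simp only [← map_pow]
    rcases Small.A5_pow k with h | h | h <;> simp [h]
  · right; right; right; right; right
    refine h.sub_case ?_ h3 h6
    rintro rfl
    rw [PSsub_top] at h5
    exact (h.conj g).nle h5

theorem Mx.not_sylow {H M B : Subgroup (PG F)} (h : Mx H M) {p k : ℕ} (hp : p.Prime)
    (hc : Nat.card M = p ^ k) (hn : ¬ p ^ (k + 1) ∣ Nat.card H) (hB : B ≤ H) (hB' : ¬ LS F ≤ B)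
    (hd : p ^ k ∣ Nat.card B) : Nat.card B = p ^ k := by
  have := Fact.mk hp
  obtain ⟨Q, hQ⟩ := Sylow.exists_subgroup_card_pow_prime p hd
  obtain ⟨g, hg⟩ := sylow_conj hp h.le ((Subgroup.map_subtype_le Q).trans hB) hc
    (by rw [Subgroup.card_map_of_injective B.subtype_injective, hQ]) hn
  have h1 : cj g M ≤ B := hg ▸ Subgroup.map_subtype_le Q
  rw [← le_antisymm h1 ((h.conj g).max B h1 hB hB'), card_cj, hc]

theorem Mx.not_dih {x y : P1 (Kb F)} (hxy : x ≠ y) (h : Mx (LS F) (LS F ⊓ Nor x y)) {l : ℕ}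
    (hl : l.Prime) (hl2 : l ≠ 2) (hc : Nat.card ↥(LS F ⊓ Tor x y) = l)
    (hn : ¬ l ^ 2 ∣ Nat.card (LS F)) {B : Subgroup (PG F)} (hB : B ≤ LS F) (hB' : ¬ LS F ≤ B)
    (h2 : (2 : F) ≠ 0) {a b : F} (hab : a * a + b * b = -1) (hi : qi ∈ B) (hw : qw h2 hab ∈ B)
    (hr : ∃ r ∈ B, ∃ s ∈ B, r ≠ 1 ∧ r ^ l = 1 ∧ s * r * s⁻¹ = r⁻¹) : False := by
  obtain ⟨r, hr, s, hs, r1, rl, e⟩ := hr
  have := Fact.mk hl
  have ho := orderOf_eq_prime rl r1
  obtain ⟨g, hg⟩ := sylow_conj (k := 1) hl inf_le_left ((Subgroup.zpowers_le_of_mem hr).trans hB)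
    (by rw [hc, pow_one]) (by rw [Nat.card_zpowers, ho, pow_one]) hn
  have h1 := h.conj g
  rw [cj_inf, cj_normal, ← Nor_smul] at h1
  rw [cj_inf, cj_normal, ← Tor_smul] at hg
  have hne : g • x ≠ g • y := fun e => hxy (smul_left_cancel g e)
  have hrT : r ∈ Tor (g • x) (g • y) := (hg ▸ Subgroup.mem_zpowers r : r ∈ LS F ⊓ _).2
  have hsN : s ∈ Nor (g • x) (g • y) := (Nor _ _).inv_mem_iff.1
    (mem_Nor_of_conj hne hrT r1 (by rw [inv_inv, e]; exact (Tor _ _).inv_mem hrT))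
  have hsT : s ∉ Tor (g • x) (g • y) := fun hsT => by
    rw [Tor_comm hne hsT hrT, mul_inv_cancel_right, eq_inv_iff_mul_eq_one, ← pow_two,
      ← orderOf_dvd_iff_pow_eq_one, ho] at e
    exact hl2 ((Nat.prime_dvd_prime_iff_eq hl Nat.prime_two).1 e)
  have hTB : LS F ⊓ Tor (g • x) (g • y) ≤ B := hg ▸ Subgroup.zpowers_le_of_mem hr
  refine not_le_Nor h2 hab hi hw hne ((h1.max B (fun m hm => ?_) hB hB').trans inf_le_right)
  by_cases hmT : m ∈ Tor (g • x) (g • y)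
  · exact hTB ⟨hm.1, hmT⟩
  · exact (B.mul_mem_cancel_right hs).1
      (hTB ⟨(LS F).mul_mem hm.1 (hB hs), mul_mem_Tor hm.2 hsN hmT hsT⟩)

theorem S4_inv : ∃ r s : Equiv.Perm (Fin 4), r ≠ 1 ∧ r ^ 3 = 1 ∧ s * r * s⁻¹ = r⁻¹ := by
  decide +kernel

theorem card_dihedral {G : Type*} [Group G] {n : ℕ} (e : Nonempty (G ≃* DihedralGroup n)) :
    Nat.card G = 2 * n := by
  obtain ⟨e⟩ := e
  rw [Nat.card_congr e.toEquiv, DihedralGroup.nat_card]

theorem isSquare_two_iff : IsSquare (2 : F) ↔ Nat.card F % 8 ≠ 3 ∧ Nat.card F % 8 ≠ 5 := by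
  have := Fintype.ofFinite F
  rw [Nat.card_eq_fintype_card, FiniteField.isSquare_two_iff]

/-- small dihedral subgroups of `PSL₂(q)` are not maximal -/
theorem Mx.dih_LS (h2 : (2 : F) ≠ 0) (h5 : 5 ≤ Nat.card F) {x y : P1 (Kb F)} (hxy : IsPair x y)
    (h : Mx (LS F) (LS F ⊓ Nor x y)) : (13 ≤ Nat.card F ∧ Nat.card (Tor x y) = Nat.card F - 1) ∨
      (Nat.card F ≠ 7 ∧ Nat.card F ≠ 9 ∧ Nat.card (Tor x y) = Nat.card F + 1) := by
  obtain ⟨a, b, hab, -⟩ := exists_ab (F := F)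
  have ho := odd_of_two_ne h2
  have hL := card_LS_odd F ho
  have ho := Nat.odd_iff.1 ho
  have hT := hxy.card_LS h2
  have hM := card_dihedral hxy.dihedral_LS
  have hN : ¬ LS F ≤ N0 h2 hab := not_LS_le_of_card (card_N0_le h2 hab) h5 (by norm_num)
  have k8 : Nat.card F = 7 ∨ Nat.card F = 9 → Nat.card (Tor x y) ≠ 8 := fun hq e => by
    have := h.not_sylow (p := 2) (k := 3) Nat.prime_two (by omega)
      (by rcases hq with hq | hq <;> rw [hq] at hL <;> omega)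
      ((N0_le_LS h2 hab).2 (isSquare_two_iff.2 (by omega))) hN (by rw [card_N0]; norm_num)
    rw [card_N0] at this
    omega
  have k10 : Nat.card F = 9 ∨ Nat.card F = 11 → Nat.card (Tor x y) ≠ 10 := fun hq e => by
    obtain ⟨B, b1, b2, b3, -, b5, hr⟩ := exists_B5 h2 hab (by omega)
    exact h.not_dih hxy.ne Nat.prime_five (by norm_num) (by omega)
      (by rcases hq with hq | hq <;> rw [hq] at hL <;> omega) b1 b2 h2 hab b3 b5 hr
  rcases hxy.card with e | e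
  · refine Or.inl ⟨?_, e⟩
    by_contra hlt
    rcases (by omega : Nat.card F = 5 ∨ Nat.card F = 7 ∨ Nat.card F = 9 ∨ Nat.card F = 11) with
      hq | hq | hq | hq
    · have hs : ¬ IsSquare (2 : F) := by rw [isSquare_two_iff]; omega
      have := h.not_sylow (p := 2) (k := 2) Nat.prime_two (by omega) (by rw [hq] at hL; omega)
        (B := LS F ⊓ N0 h2 hab) inf_le_left (fun e => hN (e.trans inf_le_right))
        (by rw [card_LS_N0 h2 hab hs]; norm_num)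
      rw [card_LS_N0 h2 hab hs] at this
      omega
    · obtain ⟨e⟩ := N0_iso h2 hab
      obtain ⟨r, s, h1, h3, h4⟩ := S4_inv
      exact h.not_dih hxy.ne Nat.prime_three (by norm_num) (by omega) (by rw [hq] at hL; omega)
        ((N0_le_LS h2 hab).2 (isSquare_two_iff.2 (by omega))) hN h2 hab (qi_N0 h2 hab) (qw_N0 h2 hab)
        ⟨e.symm r, (e.symm r).2, e.symm s, (e.symm s).2, by simpa using h1, by
          rw [← Subgroup.coe_pow, ← map_pow, h3]; simp, by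
          rw [← Subgroup.coe_inv, ← Subgroup.coe_inv, ← Subgroup.coe_mul, ← Subgroup.coe_mul,
            ← map_inv, ← map_inv, ← map_mul, ← map_mul, h4]⟩
    · exact k8 (Or.inr hq) (by omega)
    · exact k10 (Or.inr hq) (by omega)
  · exact Or.inr ⟨fun hq => k8 (Or.inl hq) (by omega), fun hq => k10 (Or.inl hq) (by omega), e⟩

end Cfsg.Agent.H4.Max
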