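import Cfsg.Agent.H4.Dick
import Cfsg.Agent.H2.Icosian

/-! Klein four subgroups of `PGL₂(q)`, their normalisers, and icosahedral subgroups. -/

set_option autoImplicit false
set_option linter.unusedSectionVars false

namespace Cfsg.Agent.H4.Quat

open MulAction Matrix Cfsg.Agent.H4.Mob Cfsg.Agent.H4.MobCard Cfsg.Agent.H4.Bar Cfsg.Agent.H4.Pair
  Cfsg.Agent.H4.Dick

section abstract
variable {G : Type*} [Group G]

/-- two distinct commuting involutions -/
structure K4 (u v : G) : Prop where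
  u1 : u ≠ 1
  v1 : v ≠ 1
  ne : u ≠ v
  uu : u * u = 1
  vv : v * v = 1
  comm : v * u = u * v

namespace K4
variable {u v : G}

theorem uu' (h : K4 u v) (x : G) : u * (u * x) = x := by rw [← mul_assoc, h.uu, one_mul]
theorem vv' (h : K4 u v) (x : G) : v * (v * x) = x := by rw [← mul_assoc, h.vv, one_mul]
theorem comm' (h : K4 u v) (x : G) : v * (u * x) = u * (v * x) := by
  rw [← mul_assoc, h.comm, mul_assoc]
theorem inv_u (h : K4 u v) : u⁻¹ = u := inv_eq_of_mul_eq_one_right h.uu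
theorem inv_v (h : K4 u v) : v⁻¹ = v := inv_eq_of_mul_eq_one_right h.vv
theorem uv1 (h : K4 u v) : u * v ≠ 1 := fun e => h.ne (by
  rw [eq_inv_of_mul_eq_one_left e, h.inv_v])

theorem map {G' : Type*} [Group G'] (h : K4 u v) (f : G →* G') (hf : Function.Injective f) :
    K4 (f u) (f v) :=
  ⟨fun e => h.u1 (hf (e.trans f.map_one.symm)), fun e => h.v1 (hf (e.trans f.map_one.symm)),
    fun e => h.ne (hf e), by rw [← map_mul, h.uu, map_one], by rw [← map_mul, h.vv, map_one],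
    by rw [← map_mul, h.comm, map_mul]⟩

/-- the four group -/
def V (h : K4 u v) : Subgroup G where
  carrier := {1, u, v, u * v}
  mul_mem' := by
    rintro x y (rfl | rfl | rfl | rfl) (rfl | rfl | rfl | rfl) <;>
      simp [mul_assoc, h.uu, h.vv, h.comm, h.uu', h.comm']
  one_mem' := by simp
  inv_mem' := by
    rintro x (rfl | rfl | rfl | rfl) <;> simp [h.inv_u, h.inv_v, h.comm]

theorem mem_V (h : K4 u v) {g : G} : g ∈ h.V ↔ g = 1 ∨ g = u ∨ g = v ∨ g = u * v := Iff.rfl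

theorem u_mem (h : K4 u v) : u ∈ h.V := Or.inr (Or.inl rfl)
theorem v_mem (h : K4 u v) : v ∈ h.V := Or.inr (Or.inr (Or.inl rfl))

theorem V_le (h : K4 u v) {B : Subgroup G} (hu : u ∈ B) (hv : v ∈ B) : h.V ≤ B := by
  rintro x (rfl | rfl | rfl | rfl)
  exacts [B.one_mem, hu, hv, B.mul_mem hu hv]

theorem card_V (h : K4 u v) : Nat.card h.V = 4 := by
  change Nat.card ({1, u, v, u * v} : Set G) = 4
  rw [Nat.card_coe_set_eq, Set.ncard_insert_of_notMem, Set.ncard_insert_of_notMem,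
    Set.ncard_pair]
  · simpa using h.u1
  · simpa using ⟨h.ne, h.v1⟩
  · simpa using ⟨h.u1.symm, h.v1.symm, h.uv1.symm⟩

theorem mul_self (h : K4 u v) {g : G} (hg : g ∈ h.V) : g * g = 1 := by
  rcases hg with rfl | rfl | rfl | rfl <;> simp [mul_assoc, h.uu, h.vv, h.comm']

/-- the normaliser of the four group -/
def N (h : K4 u v) : Subgroup G := Subgroup.normalizer (h.V : Set G)

theorem mem_N [Finite G] (h : K4 u v) {g : G} (hu : g * u * g⁻¹ ∈ h.V) (hv : g * v * g⁻¹ ∈ h.V) :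
    g ∈ h.N := by
  refine Subgroup.mem_normalizer_fintype ?_
  rintro x (rfl | rfl | rfl | rfl)
  · simp
  · exact hu
  · exact hv
  · simpa [mul_assoc] using h.V.mul_mem hu hv

theorem V_le_N (h : K4 u v) : h.V ≤ h.N := Subgroup.le_normalizer

theorem conj_mem (h : K4 u v) {g x : G} (hg : g ∈ h.N) (hx : x ∈ h.V) : g * x * g⁻¹ ∈ h.V :=
  (Subgroup.mem_normalizer_iff.1 hg x).1 hx

theorem card_N_le [Finite G] (h : K4 u v) (hC : ∀ g, g * u = u * g → g * v = v * g → g ∈ h.V) :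
    Nat.card h.N ≤ 24 := by
  classical
  have := Fintype.ofFinite G
  have h1 : ∀ g ∈ h.N, ∀ x ∈ h.V, x ≠ 1 → g * x * g⁻¹ ∈ ({u, v, u * v} : Finset G) := by
    intro g hg x hx hx1
    rcases h.conj_mem hg hx with e | e
    · exact absurd (by simpa using e) hx1
    · simpa using e
  have h2 := Finset.card_le_mul_card_image_of_maps_to (s := Finset.univ.filter (· ∈ h.N))
    (t := ({u, v, u * v} : Finset G).offDiag) (f := fun g => (g * u * g⁻¹, g * v * g⁻¹))
    (fun g hg => Finset.mem_offDiag.2 ⟨h1 g (by simpa using hg) u h.u_mem h.u1,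
      h1 g (by simpa using hg) v h.v_mem h.v1, by simpa using h.ne⟩) 4 (by
      intro b _
      by_contra hlt
      obtain ⟨g, hg⟩ := Finset.card_pos.1 (lt_of_le_of_lt (Nat.zero_le 4) (not_le.1 hlt))
      refine hlt ((Finset.card_le_card_of_injOn (t := Finset.univ.filter (· ∈ h.V))
        (fun x => g⁻¹ * x) (fun x hx => ?_) fun x _ y _ e => mul_left_cancel e).trans ?_)
      · have e := (Finset.mem_filter.1 hx).2.trans (Finset.mem_filter.1 hg).2.symm
        simp only [Prod.mk.injEq] at e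
        simp only [Finset.coe_filter, Finset.mem_univ, true_and, Set.mem_ofPred_eq]
        refine hC _ ?_ ?_
        · calc _ = g⁻¹ * (x * u * x⁻¹) * x := by group
            _ = _ := by rw [e.1]; group
        · calc _ = g⁻¹ * (x * v * x⁻¹) * x := by group
            _ = _ := by rw [e.2]; group
      · rw [← Fintype.card_subtype, ← Nat.card_eq_fintype_card, h.card_V])
  rw [← Fintype.card_subtype, ← Nat.card_eq_fintype_card, Finset.offDiag_card] at h2
  have h3 : ({u, v, u * v} : Finset G).card ≤ 3 := Finset.card_le_three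
  generalize ({u, v, u * v} : Finset G).card = n at h2 h3
  interval_cases n <;> omega

theorem twelve_dvd [Finite G] (h : K4 u v) {B : Subgroup G} (hu : u ∈ B) (hv : v ∈ B) {w : G}
    (hw : w ∈ B) (h1 : w ≠ 1) (h3 : w ^ 3 = 1) : 12 ∣ Nat.card B := by
  have : Fact (Nat.Prime 3) := ⟨Nat.prime_three⟩
  have e1 : 4 ∣ Nat.card B := h.card_V ▸ Subgroup.card_dvd_of_le (h.V_le hu hv)
  have e2 : 3 ∣ Nat.card B := orderOf_eq_prime h3 h1 ▸ Subgroup.orderOf_dvd_natCard B hw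
  omega

theorem card_eq [Finite G] (h : K4 u v) (hN : Nat.card h.N ≤ 24) {B : Subgroup G} (hB : B ≤ h.N)
    (hu : u ∈ B) (hv : v ∈ B) {w t : G} (hw : w ∈ B) (h1 : w ≠ 1) (h3 : w ^ 3 = 1) (ht : t ∈ B)
    (htt : t * t = u) : Nat.card B = 24 := by
  have e1 := h.twelve_dvd hu hv hw h1 h3
  have e2 := (Subgroup.card_le_of_le hB).trans hN
  have e3 : 0 < Nat.card B := Nat.card_pos
  by_contra e4
  have e5 : Nat.card B = 12 := by omega
  have : (h.V.subgroupOf B).Normal :=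
    Subgroup.normal_subgroupOf_of_le_normalizer hB
  have e6 := (h.V.subgroupOf B).index_mul_card
  rw [Nat.card_congr (Subgroup.subgroupOfEquivOfLe (h.V_le hu hv)).toEquiv, h.card_V, e5] at e6
  have e7 : t ^ 3 ∈ h.V := by
    have := (h.V.subgroupOf B).pow_index_mem ⟨t, ht⟩
    rwa [show (h.V.subgroupOf B).index = 3 by omega] at this
  rw [pow_succ, pow_two, htt, h.V.mul_mem_cancel_left h.u_mem] at e7
  exact h.u1 (htt ▸ h.mul_self e7)

end K4
end abstract

variable {F : Type*} [Field F]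

theorem exists_pair_of_invol [Finite F] (h2 : (2 : F) ≠ 0) {u : PG F} (h1 : u ≠ 1) (hu : u * u = 1) :
    ∃ x y : P1 (Kb F), x ≠ y ∧ u ∈ Tor x y := by
  refine (fixed_cases h1).resolve_left fun ⟨x, hx⟩ => ?_
  obtain ⟨k, b, hb, -, rfl⟩ := exists_conj_tr hx
  rw [← pow_two, conj_pow, tr_pow] at hu
  exact hb (by simpa [h2] using hu)

theorem K4.central [Finite F] (h2 : (2 : F) ≠ 0) {u v : PG F} (h : K4 u v) (g : PG F)
    (hu : g * u = u * g) (hv : g * v = v * g) : g ∈ h.V := by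
  obtain ⟨x, y, hxy, huT⟩ := exists_pair_of_invol h2 h.u1 h.uu
  have key : ∀ g, g * u = u * g → g ∈ Nor x y := fun g hg =>
    mem_Nor_of_conj hxy huT h.u1 (by rwa [mul_assoc, ← hg, inv_mul_cancel_left])
  have hvT : v ∉ Tor x y := fun e => h.ne (eq_of_mul_self hxy huT e h.u1 h.v1 h.uu h.vv)
  have key2 : ∀ g ∈ Tor x y, g * v = v * g → g ∈ h.V := fun g hg e => by
    have e1 := conj_eq_inv hxy (key v h.comm) hvT hg
    rw [← e, mul_inv_cancel_right, eq_inv_iff_mul_eq_one] at e1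
    by_cases h1 : g = 1
    · exact Or.inl h1
    · exact Or.inr (Or.inl (eq_of_mul_self hxy hg huT h1 h.u1 e1 h.uu))
  by_cases hg : g ∈ Tor x y
  · exact key2 g hg hv
  · exact (h.V.mul_mem_cancel_right h.v_mem).1 (key2 _ (mul_mem_Tor (key g hu) (key v h.comm) hg hvT)
      (by rw [hv, mul_assoc, ← hv]))

theorem K4.not_fix [Finite F] (h2 : (2 : F) ≠ 0) {u v : PG F} (h : K4 u v) (z : P1 (Kb F))
    (hu : u • z = z) (hv : v • z = z) : False := by
  obtain ⟨x, y, hxy, huT⟩ := exists_pair_of_invol h2 h.u1 h.uu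
  have hvN : v ∈ Nor x y :=
    mem_Nor_of_conj hxy huT h.u1 (by rwa [mul_assoc, ← h.comm, inv_mul_cancel_left])
  have hvT : v ∉ Tor x y := fun e => h.ne (eq_of_mul_self hxy huT e h.u1 h.v1 h.uu h.vv)
  obtain ⟨h3, h4⟩ := hvN.resolve_left hvT
  rcases fix_eq' h.u1 hxy huT.1 huT.2 hu with rfl | rfl
  · exact hxy (hv.symm.trans h3)
  · exact hxy (h4.symm.trans hv)

theorem commutator_mem_LS (x y : PG F) : x * y * x⁻¹ * y⁻¹ ∈ LS F := by
  rw [← ker_detSq, MonoidHom.mem_ker]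
  simp [mul_comm ((detSq F) x) ((detSq F) y)]

theorem mul_self_mem_LS (x : PG F) : x * x ∈ LS F := by
  obtain ⟨a, b, c, d, h, rfl⟩ := exists_mob x
  rw [mob_mul, mob_mem_range_toPGL]
  exact ⟨a * d - b * c, by ring⟩

theorem exists_invol (h2 : (2 : F) ≠ 0) {u : PG F} (hL : u ∈ LS F) (h1 : u ≠ 1) (hu : u * u = 1) :
    ∃ a b c, ∃ h : a * -a - b * c = 1, u = mob a b c (-a) (h ▸ one_ne_zero) := by
  obtain ⟨a, b, c, d, h, rfl⟩ := exists_det_one hL
  rw [mob_mul, mob_eq_one] at hu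
  rw [Ne, mob_eq_one] at h1
  have : d = -a := by
    by_contra e
    have e : a + d ≠ 0 := fun e' => e (by linear_combination e')
    exact h1 ⟨mul_left_cancel₀ e (by linear_combination hu.1),
      mul_left_cancel₀ e (by linear_combination hu.2.1),
      mul_left_cancel₀ e (by linear_combination hu.2.2)⟩
  subst this
  exact ⟨a, b, c, h, rfl⟩

/-- reflection trick -/
theorem exists_refl (h2 : (2 : F) ≠ 0) {a b c a' b' c' : F} (h : a * -a - b * c = 1)
    (h' : a' * -a' - b' * c' = 1) : ∃ (e : F) (hd : (a + e * a') * -(a + e * a') -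
      (b + e * b') * (c + e * c') ≠ 0), mob (a + e * a') (b + e * b') (c + e * c') (-(a + e * a')) hd *
        mob a b c (-a) (h ▸ one_ne_zero) = mob a' b' c' (-a') (h' ▸ one_ne_zero) *
          mob (a + e * a') (b + e * b') (c + e * c') (-(a + e * a')) hd := by
  by_cases h1 : (a + 1 * a') * -(a + 1 * a') - (b + 1 * b') * (c + 1 * c') = 0
  · refine ⟨-1, fun h3 => h2 (mul_self_eq_zero.1 (by linear_combination h1 + h3 - 2 * h - 2 * h')), ?_⟩
    rw [mob_mul, mob_mul, mob_eq_mob]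
    exact ⟨-1, by linear_combination h' - h, by ring, by ring, by linear_combination h' - h⟩
  · refine ⟨1, h1, ?_⟩
    rw [mob_mul, mob_mul, mob_eq_mob]
    exact ⟨1, by linear_combination h - h', by ring, by ring, by linear_combination h - h'⟩

theorem anti_of_comm (h2 : (2 : F) ≠ 0) {a b c a' b' c' : F} (h : a * -a - b * c = 1)
    (h' : a' * -a' - b' * c' = 1)
    (hK : K4 (mob a b c (-a) (h ▸ one_ne_zero)) (mob a' b' c' (-a') (h' ▸ one_ne_zero))) :
    2 * a * a' + b * c' + c * b' = 0 := by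
  have h1 := hK.mul_self (hK.V.mul_mem hK.u_mem hK.v_mem)
  have h3 := hK.uv1
  rw [mob_mul] at h1 h3
  rw [mob_mul, mob_eq_one] at h1
  rw [Ne, mob_eq_one] at h3
  by_contra e
  exact h3 ⟨mul_left_cancel₀ e (by linear_combination h1.1),
      mul_left_cancel₀ e (by linear_combination h1.2.1),
      mul_left_cancel₀ e (by linear_combination h1.2.2)⟩

theorem K4.conj (h2 : (2 : F) ≠ 0) {u v u' v' : PG F} (h : K4 u v) (h' : K4 u' v') (hu : u ∈ LS F)
    (hv : v ∈ LS F) (hu' : u' ∈ LS F) (hv' : v' ∈ LS F) :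
    ∃ g : PG F, g * u * g⁻¹ = u' ∧ g * v * g⁻¹ = v' := by
  obtain ⟨a, b, c, e, rfl⟩ := exists_invol h2 hu h.u1 h.uu
  obtain ⟨a', b', c', e', rfl⟩ := exists_invol h2 hu' h'.u1 h'.uu
  obtain ⟨ε, hd, hg⟩ := exists_refl h2 e e'
  set g := mob (a + ε * a') (b + ε * b') (c + ε * c') (-(a + ε * a')) hd
  have h1 := h.map (MulAut.conj g).toMonoidHom (MulAut.conj g).injective
  simp only [MulEquiv.coe_toMonoidHom, MulAut.conj_apply] at h1
  rw [← mul_inv_eq_iff_eq_mul] at hg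
  rw [hg] at h1
  obtain ⟨x, y, z, e1, e2⟩ := exists_invol h2 ((normalLS F).conj_mem _ hv g) h1.v1 h1.vv
  obtain ⟨x', y', z', e1', rfl⟩ := exists_invol h2 hv' h'.v1 h'.vv
  rw [e2] at h1
  have h3 := anti_of_comm h2 e' e1 h1
  have h4 := anti_of_comm h2 e' e1' h'
  obtain ⟨η, hd', hk⟩ := exists_refl h2 e1 e1'
  refine ⟨mob (x + η * x') (y + η * y') (z + η * z') (-(x + η * x')) hd' * g, ?_, ?_⟩
  · rw [_root_.mul_inv_rev, ← mul_assoc, mul_assoc _ g, mul_assoc _ _ g⁻¹, hg, mul_inv_eq_iff_eq_mul,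
      mob_mul, mob_mul, mob_eq_mob]
    exact ⟨-1, by linear_combination h3 + η * h4, by ring, by ring, by linear_combination h3 + η * h4⟩
  · rw [_root_.mul_inv_rev, ← mul_assoc, mul_assoc _ g, mul_assoc _ _ g⁻¹, e2, mul_inv_eq_iff_eq_mul,
      hk]

theorem pow_step {a b c d : F} (h : a * d - b * c = 1) {n : ℕ} {s r : F}
    (H : ∃ h', mob a b c d (h ▸ one_ne_zero) ^ n = mob (s * a - r) (s * b) (s * c) (s * d - r) h') :
    ∃ h', mob a b c d (h ▸ one_ne_zero) ^ (n + 1) = mob ((s * (a + d) - r) * a - s)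
      ((s * (a + d) - r) * b) ((s * (a + d) - r) * c) ((s * (a + d) - r) * d - s) h' := by
  obtain ⟨h', e⟩ := H
  refine ⟨fun e' => h' (by linear_combination e' - ((s * (a + d) - r) ^ 2 - s ^ 2) * h), ?_⟩
  rw [pow_succ, e, mob_mul]
  exact mob_congr (by linear_combination -s * h) (by ring) (by ring) (by linear_combination -s * h)

theorem trace_mem {E : Subfield F} {φ : F} (hφ : φ * φ = φ + 1) (hE : φ ∈ E) {a b c d : F}
    (h : a * d - b * c = 1) {g : PG F} (hg : g = mob a b c d (h ▸ one_ne_zero))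
    (hp : g ^ 2 = 1 ∨ g ^ 3 = 1 ∨ g ^ 5 = 1) : a + d ∈ E := by
  subst hg
  have key : ∀ {n : ℕ} {s r : F}, (∃ h', mob a b c d (h ▸ one_ne_zero) ^ n =
      mob (s * a - r) (s * b) (s * c) (s * d - r) h') → mob a b c d (h ▸ one_ne_zero) ^ n = 1 →
      (s = 0 → a + d ∈ E) → a + d ∈ E := by
    rintro n s r ⟨h', e⟩ h1 h3
    by_cases hs : s = 0
    · exact h3 hs
    rw [e, mob_eq_one] at h1
    have hb : b = 0 := by simpa [hs] using h1.1
    have hd : a = d := mul_left_cancel₀ hs (by linear_combination h1.2.2)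
    subst hb hd
    rcases mul_self_eq_one_iff.1 (show a * a = 1 by linear_combination h) with rfl | rfl
    · exact E.add_mem E.one_mem E.one_mem
    · exact E.add_mem (E.neg_mem E.one_mem) (E.neg_mem E.one_mem)
  have h1 : ∃ h', mob a b c d (h ▸ one_ne_zero) ^ 1 = mob (1 * a - 0) (1 * b) (1 * c) (1 * d - 0) h' :=
    ⟨by simp [h], by rw [pow_one]; exact mob_congr (by ring) (by ring) (by ring) (by ring)⟩
  have h2 := pow_step h h1
  have h3 := pow_step h h2
  have h5 := pow_step h (pow_step h h3)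
  rcases hp with hp | hp | hp
  · exact key h2 hp fun e => by rw [show a + d = 0 by linear_combination e]; exact E.zero_mem
  · refine key h3 hp fun e => ?_
    rcases mul_self_eq_one_iff.1 (show (a + d) * (a + d) = 1 by linear_combination e) with e | e <;>
      rw [e]
    exacts [E.one_mem, E.neg_mem E.one_mem]
  · refine key h5 hp fun e => ?_
    have : (a + d - φ) * (a + d + φ) * (a + d - (φ - 1)) * (a + d + (φ - 1)) = 0 := by
      linear_combination e + (-2 * (a + d) ^ 2 + φ * φ - φ + 1) * hφ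
    simp only [mul_eq_zero, sub_eq_zero, add_eq_zero_iff_eq_neg] at this
    rcases this with ((e | e) | e) | e <;> rw [e]
    exacts [hE, E.neg_mem hE, E.sub_mem hE E.one_mem, E.neg_mem (E.sub_mem hE E.one_mem)]

section std
variable {a b : F}

/-- the quaternion unit `i` -/
noncomputable def qi : PG F := mob 0 (-1) 1 0 (by simp)

/-- the quaternion unit `j` -/
noncomputable def qj (hab : a * a + b * b = -1) : PG F :=
  mob a b b (-a) (by rw [show a * -a - b * b = 1 by linear_combination -hab]; simp)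

/-- the element `-1 + i + j + k` -/
noncomputable def qw (h2 : (2 : F) ≠ 0) (hab : a * a + b * b = -1) : PG F :=
  mob (-1 + a - b) (-1 + a + b) (1 + a + b) (-1 - a + b) (by
    rw [show (-1 + a - b) * (-1 - a + b) - (-1 + a + b) * (1 + a + b) = 2 * 2 by
      linear_combination -2 * hab]
    exact mul_ne_zero h2 h2)

/-- the element `1 + i` -/
noncomputable def qt (h2 : (2 : F) ≠ 0) : PG F :=
  mob 1 (-1) 1 1 (by rw [show (1 : F) * 1 - -1 * 1 = 2 by ring]; exact h2)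

theorem k4 (h2 : (2 : F) ≠ 0) (hab : a * a + b * b = -1) : K4 qi (qj hab) := by
  refine ⟨?_, ?_, ?_, ?_, ?_, ?_⟩
  · simp [qi, mob_eq_one]
  · rw [qj, Ne, mob_eq_one]
    rintro ⟨rfl, -, e⟩
    have : a = 0 := mul_left_cancel₀ h2 (by linear_combination e)
    simp [this] at hab
  · rw [qi, qj, Ne, mob_eq_mob]
    rintro ⟨u, h1, h3, h4, -⟩
    have : b = 0 := mul_left_cancel₀ h2 (by linear_combination h3 + h4)
    rw [this, h1] at hab
    simp at hab
  · simp [qi, mob_mul, mob_eq_one]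
  · rw [qj, mob_mul, mob_eq_one]
    exact ⟨by ring, by ring, by ring⟩
  · rw [qi, qj, mob_mul, mob_mul, mob_eq_mob]
    exact ⟨-1, by ring, by ring, by ring, by ring⟩

theorem qw_qi (h2 : (2 : F) ≠ 0) (hab : a * a + b * b = -1) :
    qw h2 hab * qi * (qw h2 hab)⁻¹ = qi * qj hab := by
  rw [mul_inv_eq_iff_eq_mul, qw, qi, qj, mob_mul, mob_mul, mob_mul, mob_eq_mob]
  exact ⟨1, by linear_combination hab, by linear_combination -hab, by linear_combination hab,
    by linear_combination hab⟩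

theorem qw_qj (h2 : (2 : F) ≠ 0) (hab : a * a + b * b = -1) :
    qw h2 hab * qj hab * (qw h2 hab)⁻¹ = qi := by
  rw [mul_inv_eq_iff_eq_mul, qw, qi, qj, mob_mul, mob_mul, mob_eq_mob]
  exact ⟨1, by linear_combination -hab, by linear_combination hab, by linear_combination -hab,
    by linear_combination -hab⟩

theorem qw_ne (h2 : (2 : F) ≠ 0) (hab : a * a + b * b = -1) : qw h2 hab ≠ 1 := fun e => by
  have := qw_qj h2 hab
  rw [e] at this
  exact (k4 h2 hab).ne (by simpa using this.symm)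

theorem qw_pow (h2 : (2 : F) ≠ 0) (hab : a * a + b * b = -1) : qw h2 hab ^ 3 = 1 := by
  rw [pow_three, qw, mob_mul, mob_mul, mob_eq_one]
  exact ⟨by linear_combination (2 * (-1 + a + b)) * hab, by linear_combination (2 * (1 + a + b)) * hab,
    by linear_combination (4 * (a - b)) * hab⟩

theorem qt_sq (h2 : (2 : F) ≠ 0) : qt h2 * qt h2 = qi := by
  rw [qt, qi, mob_mul, eq_comm, mob_eq_mob]
  exact ⟨2, by ring, by ring, by ring, by ring⟩

theorem qt_qj (h2 : (2 : F) ≠ 0) (hab : a * a + b * b = -1) :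
    qt h2 * qj hab * (qt h2)⁻¹ = qi * qj hab := by
  rw [mul_inv_eq_iff_eq_mul, qt, qi, qj, mob_mul, mob_mul, mob_mul, mob_eq_mob]
  exact ⟨1, by ring, by ring, by ring, by ring⟩

theorem qi_mem {E : Subfield F} : qi ∈ PSsub E :=
  mob_mem_PSsub (s := 1) E.zero_mem (E.neg_mem E.one_mem) E.one_mem E.zero_mem E.one_mem (by ring)

theorem qj_mem {E : Subfield F} (hab : a * a + b * b = -1) (ha : a ∈ E) (hb : b ∈ E) :
    qj hab ∈ PSsub E :=
  mob_mem_PSsub (s := 1) ha hb hb (E.neg_mem ha) E.one_mem (by linear_combination -hab)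

theorem qw_mem {E : Subfield F} (h2 : (2 : F) ≠ 0) (hab : a * a + b * b = -1) (ha : a ∈ E)
    (hb : b ∈ E) : qw h2 hab ∈ PSsub E :=
  mob_mem_PSsub (s := 1 + 1) (E.sub_mem (E.add_mem (E.neg_mem E.one_mem) ha) hb)
    (E.add_mem (E.add_mem (E.neg_mem E.one_mem) ha) hb) (E.add_mem (E.add_mem E.one_mem ha) hb)
    (E.add_mem (E.sub_mem (E.neg_mem E.one_mem) ha) hb) (E.add_mem E.one_mem E.one_mem)
    (by linear_combination -2 * hab)

theorem qt_mem {E : Subfield F} (h2 : (2 : F) ≠ 0) : qt h2 ∈ PGsub E :=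
  mob_mem_PGsub E.one_mem (E.neg_mem E.one_mem) E.one_mem E.one_mem

theorem qt_mem_LS (h2 : (2 : F) ≠ 0) : qt h2 ∈ LS F ↔ IsSquare (2 : F) := by
  rw [qt, mob_mem_range_toPGL, show (1 : F) * 1 - -1 * 1 = 2 by ring]

theorem qi_LS : qi ∈ LS F := PSsub_le_LS ⊤ qi_mem
theorem qj_LS (hab : a * a + b * b = -1) : qj hab ∈ LS F := PSsub_le_LS ⊤ (qj_mem hab trivial trivial)
theorem qw_LS (h2 : (2 : F) ≠ 0) (hab : a * a + b * b = -1) : qw h2 hab ∈ LS F :=
  PSsub_le_LS ⊤ (qw_mem h2 hab trivial trivial)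

/-- the normaliser of the standard four group -/
noncomputable def N0 (h2 : (2 : F) ≠ 0) (hab : a * a + b * b = -1) : Subgroup (PG F) := (k4 h2 hab).N

variable [Finite F] (h2 : (2 : F) ≠ 0) (hab : a * a + b * b = -1)

theorem qi_N0 : qi ∈ N0 h2 hab := (k4 h2 hab).V_le_N (k4 h2 hab).u_mem
theorem qj_N0 : qj hab ∈ N0 h2 hab := (k4 h2 hab).V_le_N (k4 h2 hab).v_mem
theorem qw_N0 : qw h2 hab ∈ N0 h2 hab :=
  (k4 h2 hab).mem_N (by rw [qw_qi]; simp [K4.mem_V]) (by rw [qw_qj]; simp [K4.mem_V])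
theorem qt_N0 : qt h2 ∈ N0 h2 hab :=
  (k4 h2 hab).mem_N (by
    rw [show qt h2 * qi * (qt h2)⁻¹ = qi by rw [← qt_sq h2]; group]; simp [K4.mem_V])
    (by rw [qt_qj]; simp [K4.mem_V])

theorem card_N0_le : Nat.card (N0 h2 hab) ≤ 24 := (k4 h2 hab).card_N_le ((k4 h2 hab).central h2)

theorem card_of_le_N0 {B : Subgroup (PG F)} (hB : B ≤ N0 h2 hab) (hi : qi ∈ B) (hj : qj hab ∈ B)
    (hw : qw h2 hab ∈ B) (ht : qt h2 ∈ B) : Nat.card B = 24 :=
  (k4 h2 hab).card_eq (card_N0_le h2 hab) hB hi hj hw (qw_ne h2 hab) (qw_pow h2 hab) ht (qt_sq h2)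

theorem card_N0 : Nat.card (N0 h2 hab) = 24 :=
  card_of_le_N0 h2 hab le_rfl (qi_N0 h2 hab) (qj_N0 h2 hab) (qw_N0 h2 hab) (qt_N0 h2 hab)

theorem N0_le {B : Subgroup (PG F)} (hi : qi ∈ B) (hj : qj hab ∈ B) (hw : qw h2 hab ∈ B)
    (ht : qt h2 ∈ B) : N0 h2 hab ≤ B := by
  have := card_of_le_N0 h2 hab (B := N0 h2 hab ⊓ B) inf_le_left ⟨qi_N0 h2 hab, hi⟩
    ⟨qj_N0 h2 hab, hj⟩ ⟨qw_N0 h2 hab, hw⟩ ⟨qt_N0 h2 hab, ht⟩
  exact inf_eq_left.1 (Subgroup.eq_of_le_of_card_ge inf_le_left (by rw [this, card_N0]))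

theorem N0_le_PGsub {E : Subfield F} (ha : a ∈ E) (hb : b ∈ E) : N0 h2 hab ≤ PGsub E :=
  N0_le h2 hab (PSsub_le E qi_mem) (PSsub_le E (qj_mem hab ha hb)) (PSsub_le E (qw_mem h2 hab ha hb))
    (qt_mem h2)

theorem N0_le_LS : N0 h2 hab ≤ LS F ↔ IsSquare (2 : F) :=
  ⟨fun h => (qt_mem_LS h2).1 (h (qt_N0 h2 hab)), fun h =>
    N0_le h2 hab qi_LS (qj_LS hab) (qw_LS h2 hab) ((qt_mem_LS h2).2 h)⟩

theorem card_LS_N0 (h : ¬ IsSquare (2 : F)) : Nat.card ↥(LS F ⊓ N0 h2 hab) = 12 := by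
  have := two_mul_card_inf (index_LS_odd F (odd_of_two_ne h2)) (mt (N0_le_LS h2 hab).1 h)
  rw [card_N0] at this
  omega

theorem LS_N0_le (h : ¬ IsSquare (2 : F)) {B : Subgroup (PG F)} (hi : qi ∈ B) (hj : qj hab ∈ B)
    (hw : qw h2 hab ∈ B) : LS F ⊓ N0 h2 hab ≤ B := by
  have := (k4 h2 hab).twelve_dvd (B := (LS F ⊓ N0 h2 hab) ⊓ B) ⟨⟨qi_LS, qi_N0 h2 hab⟩, hi⟩
    ⟨⟨qj_LS hab, qj_N0 h2 hab⟩, hj⟩ ⟨⟨qw_LS h2 hab, qw_N0 h2 hab⟩, hw⟩ (qw_ne h2 hab) (qw_pow h2 hab)
  exact inf_eq_left.1 (Subgroup.eq_of_le_of_card_ge inf_le_left (by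
    rw [card_LS_N0 h2 hab h]; exact Nat.le_of_dvd Nat.card_pos this))

theorem not_le_Nor {B : Subgroup (PG F)} (hi : qi ∈ B) (hw : qw h2 hab ∈ B) {x y : P1 (Kb F)}
    (hxy : x ≠ y) : ¬ B ≤ Nor x y := by
  intro h
  have hK := k4 h2 hab
  have h1 : qw h2 hab ∈ Tor x y := by
    have := mul_self_mem_Tor (h (B.mul_mem hw hw))
    rwa [show qw h2 hab * qw h2 hab * (qw h2 hab * qw h2 hab) = qw h2 hab ^ 3 * qw h2 hab by
      simp only [pow_succ, pow_zero, one_mul, mul_assoc], qw_pow, one_mul] at this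
  have h3 := (Tor x y).mul_mem h1 (conj_mem_Tor (h hi) ((Tor x y).inv_mem h1))
  rw [← mul_assoc, ← mul_assoc, qw_qi, hK.inv_u, ← hK.comm, mul_assoc, hK.uu, mul_one] at h3
  have h4 := qw_qj h2 hab
  rw [Tor_comm hxy h1 h3, mul_inv_cancel_right] at h4
  exact hK.ne h4.symm

theorem no_prime_normal' {B : Subgroup (PG F)} (hi : qi ∈ B) (hj : qj hab ∈ B)
    (hw : qw h2 hab ∈ B) (N : Subgroup B) (hN : N.Normal) : ¬ (Nat.card N).Prime :=
  no_prime_normal (fun ⟨z, hz⟩ => (k4 h2 hab).not_fix h2 z (hz _ hi) (hz _ hj))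
    (fun ⟨_, _, h, h'⟩ => not_le_Nor h2 hab hi hw h.ne h') N hN

theorem N0_iso : Nonempty (N0 h2 hab ≃* Equiv.Perm (Fin 4)) :=
  Small.S4_of (no_prime_normal' h2 hab (qi_N0 h2 hab) (qj_N0 h2 hab) (qw_N0 h2 hab)) (card_N0 h2 hab)

theorem LS_N0_iso (h : ¬ IsSquare (2 : F)) :
    Nonempty (↥(LS F ⊓ N0 h2 hab) ≃* alternatingGroup (Fin 4)) :=
  Small.A4_of (no_prime_normal' h2 hab ⟨qi_LS, qi_N0 h2 hab⟩ ⟨qj_LS hab, qj_N0 h2 hab⟩
    ⟨qw_LS h2 hab, qw_N0 h2 hab⟩) (card_LS_N0 h2 hab h)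

include h2 in
theorem le_PGsub_of_pow {E : Subfield F} {φ : F} (hφ : φ * φ = φ + 1) (hE : φ ∈ E) (ha : a ∈ E)
    (hb : b ∈ E) {B : Subgroup (PG F)} (hL : B ≤ LS F) (hi : qi ∈ B) (hj : qj hab ∈ B)
    (hp : ∀ g ∈ B, g ^ 2 = 1 ∨ g ^ 3 = 1 ∨ g ^ 5 = 1) : B ≤ PGsub E := by
  intro g hg
  obtain ⟨x, y, z, w, h, rfl⟩ := exists_det_one (hL hg)
  have t0 := trace_mem hφ hE h rfl (hp _ hg)
  have t1 := trace_mem hφ hE (a := y) (b := -x) (c := w) (d := -z) (by linear_combination h)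
    (by rw [qi, mob_mul]; exact mob_congr (by ring) (by ring) (by ring) (by ring))
    (hp _ (B.mul_mem hg hi))
  have t2 := trace_mem hφ hE (a := x * a + y * b) (b := x * b - y * a) (c := z * a + w * b)
    (d := z * b - w * a) (by linear_combination -(x * w - y * z) * hab + h)
    (by rw [qj, mob_mul]; exact mob_congr (by ring) (by ring) (by ring) (by ring))
    (hp _ (B.mul_mem hg hj))
  have t3 := trace_mem hφ hE (a := -x * b + y * a) (b := x * a + y * b) (c := -z * b + w * a)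
    (d := z * a + w * b) (by linear_combination -(x * w - y * z) * hab + h)
    (by rw [qi, qj, mob_mul, mob_mul]; exact mob_congr (by ring) (by ring) (by ring) (by ring))
    (hp _ (B.mul_mem hg (B.mul_mem hi hj)))
  have s1 := E.sub_mem (E.mul_mem hb t3) (E.mul_mem ha t2)
  have s2 := E.neg_mem (E.add_mem (E.mul_mem hb t2) (E.mul_mem ha t3))
  rw [show b * (-x * b + y * a + (z * a + w * b)) - a * (x * a + y * b + (z * b - w * a)) = x - w by
    linear_combination (w - x) * hab] at s1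
  rw [show -(b * (x * a + y * b + (z * b - w * a)) + a * (-x * b + y * a + (z * a + w * b))) = y + z by
    linear_combination (-y - z) * hab] at s2
  have : mob x y z w (h ▸ one_ne_zero) = mob (x + w + (x - w)) (y + z + (y + -z)) (y + z - (y + -z))
      (x + w - (x - w)) (by
        rw [show (x + w + (x - w)) * (x + w - (x - w)) - (y + z + (y + -z)) * (y + z - (y + -z)) =
          2 * 2 by linear_combination 4 * h]
        exact mul_ne_zero h2 h2) := mob_eq_mob.2 ⟨2, by ring, by ring, by ring, by ring⟩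
  rw [this]
  exact mob_mem_PGsub (E.add_mem t0 s1) (E.add_mem s2 t1) (E.sub_mem s2 t1) (E.sub_mem t0 s1)

end std

theorem exists_ab [Finite F] : ∃ a b : F, a * a + b * b = -1 ∧ ∀ E : Subfield F, a ∈ E ∧ b ∈ E := by
  obtain ⟨p, hp⟩ := CharP.exists F
  have : NeZero p := ⟨CharP.char_ne_zero_of_finite F p⟩
  obtain ⟨a, b, h⟩ := CharP.sq_add_sq F p (-1)
  exact ⟨a, b, by simpa [pow_two] using h, fun E => ⟨natCast_mem E a, natCast_mem E b⟩⟩

open scoped MatrixGroups in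
open Cfsg.Agent.H2 in
theorem exists_icos (h2 : (2 : F) ≠ 0) {a b : F} (hab : a * a + b * b = -1) {φ : F}
    (hφ : φ * φ = φ + 1) : ∃ ψ : SL(2, ZMod 5) →* PG F, ψ.ker ≤ Subgroup.center _ ∧
      ψ.range ≤ LS F ∧ qi ∈ ψ.range ∧ qj hab ∈ ψ.range ∧ qw h2 hab ∈ ψ.range := by
  obtain ⟨e, he⟩ : ∃ e : F, 2 * e = 1 := ⟨2⁻¹, mul_inv_cancel₀ h2⟩
  have dA : e * (-1 + a - b) * (e * (-1 - a + b)) - e * (-1 + a + b) * (e * (1 + a + b)) = 1 := by
    grind
  have dY : e * ((1 - φ) * a - φ * b) * (-(e * ((1 - φ) * a - φ * b))) -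
      e * (-1 + (1 - φ) * b + φ * a) * (e * (1 + (1 - φ) * b + φ * a)) = 1 := by
    grind
  let A : GL (Fin 2) F := mat _ _ _ _ (dA ▸ one_ne_zero)
  let X : GL (Fin 2) F := mat 0 (-1) 1 0 (by simp)
  let Y : GL (Fin 2) F := mat _ _ _ _ (dY ▸ one_ne_zero)
  have hu : IsUnit (2 : Matrix (Fin 2) (Fin 2) F) := by
    have := (Ne.isUnit h2).map (algebraMap F (Matrix (Fin 2) (Fin 2) F))
    rwa [map_ofNat] at this
  obtain ⟨θ, hθ, hr, -⟩ := Icosian.exists_hom (G := GL (Fin 2) F) (ι := Units.coeHom _)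
    Units.val_injective hu (a := A) (X := X) (Y := Y) (φ := !![φ, 0; 0, φ]) (by
      refine ⟨⟨?_, ?_, ?_⟩, ⟨?_, ?_, ?_⟩, ?_, ?_, ?_, ?_, ?_⟩ <;>
      simp only [A, X, Y, Units.coeHom_apply, mat_val, QuatAlg.J, QuatAlg.K, Commute, SemiconjBy,
        Matrix.one_fin_two, two_mul] <;>
      ext i j <;> fin_cases i <;> fin_cases j <;>
      simp [Matrix.mul_apply, Fin.sum_univ_two] <;> grind)
  have hA : A ∈ θ.range := hr ▸ Subgroup.subset_closure (by simp)
  have hX : X ∈ θ.range := hr ▸ Subgroup.subset_closure (by simp)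
  have hr' : (ProjGenLinGroup.mk.comp θ).range = θ.range.map ProjGenLinGroup.mk :=
    MonoidHom.range_comp _ _
  have hi : qi ∈ (ProjGenLinGroup.mk.comp θ).range := hr' ▸ ⟨X, hX, rfl⟩
  have hw : qw h2 hab ∈ (ProjGenLinGroup.mk.comp θ).range := hr' ▸ ⟨A, hA, by
    rw [qw, eq_comm]; exact mob_eq_mob.2 ⟨e, rfl, rfl, rfl, rfl⟩⟩
  refine ⟨ProjGenLinGroup.mk.comp θ, fun x hx => ?_, ?_, hi, ?_, hw⟩
  · have hx : θ x ∈ Subgroup.center (GL (Fin 2) F) := (QuotientGroup.eq_one_iff _).1 hx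
    exact Subgroup.mem_center_iff.2 fun y => hθ (by
      rw [map_mul, map_mul]; exact Subgroup.mem_center_iff.1 hx _)
  · rw [hr', hr, Subgroup.map_le_iff_le_comap, Subgroup.closure_le]
    rintro x (rfl | rfl | rfl)
    · exact mob_mem_range_toPGL.2 ⟨1, dA.trans (mul_one 1).symm⟩
    · exact qi_LS
    · exact mob_mem_range_toPGL.2 ⟨1, dY.trans (mul_one 1).symm⟩
  · have := Subgroup.mul_mem _ (Subgroup.mul_mem _ (Subgroup.inv_mem _ hw) hi) hw
    rwa [← qw_qj h2 hab, show ∀ w j : PG F, w⁻¹ * (w * j * w⁻¹) * w = j from fun w j => by group]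
      at this

end Cfsg.Agent.H4.Quat
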