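import Cfsg.Agent.H4.Sz1

/-! Suzuki groups: elements of odd prime order are real; binary actions with odd stabiliser. -/

set_option autoImplicit false
set_option linter.unusedSectionVars false

namespace Cfsg.Agent.H4.Sz

open MulAction Cfsg.Agent.H6.Suzuki Cfsg.Agent.H6.RankOne Cfsg.Agent.H4.Pair Cfsg.Agent.H4.Bin
open scoped Matrix Pointwise

variable {F : Type*} [Field F] [CharP F 2] [Finite F] {θ : F →+* F} (hθ : ∀ x, θ (θ x) = x ^ 2)

theorem mat_inv (g : SzG θ) : mat θ g⁻¹ = J F * (mat θ g)ᵀ * J F := by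
  have h1 : (J F * (mat θ g)ᵀ * J F) * mat θ g = 1 := by
    calc _ = J F * ((mat θ g)ᵀ * J F * mat θ g) := by simp only [Matrix.mul_assoc]
      _ = 1 := by rw [(mat_isSz g).1, J_mul_J]
  calc mat θ g⁻¹ = (J F * (mat θ g)ᵀ * J F * mat θ g) * mat θ g⁻¹ := by rw [h1, one_mul]
    _ = _ := by rw [mul_assoc, ← mat_mul, mul_inv_cancel, mat_one, mul_one]

/-- `g + g⁻¹` -/
def sm (g : SzG θ) : Matrix (Fin 4) (Fin 4) F := mat θ g + mat θ g⁻¹

/-- the trace -/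
def tr (g : SzG θ) : F := mat θ g 0 0 + mat θ g 1 1 + mat θ g 2 2 + mat θ g 3 3

theorem add_self (A : Matrix (Fin 4) (Fin 4) F) : A + A = 0 := by
  ext i j; simp [CharTwo.add_self_eq_zero]

theorem sm_one : sm (1 : SzG θ) = 0 := by rw [sm, inv_one, add_self]

theorem sm_sq (g : SzG θ) : sm g * sm g = tr g • sm g + θ (tr g) • (1 : Matrix (Fin 4) (Fin 4) F) := by
  have h0 := star_rel (mat_isSz g) 0 0
  have h1 := star_rel (mat_isSz g) 1 1
  have h2 := star_rel (mat_isSz g) 2 2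
  have h3 := star_rel (mat_isSz g) 3 3
  have c := col_rel (mat_isSz g).1 1 2
  have r := row_rel (mat_isSz g).1 1 2
  simp only [pairOf_0, pairOf_1, pairOf_2, pairOf_3] at h0 h1 h2 h3
  rw [← c] at r
  rw [tr, map_add, map_add, map_add, ← h0, ← h1, ← h2, ← h3, sm, mat_inv]
  generalize mat θ g = M at *
  clear h0 h1 h2 h3 c
  ext i j; fin_cases i <;> fin_cases j <;>
    simp [J, Matrix.mul_apply, Fin.sum_univ_four, Matrix.vecMul, dotProduct] <;> grind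

theorem sm_step (g : SzG θ) (k : ℕ) : sm (g ^ (k + 2)) = sm (g ^ (k + 1)) * sm g + sm (g ^ k) := by
  have h1 : g ^ (k + 1) * g⁻¹ = g ^ k := by group
  have h2 : (g ^ (k + 1))⁻¹ * g = (g ^ k)⁻¹ := by group
  have h3 : (g ^ (k + 1))⁻¹ * g⁻¹ = (g ^ (k + 2))⁻¹ := by group
  have h4 : g ^ (k + 1) * g = g ^ (k + 2) := by group
  simp only [sm, add_mul, mul_add, ← mat_mul, h1, h2, h3, h4]
  have := add_self (mat θ (g ^ k) + mat θ (g ^ k)⁻¹)
  generalize mat θ (g ^ (k + 2)) = A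
  generalize mat θ (g ^ (k + 2))⁻¹ = A'
  linear_combination (norm := abel) -this

theorem sm_pow (τ : F) (k : ℕ) : ∃ α β : F, ∀ g : SzG θ, tr g = τ →
    sm (g ^ k) = α • sm g + β • (1 : Matrix (Fin 4) (Fin 4) F) := by
  induction k using Nat.twoStepInduction with
  | zero => exact ⟨0, 0, fun g _ => by simp [sm, add_self]⟩
  | one => exact ⟨1, 0, fun g _ => by simp⟩
  | more k h1 h2 =>
    obtain ⟨a, b, h1⟩ := h1
    obtain ⟨c, d, h2⟩ := h2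
    refine ⟨c * τ + d + a, c * θ τ + b, fun g hg => ?_⟩
    rw [sm_step, h1 g hg, h2 g hg, add_mul, smul_mul_assoc, sm_sq, hg, smul_mul_assoc, one_mul]
    module

theorem sq_eq_one_of_sm {g : SzG θ} (e : sm g = 0) : g * g = 1 := by
  have : mat θ g = mat θ g⁻¹ := by
    have := add_self (mat θ g⁻¹)
    rw [← e, sm] at this
    exact (add_right_cancel this).symm
  exact mul_eq_one_iff_eq_inv.2 (mat_inj this)

theorem tr_ne {g : SzG θ} (h1 : g ≠ 1) (ho : Odd (orderOf g)) : tr g ≠ 0 := by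
  intro e
  have h2 := sm_step g 0
  rw [zero_add, zero_add, pow_one, sm_sq, e, map_zero, zero_smul, zero_smul, pow_zero, sm_one,
    add_zero, add_zero] at h2
  have h3 : orderOf g ∣ 2 ^ 2 := orderOf_dvd_of_pow_eq_one (by
    rw [← sq_eq_one_of_sm h2, ← pow_add]; rfl)
  exact h1 (orderOf_eq_one_iff.1 (Nat.eq_one_of_dvd_coprimes
    ((Nat.coprime_two_right.2 ho).pow_right 2) dvd_rfl h3))

/-- class representatives -/
def γ (e : F) : SzG θ := u hθ 0 e * z' hθ 1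

theorem mat_γ (e : F) : mat θ (γ hθ e) =
    !![1 + e + θ e, θ e, e, θ e; e, 1 + e, 0, e; 1, 0, 1, 0; 1, 1, 0, 1] := by
  simp only [γ, z', mat_mul, mat_n, mat_u]
  ext i j; fin_cases i <;> fin_cases j <;>
    simp [uM, J, Matrix.mul_apply, Fin.sum_univ_four]

theorem tr_γ (e : F) : tr (γ hθ e) = θ e := by
  simp [tr, mat_γ]; grind

theorem order_dvd {g : SzG θ} {e : F} (he0 : e ≠ 0) (he : tr g = θ e) : orderOf g ∣ 2 * orderOf (γ hθ e) := by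
  obtain ⟨a, b, h⟩ := sm_pow (θ := θ) (θ e) (orderOf (γ hθ e))
  have h1 := h _ (tr_γ hθ e)
  rw [pow_orderOf_eq_one, sm_one] at h1
  have h2 : sm (γ hθ e) 1 0 = e + 0 := by
    rw [sm, mat_inv, mat_γ, Matrix.add_apply, Matrix.mul_apply]
    simp [J, Matrix.mul_apply, Fin.sum_univ_four]
  have ha : a = 0 := by simpa [h2, he0] using (congrFun (congrFun h1 1) 0).symm
  have hb : b = 0 := by simpa [ha] using (congrFun (congrFun h1 0) 0).symm
  have h3 := sq_eq_one_of_sm (g := g ^ orderOf (γ hθ e)) (by rw [h g he, ha, hb]; simp)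
  exact orderOf_dvd_of_pow_eq_one (by rw [two_mul, pow_add, h3])

theorem inv_centralizer {x : SzG θ} (h1 : x ≠ 1) (ho : Odd (orderOf x)) {d : F} (hd : d ≠ 0)
    (hx : u hθ 0 d * x * u hθ 0 d = x⁻¹) {a : SzG θ} (ha : a * x = x * a) :
    u hθ 0 d * a * u hθ 0 d = a⁻¹ := by
  refine inv_of_fpf (K := Subgroup.centralizer {x}) (z_sq hθ d) (fun a ha => ?_) (fun a ha e => ?_)
    (Subgroup.mem_centralizer_singleton_iff.2 ha)
  · rw [Subgroup.mem_centralizer_singleton_iff] at ha ⊢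
    have h2 : a * x⁻¹ = x⁻¹ * a := (Commute.inv_right ha).eq
    have h3 : x = u hθ 0 d * x⁻¹ * u hθ 0 d := by
      rw [← hx, ← mul_assoc, ← mul_assoc, z_sq, one_mul, mul_assoc, z_sq, mul_one]
    have h4 := z_inv hθ d
    calc _ = u hθ 0 d * a * (u hθ 0 d)⁻¹ * (u hθ 0 d * x⁻¹ * (u hθ 0 d)⁻¹) := by rw [h4, ← h3]
      _ = u hθ 0 d * (a * x⁻¹) * (u hθ 0 d)⁻¹ := by group
      _ = (u hθ 0 d * x⁻¹ * (u hθ 0 d)⁻¹) * (u hθ 0 d * a * (u hθ 0 d)⁻¹) := by rw [h2]; group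
      _ = _ := by rw [h4, ← h3]
  · rw [Subgroup.mem_centralizer_singleton_iff] at ha
    have hU := mem_U_of_comm hθ hd e
    have key : ∀ b ∈ U hθ, b * b = 1 → b * x = x * b → b = 1 := fun b hb b2 e => by
      obtain ⟨c, rfl⟩ := invol_U hθ hb b2
      by_contra hc
      exact h1 (eq_one_of_odd_U hθ (mem_U_of_comm hθ (fun e => hc (by rw [e, u_zero])) e.symm) ho)
    refine key a hU (key _ ((U hθ).mul_mem hU hU) ?_ ?_) ha
    · rw [← pow_four hθ hU, ← pow_two, ← pow_two, ← pow_mul]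
    · rw [mul_assoc, ha, ← mul_assoc, ha, mul_assoc]

theorem exists_invert {g : SzG θ} {p : ℕ} (hp : p.Prime) (ho : Odd p) (hg : orderOf g = p) :
    ∃ k d, d ≠ 0 ∧ u hθ 0 d * (k * g * k⁻¹) * u hθ 0 d = (k * g * k⁻¹)⁻¹ := by
  have : Fact p.Prime := ⟨hp⟩
  have g1 : g ≠ 1 := fun e => hp.one_lt.ne (by rw [← hg, e, orderOf_one])
  obtain ⟨d, hd⟩ := exists_theta (θ := θ) (tr g)
  have hd0 : d ≠ 0 := fun e => tr_ne g1 (hg ▸ ho) (by rw [← hd, e, map_zero])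
  have h1 : p ∣ orderOf (γ hθ d) :=
    (Nat.coprime_two_right.2 ho).dvd_of_dvd_mul_left (hg ▸ order_dvd hθ hd0 hd.symm)
  have h2 : orderOf (γ hθ d ^ (orderOf (γ hθ d) / p)) = p := orderOf_pow_orderOf_div (orderOf_pos _).ne' h1
  have h3 : u hθ 0 d * γ hθ d ^ (orderOf (γ hθ d) / p) * u hθ 0 d =
      (γ hθ d ^ (orderOf (γ hθ d) / p))⁻¹ := by
    nth_rewrite 2 [← z_inv]
    rw [← conj_pow, ← inv_pow, γ, ← mul_assoc, z_sq, one_mul, _root_.mul_inv_rev,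
      inv_eq_of_mul_eq_one_right (z'_sq hθ 1)]
  generalize γ hθ d ^ (orderOf (γ hθ d) / p) = x at h2 h3
  have x1 : x ≠ 1 := fun e => hp.one_lt.ne (by rw [← h2, e, orderOf_one])
  obtain ⟨P, hP⟩ := (IsPGroup.of_card (p := p) (n := 1) (G := Subgroup.zpowers x)
    (by rw [Nat.card_zpowers, h2, pow_one])).exists_le_sylow
  obtain ⟨Q, hQ⟩ := (IsPGroup.of_card (p := p) (n := 1) (G := Subgroup.zpowers g)
    (by rw [Nat.card_zpowers, hg, pow_one])).exists_le_sylow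
  have hx := hP (Subgroup.mem_zpowers x)
  have : Nontrivial P := ⟨⟨⟨x, hx⟩, 1, fun e => x1 (congrArg Subtype.val e)⟩⟩
  have := P.isPGroup'.center_nontrivial
  obtain ⟨⟨y, hy⟩, y1⟩ := exists_ne (1 : Subgroup.center P)
  have hy' : ∀ a ∈ (P : Subgroup (SzG θ)), a * y = y * a := fun a ha =>
    congrArg Subtype.val (Subgroup.mem_center_iff.1 hy ⟨a, ha⟩)
  have h4 := inv_centralizer hθ x1 (h2 ▸ ho) hd0 h3 (hy' x hx).symm
  obtain ⟨m, hm⟩ := IsPGroup.iff_orderOf.1 P.isPGroup' y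
  obtain ⟨k, hk⟩ := MulAction.exists_smul_eq (SzG θ) Q P
  refine ⟨k, d, hd0, inv_centralizer hθ (x := y) (fun e => y1 (Subtype.ext (Subtype.ext e)))
    (by rw [Subgroup.orderOf_coe, hm]; exact ho.pow) hd0 h4 (hy' _ ?_)⟩
  rw [← hk]
  exact conj_mem_cj.2 (hQ (Subgroup.mem_zpowers g))

theorem h_z' (k : Fˣ) (c : F) : h hθ k⁻¹ * z' hθ c * (h hθ k⁻¹)⁻¹ = z' hθ (θ k * c) := by
  have h3 := n_h hθ k⁻¹
  rw [inv_inv] at h3
  rw [z', z', ← h_z, h_inv, h_inv, inv_inv, ← mul_assoc, ← mul_assoc, ← mul_assoc, ← mul_assoc, ← n_h,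
    mul_assoc _ (n θ), mul_assoc _ _ (n θ), ← n_h]

theorem conj_γ (d : F) {c : F} (hc : c ≠ 0) : IsConj (γ hθ (d * c)) (u hθ 0 d * z' hθ c) := by
  obtain ⟨k, rfl⟩ := exists_theta' (θ := θ) hc
  refine isConj_iff.2 ⟨h hθ k⁻¹, ?_⟩
  have h1 := h_z hθ k⁻¹ (d * θ k)
  have h2 := h_z' hθ k 1
  rw [show θ (k⁻¹ : Fˣ) * (d * θ k) = d by
    rw [Units.val_inv_eq_inv_val, map_inv₀]; field_simp] at h1
  rw [mul_one] at h2
  rw [γ, ← h2, ← h1]
  group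

theorem exists_γ {g : SzG θ} {p : ℕ} (hp : p.Prime) (ho : Odd p) (hg : orderOf g = p) :
    ∃ e, e ≠ 0 ∧ IsConj (γ hθ e) g := by
  obtain ⟨k, d, hd, e⟩ := exists_invert hθ hp ho hg
  have g1 : k * g * k⁻¹ ≠ 1 := fun e => hp.one_lt.ne (by
    rw [← hg, conj_eq_one_iff.1 e, orderOf_one])
  have h1 : Odd (orderOf (k * g * k⁻¹)) := by
    rwa [← MulAut.conj_apply, MulEquiv.orderOf_eq, hg]
  suffices ∃ e, e ≠ 0 ∧ IsConj (γ hθ e) (k * g * k⁻¹) from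
    this.imp fun _ h => ⟨h.1, h.2.trans (isConj_iff.2 ⟨k⁻¹, by group⟩)⟩
  generalize k * g * k⁻¹ = x at e g1 h1
  have hx : x ∉ U hθ := fun h => g1 (eq_one_of_odd_U hθ h h1)
  obtain ⟨y, hy⟩ := exists_conj_z hθ (s := u hθ 0 d * x) (fun h => hx (by
    rw [eq_inv_of_mul_eq_one_right h]; exact (U hθ).inv_mem (u_mem hθ _ _))) (by
    rw [← mul_assoc, e, inv_mul_cancel])
  have hy' : y ∉ B hθ := fun h => by
    obtain ⟨l, hl⟩ := B_z hθ h
    exact hx (((U hθ).mul_mem_cancel_left (u_mem hθ 0 d)).1 (by rw [← hy, hl]; exact u_mem hθ _ _))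
  obtain ⟨w, hw, l, -, hl⟩ := conj_notMem hθ hy'
  refine ⟨d * (θ l * 1), by simp [hd], (conj_γ hθ d (by simp)).trans (isConj_iff.2 ⟨w, ?_⟩)⟩
  calc _ = (w * u hθ 0 d * w⁻¹) * (w * z' hθ (θ l * 1) * w⁻¹) := by group
    _ = _ := by rw [conj_z hθ hw, ← hl, hy, ← mul_assoc, z_sq, one_mul]

theorem triangle (hF : 2 < Nat.card F) {e : F} (he : e ≠ 0) : ∃ b c d : F, c ≠ 0 ∧ d ≠ 1 ∧ d * c = e ∧
    IsConj (γ hθ e) (z' hθ c * (u hθ 1 b * z' hθ c * (u hθ 1 b)⁻¹)) := by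
  obtain ⟨b, hb⟩ : ∃ b, e * θ (b + θ b + 1) ≠ 1 := by
    obtain ⟨b, hb⟩ := exists_theta_ne hθ hF
    by_contra h
    push Not at h
    have h1 := θ.injective (mul_left_cancel₀ he ((h b).trans (h 0).symm))
    rw [map_zero] at h1
    exact hb (by grind)
  have h1 : n θ * u hθ 1 b * n θ ∉ B hθ := fun h =>
    one_ne_zero ((u_eq_one hθ).1 (uniq hθ (u_mem hθ 1 b) h)).1
  obtain ⟨w, hw, k, hk, hc⟩ := conj_notMem hθ h1
  have h2 : mat θ (n θ * u hθ 1 b * n θ) 3 0 = b + θ b + 1 := by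
    simp [mat_mul, mat_n, mat_u, uM, J, Matrix.mul_apply, Fin.sum_univ_four]
  rw [← h2, ← hk] at hb
  have hk0 : θ k ≠ 0 := by simp
  obtain ⟨c₁, hc₁⟩ := exists_theta (θ := θ) (e / θ k)
  obtain ⟨c, rfl⟩ := exists_theta (θ := θ) c₁
  rw [hθ] at hc₁
  have hc0 : c ≠ 0 := by
    rintro rfl
    exact div_ne_zero he hk0 (by rw [← hc₁]; simp)
  rw [eq_div_iff hk0] at hc₁
  refine ⟨b, c, e / c, hc0, fun h => hb ?_, div_mul_cancel₀ _ hc0, ?_⟩
  · rw [div_eq_one_iff_eq hc0] at h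
    rw [← h, pow_two, mul_assoc] at hc₁
    exact mul_left_cancel₀ he (hc₁.trans (mul_one e).symm)
  · have h3 := conj_γ hθ c (c := θ k * c) (mul_ne_zero hk0 hc0)
    rw [show c * (θ k * c) = e by rw [← hc₁]; ring] at h3
    refine h3.trans (isConj_iff.2 ⟨n θ * w, ?_⟩)
    calc _ = n θ * ((w * u hθ 0 c * w⁻¹) * (w * z' hθ (θ k * c) * w⁻¹)) * (n θ)⁻¹ := by group
      _ = n θ * u hθ 0 c * n θ * (u hθ 1 b * (n θ * u hθ 0 c * (n θ)⁻¹) * (u hθ 1 b)⁻¹) *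
          (n θ * n θ)⁻¹ := by rw [conj_z hθ hw, ← hc]; group
      _ = _ := by rw [n_mul_n, inv_one, mul_one, n_inv]; rfl

include hθ in
theorem odd_case (hF : 2 < Nat.card F) {K : Subgroup (SzG θ)} (ho : Odd (Nat.card K))
    (hb : Binary (SzG θ) (SzG θ ⧸ K)) : K = ⊥ := by
  by_contra hK
  have hodd : ∀ (x : SzG θ) (a : SzG θ ⧸ K), x • a = a → Odd (orderOf x) := fun x a hx => by
    obtain ⟨a, rfl⟩ := QuotientGroup.mk_surjective a
    have h1 : x ∈ cj a K := mem_cj.2 (smul_mk_eq.1 hx)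
    exact (card_cj a K ▸ ho).of_dvd_nat (Subgroup.orderOf_dvd_natCard _ h1)
  obtain ⟨⟨g₀, hg₀⟩, g01⟩ := Subgroup.ne_bot_iff_exists_ne_one.1 hK
  obtain ⟨g, g1, hg⟩ := Set.exists_max_image {g : SzG θ | g ≠ 1}
    (fun g => (fixedBy (SzG θ ⧸ K) g).ncard) (Set.toFinite _) ⟨g₀, fun e => g01 (Subtype.ext e)⟩
  set m := (fixedBy (SzG θ ⧸ K) g).ncard with hm
  have hm0 : 0 < m := lt_of_lt_of_le ((Set.ncard_pos (s := fixedBy (SzG θ ⧸ K) g₀) (Set.toFinite _)).2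
    ⟨((1 : SzG θ) : SzG θ ⧸ K), smul_mk_eq.2 (by simpa using hg₀)⟩) (hg g₀ fun e => g01 (Subtype.ext e))
  obtain ⟨a, ha⟩ := (Set.ncard_pos (Set.toFinite _)).1 hm0
  obtain ⟨p, hp, hd⟩ := Nat.exists_prime_and_dvd (n := orderOf g) (fun e => g1 (orderOf_eq_one_iff.1 e))
  have h1 := orderOf_pow_orderOf_div (orderOf_pos g).ne' hd
  have h2 : (fixedBy (SzG θ ⧸ K) (g ^ (orderOf g / p))).ncard = m :=
    le_antisymm (hg _ fun e => hp.one_lt.ne (by rw [← h1, e, orderOf_one]))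
      (Set.ncard_le_ncard fun a ha => (stabilizer _ a).pow_mem ha _)
  obtain ⟨e, he, h3⟩ := exists_γ hθ hp ((hodd g a ha).of_dvd_nat hd) h1
  have key : ∀ x, IsConj (γ hθ e) x → (fixedBy (SzG θ ⧸ K) x).ncard = m := fun x hx => by
    obtain ⟨k, rfl⟩ := isConj_iff.1 (h3.symm.trans hx)
    rw [ncard_fixedBy_conj, h2]
  obtain ⟨b, c, d, hc, hd1, hdc, h4⟩ := triangle hθ hF he
  have h5 := conj_γ hθ d hc
  rw [hdc] at h5
  have hd0 : d ≠ 0 := by rintro rfl; exact he (by rw [← hdc, zero_mul])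
  set w := u hθ 1 b with hw
  set x := u hθ 0 d * z' hθ c with hx
  have t2 := inv_eq_of_mul_eq_one_right (z'_sq hθ c)
  have h6 : fixedBy (SzG θ ⧸ K) (w * x * w⁻¹) = fixedBy (SzG θ ⧸ K) x :=
    hb.fixedBy_eq_of_max hg (key _ (h5.trans (isConj_iff.2 ⟨w, rfl⟩))) (key _ h5) (key _ (by
      convert h4 using 1
      calc _ = (z' hθ c)⁻¹ * (u hθ 0 d)⁻¹ * (w * u hθ 0 d * w⁻¹) * (w * z' hθ c * w⁻¹) := by
            rw [hx]; group
        _ = _ := by rw [conj_z hθ (u_mem hθ 1 b), t2]; group))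
  rw [← smul_fixedBy] at h6
  have h7 : u hθ 0 1 • fixedBy (SzG θ ⧸ K) x = fixedBy (SzG θ ⧸ K) x := by
    have : u hθ 0 1 = w * w := by rw [hw, u_sq, map_one, mul_one]
    rw [this, mul_smul, h6, h6]
  obtain ⟨a', ha'⟩ := (Set.ncard_pos (Set.toFinite _)).1 (key _ h5 ▸ hm0)
  have h8 := inv_of_fpf (K := fixingSubgroup (SzG θ) (fixedBy (SzG θ ⧸ K) x)) (z_sq hθ 1)
    (fun y hy => (mem_fixingSubgroup_iff _).2 fun a ha => by
      rw [mul_smul, mul_smul, (mem_fixingSubgroup_iff _).1 hy _ (h7 ▸ Set.smul_mem_smul_set ha),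
        ← mul_smul, z_sq, one_smul])
    (fun y hy e => eq_one_of_odd_U hθ (mem_U_of_comm hθ one_ne_zero e)
      (hodd y a' ((mem_fixingSubgroup_iff _).1 hy _ ha')))
    (a := x) ((mem_fixingSubgroup_iff _).2 fun a ha => ha)
  have h9 : x * u hθ 0 (d + 1) = u hθ 0 (d + 1) * x := by
    have e1 : u hθ 0 d * x⁻¹ * u hθ 0 d = x := by
      rw [hx, _root_.mul_inv_rev, t2, z_inv, mul_assoc, mul_assoc, z_sq, mul_one]
    rw [← h8, ← mul_assoc, ← mul_assoc, z_mul, mul_assoc _ (u hθ 0 1), z_mul, add_comm 1 d] at e1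
    nth_rewrite 2 [← e1]
    rw [← mul_assoc, ← mul_assoc, z_sq, one_mul]
  exact z'_notMem hθ hc (U_le_B hθ (((U hθ).mul_mem_cancel_left (u_mem hθ 0 d)).1
    (mem_U_of_comm hθ (fun e => hd1 (by grind)) h9)))

end Cfsg.Agent.H4.Sz
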