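import Cfsg.Agent.H4.T8M

/-!
The properties of the adjoint module of `E₈(3)` that are used to exclude subgroups.
-/

set_option autoImplicit false
set_option linter.unusedSectionVars false

namespace Cfsg.Agent.H4.T8

open Module

/-- traces of `x, x², x⁴` for `x⁸ = 1` -/
def L8 : List (ℤ × ℤ × ℤ) := [(-8, 248, 248), (-6, 132, 24), (-4, 24, 248), (-4, 64, -8), (-2, 4, 24), (-2, 28, 24),
  (0, -8, 248), (0, 0, -8), (0, 8, -8), (2, -4, 24), (2, 4, 24), (4, 0, -8), (4, 24, 248), (6, 4, 24), (8, -8, 248),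
  (12, 64, -8), (14, 28, 24), (16, 0, -8), (24, 248, 248), (26, 132, 24), (28, 24, 248), (34, -4, 24), (44, 64, -8),
  (64, -8, 248), (78, 28, 24), (132, 24, 248), (248, 248, 248)]

variable {V : Type*} [AddCommGroup V] [Module (ZMod 3) V] [FiniteDimensional (ZMod 3) V] {G : Type*} [Group G]

/-- properties of a module -/
structure Fac (ρ : G →* End (ZMod 3) V) : Prop where
  dim : finrank (ZMod 3) V = 248
  inj : ∀ g, ρ g = 1 → g = 1
  e2 : ∀ x, x ^ 8 = 1 → (tau ⊤ (ρ x), tau ⊤ (ρ (x ^ 2)), tau ⊤ (ρ (x ^ 4))) ∈ L8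
  e11 : ∀ x, x ^ 11 = 1 → 28 ≤ dm ⊤ (ρ x) 1
  e31 : ∀ x, x ^ 31 = 1 → x = 1 ∨ dm ⊤ (ρ x) 1 = 8
  e41 : ∀ x g : G, x ^ 41 = 1 → g * x * g⁻¹ = x ^ 36 → x = 1

variable {ρ : G →* End (ZMod 3) V}

theorem Fac.comp (h : Fac ρ) {H : Type*} [Group H] (f : H →* G) (hf : Function.Injective f) : Fac (ρ.comp f) where
  dim := h.dim
  inj g e := hf ((h.inj _ e).trans (map_one f).symm)
  e2 x e := by simpa using h.e2 (f x) (by rw [← map_pow, e, map_one])
  e11 x e := h.e11 (f x) (by rw [← map_pow, e, map_one])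
  e31 x e := (h.e31 (f x) (by rw [← map_pow, e, map_one])).imp_left fun e => hf (e.trans (map_one f).symm)
  e41 x g e e' := hf ((h.e41 (f x) (f g) (by rw [← map_pow, e, map_one])
    (by rw [← map_inv, ← map_mul, ← map_mul, e', map_pow])).trans (map_one f).symm)

theorem Fac.tau_one (h : Fac ρ) : tau ⊤ (ρ 1) = 248 := by
  have := chain_sum (k := ZMod 3) (V := V) (by decide) [] [] ⊤ (by simp) (by simp) trivial
  rw [show fx [] = ⊤ from rfl, inf_idem, finrank_top, h.dim] at this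
  simpa [els] using this

theorem Fac.tau_ne (h : Fac ρ) {x : G} (hx : x ≠ 1) : tau ⊤ (ρ x) ≠ 248 := fun e =>
  hx (h.inj _ (eq_one_of_tau (by rw [e, h.dim]; rfl)))

theorem Fac.tri (h : Fac ρ) {mu : ℕ → ℕ → ℕ} {e : ℕ} {vb : ℕ → Bool} {Val : ℕ → Prop} {φ : ℕ → G}
    (M : Mdl mu e vb Val φ) {a b c : ℕ} (ha : Val a) (h1 : mu a a = b) (h2 : mu b b = c) (h3 : mu c c = e) :
    (tau ⊤ (ρ (φ a)), tau ⊤ (ρ (φ b)), tau ⊤ (ρ (φ c))) ∈ L8 := by
  have hb : Val b := h1 ▸ M.val_mu _ _ ha ha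
  have hc : Val c := h2 ▸ M.val_mu _ _ hb hb
  have e1 : φ b = φ a ^ 2 := by rw [← h1, M.φ_mu _ _ ha ha, sq]
  have e2 : φ c = φ a ^ 4 := by rw [← h2, M.φ_mu _ _ hb hb, e1, ← pow_add]
  rw [e1, e2]
  exact h.e2 _ (by rw [← M.φ_e, ← h3, M.φ_mu _ _ hc hc, e2, ← pow_add])

theorem Fac.invol (h : Fac ρ) {x : G} (h1 : x * x = 1) (hx : x ≠ 1) : tau ⊤ (ρ x) = -8 ∨ tau ⊤ (ρ x) = 24 := by
  have h2 := h.e2 x (by rw [show 8 = 2 * 4 from rfl, pow_mul, sq, h1, one_pow])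
  rw [show 4 = 2 * 2 from rfl, pow_mul, sq x, h1, one_pow, h.tau_one] at h2
  have := h.tau_ne hx
  simp only [L8, List.mem_cons, Prod.mk.injEq, List.not_mem_nil, or_false] at h2
  omega

omit [FiniteDimensional (ZMod 3) V] in
theorem three (v : V) : v + v + v = 0 := by
  have : (3 : ZMod 3) • v = 0 := by rw [show (3 : ZMod 3) = 0 from rfl, zero_smul]
  rwa [show (3 : ZMod 3) = 1 + 1 + 1 from rfl, add_smul, add_smul, one_smul] at this

end Cfsg.Agent.H4.T8
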