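import Cfsg.Agent.H4.T8G

/-!
Seeds for the fixed space of a normal subgroup.
-/

set_option autoImplicit false
set_option linter.unusedSectionVars false

namespace Cfsg.Agent.H4.T8

open Module BP

variable {k V : Type*} [Field k] [AddCommGroup V] [Module k V] {G : Type*} [Group G]
  {mu : ℕ → ℕ → ℕ} {e : ℕ} {vb : ℕ → Bool} {Val : ℕ → Prop} {φ : ℕ → G} (M : Mdl mu e vb Val φ) (ρ : G →* End k V)

theorem finrank_zero_of [FiniteDimensional k V] (U : Submodule k V) (h : ∀ v ∈ U, v = 0) : finrank k U = 0 :=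
  Submodule.finrank_eq_zero.2 (eq_bot_iff.2 h)

theorem mem_inf_eig {U : Submodule k V} {g : End k V} {v : V} : v ∈ U ⊓ g.eigenspace 1 ↔ v ∈ U ∧ g v = v := by simp

theorem fx_app {zs ys : List ℕ} {v : V} : v ∈ fx ((zs ++ ys).map (op ρ φ)) ↔
    v ∈ fx (zs.map (op ρ φ)) ∧ v ∈ fx (ys.map (op ρ φ)) := by
  simp only [mem_fx, List.map_append, List.forall_mem_append]

theorem fx_two {ys : List ℕ} {v : V} (h : v ∈ fx (ys.map (op ρ φ))) {a : ℕ} (ha : 2 * a ∈ ys) : ρ (φ a) v = v := by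
  rw [← op_two]; exact mem_fx.1 h _ (List.mem_map_of_mem ha)

include M

theorem nrmB_val {zs : List ℕ} {r : ℕ} (hr : nrmB mu e vb zs r = true) : Val (r / 2) := by
  rw [nrmB, Bool.and_eq_true] at hr
  exact M.vb _ hr.1

theorem nrmB_two {zs : List ℕ} (h : ∀ z ∈ zs, Val (z / 2)) {r : ℕ} (hr : nrmB mu e vb zs (2 * r) = true) :
    ∀ v ∈ fx (zs.map (op ρ φ)), ρ (φ r) v ∈ fx (zs.map (op ρ φ)) := op_two ρ r ▸ nrmB_spec M ρ h hr

theorem gt_pw {a n : ℕ} (ha : Val a) {v : V} (hv : ρ (φ a) v = v) {L : List ℕ}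
    (h : L = (List.range n).map (pwN mu e a)) (i : ℕ) : Val (gt L e i) ∧ ρ (φ (gt L e i)) v = v := by
  rcases gt_mem L e i with h1 | h1
  · rw [h1, M.φ_e, map_one]; exact ⟨M.val_e, rfl⟩
  · generalize gt L e i = b at h1
    obtain ⟨j, -, rfl⟩ := List.mem_map.1 (h ▸ h1)
    rw [(pwN_spec M ha j).2, map_pow]
    exact ⟨(pwN_spec M ha j).1, pow_fix hv j⟩

theorem sop_mem {zs ys : List ℕ} (h : ∀ z ∈ zs, Val (z / 2)) (hy : ys.all (nrmB mu e vb zs) = true)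
    (hc : chainB mu ys [Nat.mul 2 e] = true) : (∀ a ∈ elsC mu e ys, Val (a / 2)) ∧ ∀ r, nrmB mu e vb zs r = true →
      ∀ v ∈ fx (zs.map (op ρ φ)), sop ρ φ (elsC mu e ys) r v ∈ fx ((zs ++ ys).map (op ρ φ)) := by
  rw [List.all_eq_true] at hy
  have h1 := fun y hy' => nrmB_val M (hy y hy')
  refine ⟨(elsC_spec M ρ h1).1, fun r hr v hv => (fx_app ρ).2 ?_⟩
  rw [sop, (elsC_spec M ρ h1).2]
  exact els_sum_mem _ _ _ (List.forall_mem_map.2 fun y hy' => nrmB_spec M ρ h (hy y hy'))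
    (by simp [op, M.φ_e]) (chainB_spec M ρ h1 (by simpa using M.val_e) hc) (nrmB_spec M ρ h hr v hv)

theorem sop_five {zs : List ℕ} (h : ∀ z ∈ zs, Val (z / 2)) {a : ℕ} (ha : nrmB mu e vb zs (2 * a) = true)
    (h5 : pwN mu e a 5 = e) : ρ (φ a) ^ 5 = 1 ∧ (∀ b ∈ (List.range 5).map fun i => 2 * pwN mu e a i, Val (b / 2)) ∧
      ∀ r, nrmB mu e vb zs r = true → ∀ v ∈ fx (zs.map (op ρ φ)),
        sop ρ φ ((List.range 5).map fun i => 2 * pwN mu e a i) r v ∈ fx (zs.map (op ρ φ)) ⊓ (ρ (φ a)).eigenspace 1 := by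
  have h1 := pwN_spec M (show Val a by simpa using nrmB_val M ha)
  have h2 : ρ (φ a) ^ 5 = 1 := by rw [← map_pow, ← (h1 5).2, h5, M.φ_e, map_one]
  refine ⟨h2, List.forall_mem_map.2 fun i _ => by simpa using (h1 i).1, fun r hr v hv => ?_⟩
  have h3 := nrmB_two M ρ h ha
  have h4 := nrmB_spec M ρ h hr v hv
  have h6 := LinearMap.congr_fun h2 (op ρ φ r v)
  simp only [sop, op_two, (h1 _).2, map_mul, map_one, List.range_succ, List.range_zero,
    List.nil_append, List.cons_append, List.map_cons, List.map_nil, List.sum_cons, List.sum_nil, End.mul_apply,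
    LinearMap.add_apply, pow_succ, pow_zero, End.one_apply, add_zero, mem_inf_eig, map_add] at h6 ⊢
  exact ⟨add_mem h4 (add_mem (h3 _ h4) (add_mem (h3 _ (h3 _ h4)) (add_mem (h3 _ (h3 _ (h3 _ h4)))
    (h3 _ (h3 _ (h3 _ (h3 _ h4))))))), by rw [h6]; abel⟩

end Cfsg.Agent.H4.T8
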