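import Cfsg.Agent.H4.Chain

/-!
Fixed spaces of 2-groups of linear maps, and certificates for identities in permutation modules.
-/

set_option autoImplicit false
set_option linter.unusedSectionVars false

namespace Cfsg.Agent.H4.T8

open Module BP

section LA

variable {k V : Type*} [Field k] [AddCommGroup V] [Module k V] [FiniteDimensional k V]

/-- the dimension of an eigenspace in a subspace -/
noncomputable def dm (U : Submodule k V) (g : End k V) (c : k) : ℕ := finrank k ↥(U ⊓ g.eigenspace c)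

/-- the rational part of the Brauer character of a 2-element -/
noncomputable def tau (U : Submodule k V) (g : End k V) : ℤ := dm U g 1 - dm U g (-1)

theorem dm_congr {U : Submodule k V} {g g' : End k V} {c c' : k} (h : ∀ v ∈ U, g v = c • v ↔ g' v = c' • v) :
    dm U g c = dm U g' c' := by
  rw [dm, dm, show U ⊓ g.eigenspace c = U ⊓ g'.eigenspace c' from Submodule.ext fun v => by
    simp only [Submodule.mem_inf, End.mem_eigenspace_iff]; exact and_congr_right (h v)]

theorem dm_split (h2 : (2 : k) ≠ 0) {U : Submodule k V} {z g : End k V} (hz : ∀ v ∈ U, z v ∈ U ∧ z (z v) = v)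
    (hg : ∀ v ∈ U, g (z v) = z (g v)) (c : k) :
    dm U g c = dm (U ⊓ z.eigenspace 1) g c + dm (U ⊓ z.eigenspace (-1)) g c := by
  have h1 : U ⊓ z.eigenspace 1 ⊓ g.eigenspace c ⊓ (U ⊓ z.eigenspace (-1) ⊓ g.eigenspace c) = ⊥ :=
    eq_bot_iff.2 fun v hv => by
      simp only [Submodule.mem_inf, End.mem_eigenspace_iff, one_smul, neg_smul] at hv
      have : (2 : k) • v = 0 := by rw [two_smul]; exact add_eq_zero_iff_eq_neg.2 (hv.1.1.2.symm.trans hv.2.1.2)
      exact (smul_eq_zero.1 this).resolve_left h2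
  have h3 : U ⊓ z.eigenspace 1 ⊓ g.eigenspace c ⊔ U ⊓ z.eigenspace (-1) ⊓ g.eigenspace c = U ⊓ g.eigenspace c := by
    refine le_antisymm (sup_le (inf_le_inf_right _ inf_le_left) (inf_le_inf_right _ inf_le_left)) fun v hv => ?_
    simp only [Submodule.mem_inf, End.mem_eigenspace_iff] at hv
    refine Submodule.mem_sup.2 ⟨(2 : k)⁻¹ • (v + z v), Submodule.smul_mem _ _ ?_, (2 : k)⁻¹ • (v - z v),
      Submodule.smul_mem _ _ ?_, by rw [← smul_add, add_add_sub_cancel, ← two_smul k, inv_smul_smul₀ h2]⟩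
    · simp [add_mem hv.1 (hz v hv.1).1, (hz v hv.1).2, hg v hv.1, hv.2, add_comm]
    · simp [sub_mem hv.1 (hz v hv.1).1, (hz v hv.1).2, hg v hv.1, hv.2, smul_sub, neg_add_eq_sub]
  rw [dm, dm, dm, ← Submodule.finrank_sup_add_finrank_inf_eq, h1, h3, finrank_bot, add_zero]

/-- all products -/
def els : List (End k V) → List (End k V)
  | [] => [1]
  | z :: zs => els zs ++ (els zs).map (z * ·)

/-- the common fixed space -/
def fx (zs : List (End k V)) : Submodule k V := zs.foldr (fun z W => z.eigenspace 1 ⊓ W) ⊤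

omit [FiniteDimensional k V] in
theorem mem_fx {zs : List (End k V)} {v : V} : v ∈ fx zs ↔ ∀ z ∈ zs, z v = v := by
  induction zs with
  | nil => simp [fx]
  | cons z zs ih => rw [List.forall_mem_cons, ← ih]; simp [fx]

/-- central series with factors of order two -/
def Chain : List (End k V) → List (End k V) → Prop
  | _, [] => True
  | N, z :: zs => z * z ∈ N ∧ (∀ y ∈ zs, ∃ n ∈ N, y * z = z * y * n) ∧ Chain (N ++ N.map (z * ·)) zs

omit [FiniteDimensional k V] in
theorem els_ind {P : End k V → Prop} (h1 : P 1) (hm : ∀ a b, P a → P b → P (a * b)) {zs : List (End k V)}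
    (h : ∀ z ∈ zs, P z) : ∀ g ∈ els zs, P g := by
  induction zs with
  | nil => simpa [els] using h1
  | cons z zs ih =>
    have ih := ih fun y hy => h y (List.mem_cons_of_mem _ hy)
    simp only [els, List.mem_append, List.mem_map]
    rintro g (hg | ⟨g, hg, rfl⟩)
    exacts [ih g hg, hm _ _ (h z (by simp)) (ih g hg)]

theorem chain_sum (h2 : (2 : k) ≠ 0) (zs N : List (End k V)) (U : Submodule k V) (hU : ∀ z ∈ zs, ∀ v ∈ U, z v ∈ U)
    (hN : ∀ n ∈ N, ∀ v ∈ U, n v = v) (hc : Chain N zs) :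
    ((els zs).map (tau U)).sum = 2 ^ zs.length * (finrank k ↥(U ⊓ fx zs) : ℤ) := by
  induction zs generalizing N U with
  | nil =>
    have : U ⊓ End.eigenspace (1 : End k V) (-1) = ⊥ := eq_bot_iff.2 fun v hv => by
      have h := End.mem_eigenspace_iff.1 hv.2
      have : (2 : k) • v = 0 := by rw [two_smul]; exact add_eq_zero_iff_eq_neg.2 (by simpa using h)
      exact (smul_eq_zero.1 this).resolve_left h2
    have h3 : End.eigenspace (1 : End k V) 1 = ⊤ := eq_top_iff.2 fun v _ => by simp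
    rw [els, List.map_singleton, List.sum_singleton, tau, dm, dm, this, h3]; simp [fx]; rfl
  | cons z zs ih =>
    obtain ⟨c1, c2, c3⟩ := hc
    have hz : ∀ v ∈ U, z v ∈ U ∧ z (z v) = v := fun v hv => ⟨hU z (by simp) v hv, hN _ c1 v hv⟩
    have h1 : ∀ y ∈ zs, ∀ v ∈ U, y v ∈ U ∧ y (z v) = z (y v) := fun y hy v hv => by
      obtain ⟨n, hn, e⟩ := c2 y hy
      exact ⟨hU y (List.mem_cons_of_mem _ hy) v hv, by simpa [hN n hn v hv] using LinearMap.congr_fun e v⟩
    have h3 := els_ind (P := fun y => ∀ v ∈ U, y v ∈ U ∧ y (z v) = z (y v)) (fun v hv => ⟨hv, rfl⟩)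
      (fun a b ha hb v hv => ⟨(ha _ (hb v hv).1).1, by simp [(hb v hv).2, (ha _ (hb v hv).1).2]⟩) h1
    have h4 := ih (N ++ N.map (z * ·)) (U ⊓ z.eigenspace 1) (fun y hy v hv => ⟨(h1 y hy v hv.1).1, by
      have := End.mem_eigenspace_iff.1 hv.2
      rw [one_smul] at this
      simp [← (h1 y hy v hv.1).2, this]⟩) (fun n hn v hv => by
        rcases List.mem_append.1 hn with hn | hn
        · exact hN n hn v hv.1
        · obtain ⟨n, hn', rfl⟩ := List.mem_map.1 hn
          simpa [hN n hn' v hv.1] using End.mem_eigenspace_iff.1 hv.2) c3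
    rw [els, List.map_append, List.sum_append, List.map_map, ← List.sum_map_add, List.length_cons, pow_succ',
      mul_assoc, show U ⊓ fx (z :: zs) = U ⊓ z.eigenspace 1 ⊓ fx zs from (inf_assoc ..).symm, ← h4,
      ← List.sum_map_mul_left]
    refine congrArg _ (List.map_congr_left fun g hg => ?_)
    have h5 : ∀ ε c : k, ε * ε = 1 → dm (U ⊓ z.eigenspace ε) (z * g) c = dm (U ⊓ z.eigenspace ε) g (ε * c) :=
      fun ε c hε => dm_congr fun v hv => by
        rw [End.mul_apply, ← (h3 g hg v hv.1).2, End.mem_eigenspace_iff.1 hv.2, map_smul]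
        exact ⟨fun e => by rw [mul_smul, ← e, smul_smul, hε, one_smul],
          fun e => by rw [e, smul_smul, ← mul_assoc, hε, one_mul]⟩
    have h6 : ∀ v ∈ U, (z * g) (z v) = z ((z * g) v) := fun v hv => by simp [(h3 g hg v hv).2]
    simp only [Function.comp, tau, dm_split h2 hz (fun v hv => (h3 g hg v hv).2), dm_split h2 hz h6,
      h5 1 _ (mul_one 1), h5 (-1) _ (by simp), mul_one, mul_neg, neg_neg]
    push_cast; ring

theorem tau_neg (U : Submodule k V) (g : End k V) : tau U (-g) = -tau U g := by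
  rw [tau, tau, neg_sub, dm_congr (g := -g) (g' := g) (c' := -1) fun v _ => by simp [neg_eq_iff_eq_neg],
    dm_congr (g := -g) (g' := g) (c := -1) (c' := 1) fun v _ => by simp]

theorem dm_conj {G : Type*} [Group G] (ρ : G →* End k V) {a g b : G} (h : a * g = g * b) (c : k) :
    dm ⊤ (ρ a) c = dm ⊤ (ρ b) c := by
  have key : ∀ {a g b : G}, a * g = g * b → dm ⊤ (ρ b) c ≤ dm ⊤ (ρ a) c := fun {a g b} h =>
    LinearMap.finrank_le_finrank_of_injective (f := (ρ g).restrict fun v hv => ⟨trivial, by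
      have := LinearMap.congr_fun (congrArg ρ h) v
      simp only [map_mul, End.mul_apply, End.mem_eigenspace_iff.1 hv.2, map_smul] at this
      exact End.mem_eigenspace_iff.2 this⟩) fun x y e => Subtype.ext (by
        have : ρ g⁻¹ (ρ g x) = ρ g⁻¹ (ρ g y) := congrArg (fun v => ρ g⁻¹ v.1) e
        rwa [← End.mul_apply, ← End.mul_apply, ← map_mul, inv_mul_cancel, map_one] at this)
  exact le_antisymm (key (g := g⁻¹) (by rw [eq_inv_mul_iff_mul_eq, ← mul_assoc, ← h]; simp)) (key h)

theorem eq_one_of_tau {g : End k V} (h : tau ⊤ g = finrank k V) : g = 1 := by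
  have h1 : finrank k V ≤ finrank k ↥(⊤ ⊓ g.eigenspace 1) := by rw [tau, dm] at h; omega
  have := Submodule.eq_top_of_finrank_eq (le_antisymm (Submodule.finrank_le _) h1)
  exact LinearMap.ext fun v => by simpa using End.mem_eigenspace_iff.1 (this.ge trivial : v ∈ _).2

theorem finrank_le_add {W : Type*} [AddCommGroup W] [Module k W] [FiniteDimensional k W] (U X : Submodule k V)
    (Y : Submodule k W) (f : V →ₗ[k] W) (h : ∀ v ∈ U, f v ∈ Y) (h0 : ∀ v ∈ U, f v = 0 → v ∈ X) :
    finrank k U ≤ finrank k Y + finrank k X := by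
  rw [← (f.restrict h).finrank_range_add_finrank_ker]
  refine add_le_add (Submodule.finrank_le _) (LinearMap.finrank_le_finrank_of_injective
    (f := (U.subtype.comp (Submodule.subtype _)).codRestrict X fun v => h0 _ v.1.2 (congrArg Subtype.val v.2))
    fun x y e => Subtype.ext (Subtype.ext (congrArg (fun v : X => v.1) e)))

end LA

/-- a model of a group by natural numbers -/
structure Mdl {G : Type*} [Group G] (mu : ℕ → ℕ → ℕ) (e : ℕ) (vb : ℕ → Bool) (Val : ℕ → Prop) (φ : ℕ → G) : Prop where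
  vb : ∀ a, vb a = true → Val a
  val_e : Val e
  φ_e : φ e = 1
  val_mu : ∀ a b, Val a → Val b → Val (mu a b)
  φ_mu : ∀ a b, Val a → Val b → φ (mu a b) = φ a * φ b

section chk

variable (mu : ℕ → ℕ → ℕ) (e : ℕ) (vb : ℕ → Bool)

/-- product of signed codes -/
def smu (a b : ℕ) : ℕ := Nat.add (Nat.mul 2 (mu (Nat.div a 2) (Nat.div b 2))) (Nat.mod (Nat.add a b) 2)

/-- a list with all entries evaluated -/
noncomputable def forceL {β : Type} (l : List ℕ) : (List ℕ → β) → β :=
  List.rec (motive := fun _ => (List ℕ → β) → β) (fun f => f []) (fun a _ ih f => force a fun a => ih fun l => f (a :: l)) l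

/-- all products -/
noncomputable def elsC (zs : List ℕ) : List ℕ :=
  List.rec (motive := fun _ => List ℕ) [Nat.mul 2 e] (fun z _ ih => forceL ih fun l => l ++ l.map (smu mu z)) zs

/-- check of a central series -/
noncomputable def chainB (zs : List ℕ) : List ℕ → Bool :=
  List.rec (motive := fun _ => List ℕ → Bool) (fun _ => true) (fun z zs ih N =>
    (force (smu mu z z) fun a => N.any (Nat.beq a)) &&
    (zs.all fun y => force (smu mu y z) fun a => force (smu mu z y) fun b => N.any fun n => Nat.beq a (smu mu b n)) &&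
    Bool.rec (forceL (N ++ N.map (smu mu z)) ih) true zs.isEmpty) zs

/-- the signed number of elements in a class -/
noncomputable def cf (l : List (ℕ × ℕ)) (j : ℕ) : ℤ :=
  List.rec (motive := fun _ => ℤ) 0 (fun a _ ih => Bool.rec ih (Bool.rec (ih - 1) (ih + 1) (Nat.beq (a.1 % 2) 0))
    (Nat.beq (a.2 % 8) j)) l

/-- all checks for a subgroup with a sign character -/
noncomputable def grpB (rep : ℕ → ℕ) (zs cj : List ℕ) (cs : List ℤ) : Bool :=
  zs.all (fun z => vb (z / 2)) && chainB mu zs [Nat.mul 2 e] && forceL (elsC mu e zs) fun l =>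
    Nat.beq l.length cj.length && (l.zip cj).all (fun a => vb (a.2 / 8) &&
      Nat.beq (mu (a.1 / 2) (a.2 / 8)) (mu (a.2 / 8) (rep (a.2 % 8)))) && decide ((List.range 8).map (cf (l.zip cj)) = cs)

/-- add a basis vector -/
noncomputable def upd {β : Type} (P N p : ℕ) (f : ℕ → ℕ → β) : β :=
  Bool.rec (Bool.rec (force (Nat.xor P (Nat.pow 2 p)) fun P => f P N)
    (force (Nat.xor P (Nat.pow 2 p)) fun P => force (Nat.xor N (Nat.pow 2 p)) fun N => f P N) (tb P p))
    (force (Nat.xor N (Nat.pow 2 p)) fun N => f P N) (tb N p)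

variable (act : ℕ → ℕ → ℕ) (n : ℕ)

/-- add the images of signed points -/
noncomputable def accP (h : ℕ) (l : List ℕ) (f : ℕ → ℕ → Bool) : ℕ → ℕ → Bool :=
  List.rec (motive := fun _ => ℕ → ℕ → Bool) f (fun a _ ih P N => force (act (Nat.div h 2) (Nat.div a 2)) fun p =>
    Nat.blt p n && Bool.rec (upd N P p fun N P => ih P N) (upd P N p ih) (Nat.beq (Nat.mod (Nat.add h a) 2) 0)) l

/-- add the images of the seeds -/
noncomputable def accS (sd : ℕ → List ℕ) (l : List ℕ) (f : ℕ → ℕ → Bool) : ℕ → ℕ → Bool :=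
  List.rec (motive := fun _ => ℕ → ℕ → Bool) f (fun a _ ih P N => force (Nat.div a 4) fun h =>
    vb (Nat.div h 2) && accP act n h (sd (Nat.mod a 4)) ih P N) l

/-- action on the cosets of a subgroup -/
noncomputable def cact (rp Z idx pt : ℕ → ℕ) (h p : ℕ) : ℕ := force (mu h (rp p)) fun c =>
  force (mu c (Z (idx c))) fun c => force (pt c) fun q => Bool.rec n q (Nat.beq (rp q) c)

end chk

theorem forceL_eq {β : Type} (l : List ℕ) (f : List ℕ → β) : forceL l f = f l := by
  induction l generalizing f with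
  | nil => rfl
  | cons a l ih => exact (force_eq a fun a => forceL l fun l => f (a :: l)).trans (ih _)

variable {k V : Type*} [Field k] [AddCommGroup V] [Module k V] {G : Type*} [Group G]
  {mu : ℕ → ℕ → ℕ} {e : ℕ} {vb : ℕ → Bool} {Val : ℕ → Prop} {φ : ℕ → G} (M : Mdl mu e vb Val φ) (ρ : G →* End k V)

/-- the operator of a signed code -/
def op (φ : ℕ → G) (a : ℕ) : End k V := (-1) ^ a * ρ (φ (a / 2))

include M in
theorem op_smu {a b : ℕ} (ha : Val (a / 2)) (hb : Val (b / 2)) :
    Val (smu mu a b / 2) ∧ op ρ φ (smu mu a b) = op ρ φ a * op ρ φ b := by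
  have h1 : smu mu a b = 2 * mu (a / 2) (b / 2) + (a + b) % 2 := rfl
  have h2 : smu mu a b / 2 = mu (a / 2) (b / 2) := by omega
  refine ⟨h2 ▸ M.val_mu _ _ ha hb, ?_⟩
  rw [op, op, op, h2, M.φ_mu _ _ ha hb, map_mul, neg_one_pow_eq_pow_mod_two, show smu mu a b % 2 = (a + b) % 2 by omega,
    ← neg_one_pow_eq_pow_mod_two, pow_add, mul_assoc, mul_assoc, ← mul_assoc _ (ρ _),
    ((Commute.neg_one_left (ρ (φ (a / 2)))).pow_left b).eq, mul_assoc]

include M in
theorem elsC_spec {zs : List ℕ} (h : ∀ z ∈ zs, Val (z / 2)) :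
    (∀ a ∈ elsC mu e zs, Val (a / 2)) ∧ (elsC mu e zs).map (op ρ φ) = els (zs.map (op ρ φ)) := by
  induction zs with
  | nil => simp [elsC, els, op, M.val_e, M.φ_e]
  | cons z zs ih =>
    obtain ⟨h1, h2⟩ := ih fun y hy => h y (List.mem_cons_of_mem _ hy)
    have h3 := fun a ha => op_smu M ρ (h z (by simp)) (h1 a ha)
    rw [show elsC mu e (z :: zs) = _ from forceL_eq .., List.map_cons, els, ← h2]
    refine ⟨fun a ha => (List.mem_append.1 ha).elim (h1 a) fun ha => ?_, ?_⟩
    · obtain ⟨b, hb, rfl⟩ := List.mem_map.1 ha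
      exact (h3 b hb).1
    · rw [List.map_append, List.map_map, List.map_map]
      exact congrArg _ (List.map_congr_left fun a ha => (h3 a ha).2)

include M in
theorem chainB_spec {zs N : List ℕ} (h : ∀ z ∈ zs, Val (z / 2)) (hN : ∀ a ∈ N, Val (a / 2))
    (hc : chainB mu zs N = true) : Chain (N.map (op ρ φ)) (zs.map (op ρ φ)) := by
  induction zs generalizing N with
  | nil => trivial
  | cons z zs ih =>
    have hz := h z (by simp)
    have h1 := fun y hy => h y (List.mem_cons_of_mem _ hy)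
    replace hc : (_ && _ && Bool.rec (forceL (N ++ N.map (smu mu z)) (chainB mu zs)) true zs.isEmpty) = true := hc
    simp only [force_eq, forceL_eq, Bool.and_eq_true, List.any_eq_true, List.all_eq_true, Nat.beq_eq] at hc
    obtain ⟨⟨⟨a, ha, e1⟩, c2⟩, c3⟩ := hc
    refine ⟨(op_smu M ρ hz hz).2 ▸ e1 ▸ List.mem_map_of_mem ha, fun y hy => ?_, ?_⟩
    · replace hy := List.mem_map.1 hy
      obtain ⟨y, hy, rfl⟩ := hy
      obtain ⟨n, hn, e2⟩ := c2 y hy
      refine ⟨_, List.mem_map_of_mem hn, ?_⟩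
      rw [← (op_smu M ρ (h1 y hy) hz).2, e2, (op_smu M ρ (op_smu M ρ hz (h1 y hy)).1 (hN n hn)).2,
        (op_smu M ρ hz (h1 y hy)).2]
    · cases zs with
      | nil => trivial
      | cons y zs =>
        have := ih h1 (fun a ha => (List.mem_append.1 ha).elim (hN a) fun ha => by
          obtain ⟨b, hb, rfl⟩ := List.mem_map.1 ha
          exact (op_smu M ρ hz (hN b hb)).1) c3
        rwa [List.map_append, List.map_map, List.map_congr_left (f := op ρ φ ∘ smu mu z) (g := (op ρ φ z * ·) ∘ op ρ φ)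
          fun a ha => (op_smu M ρ hz (hN a ha)).2, ← List.map_map] at this

theorem sum_cf (t : ℕ → ℤ) (l : List (ℕ × ℕ)) : (l.map fun a => (-1) ^ a.1 * t (a.2 % 8)).sum =
    ∑ j ∈ Finset.range 8, cf l j * t j := by
  induction l with
  | nil => simp [cf]
  | cons a l ih =>
    have : ∀ j, cf (a :: l) j = (if a.2 % 8 = j then (-1) ^ a.1 else 0) + cf l j := fun j => by
      change (Bool.rec (cf l j) (Bool.rec (cf l j - 1) (cf l j + 1) (Nat.beq (a.1 % 2) 0)) (Nat.beq (a.2 % 8) j) : ℤ) = _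
      rw [neg_one_pow_eq_pow_mod_two]
      cases h : Nat.beq (a.2 % 8) j
      · simp [Nat.ne_of_beq_eq_false h]
      · rcases Nat.mod_two_eq_zero_or_one a.1 with h1 | h1 <;> simp [h1, Nat.eq_of_beq_eq_true h, Nat.beq] <;> ring
    simp [this, add_mul, Finset.sum_add_distrib, ih, Nat.mod_lt]

include M in
theorem grpB_spec [FiniteDimensional k V] (h2 : (2 : k) ≠ 0) {rep : ℕ → ℕ} (hr : ∀ j < 8, Val (rep j))
    {zs cj : List ℕ} {cs : List ℤ} (h : grpB mu e vb rep zs cj cs = true) :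
    ∑ j ∈ Finset.range 8, cs.getD j 0 * tau ⊤ (ρ (φ (rep j))) =
      2 ^ zs.length * (finrank k (fx (zs.map (op ρ φ))) : ℤ) := by
  simp only [grpB, forceL_eq, Bool.and_eq_true, List.all_eq_true, Nat.beq_eq, decide_eq_true_eq] at h
  obtain ⟨⟨c1, c2⟩, ⟨c3, c4⟩, rfl⟩ := h
  have h1 := fun z hz => M.vb _ (c1 z hz)
  obtain ⟨h3, h4⟩ := elsC_spec M ρ h1
  have h5 := chain_sum h2 _ _ ⊤ (fun _ _ _ _ => trivial) (by simp [op, M.φ_e])
    (chainB_spec M ρ h1 (by simpa using M.val_e) c2)
  rw [top_inf_eq, List.length_map, ← h4, ← List.map_fst_zip (l₂ := cj) c3.le, List.map_map, List.map_map] at h5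
  rw [← h5, Finset.sum_congr rfl fun j hj => by
    rw [List.getD_eq_getElem _ _ (by simpa using hj), List.getElem_map, List.getElem_range], ← sum_cf]
  refine congrArg _ (List.map_congr_left fun a ha => ?_)
  have h6 := congrArg φ (c4 a ha).2
  have h7 := M.vb _ (c4 a ha).1
  rw [M.φ_mu _ _ (h3 _ (List.of_mem_zip ha).1) h7, M.φ_mu _ _ h7 (hr _ (Nat.mod_lt _ (by norm_num)))] at h6
  have h8 : tau ⊤ (ρ (φ (a.1 / 2))) = tau ⊤ (ρ (φ (rep (a.2 % 8)))) := by rw [tau, tau, dm_conj ρ h6, dm_conj ρ h6]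
  rcases Nat.even_or_odd a.1 with h | h <;> simp [op, h.neg_one_pow, tau_neg, h8]

/-- the vector coded by two sets -/
def cv (f : ℕ → V) (n P N : ℕ) : V :=
  ∑ p ∈ Finset.range n, ((if P.testBit p then f p else 0) - if N.testBit p then f p else 0)

theorem cv_swap (f : ℕ → V) (n P N : ℕ) : cv f n N P = -cv f n P N := by
  simp only [cv, ← Finset.sum_neg_distrib, neg_sub]

theorem cv_xor (f : ℕ → V) {n p : ℕ} (hp : p < n) (P N : ℕ) :
    cv f n (Nat.xor P (Nat.pow 2 p)) N = cv f n P N + if P.testBit p then -f p else f p := by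
  have : (if P.testBit p then -f p else f p) =
      ∑ q ∈ Finset.range n, if p = q then (if P.testBit p then -f p else f p) else 0 := by simp [hp]
  rw [this, cv, cv, ← Finset.sum_add_distrib]
  refine Finset.sum_congr rfl fun q _ => ?_
  rw [show (Nat.xor P (Nat.pow 2 p)).testBit q = _ from Nat.testBit_xor .., tbPow]
  by_cases h : p = q
  · subst h; cases P.testBit p <;> simp [sub_eq_add_neg, add_comm]
  · simp [h]

theorem upd_spec (h3 : ∀ v : V, v + v + v = 0) (f : ℕ → V) {n p : ℕ} (hp : p < n) {P N : ℕ} {g : ℕ → ℕ → Bool}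
    (h : upd P N p g = true) : ∃ P' N', g P' N' = true ∧ cv f n P' N' = cv f n P N + f p := by
  rw [upd, tb_eq, tb_eq] at h
  cases h1 : N.testBit p <;> cases h2 : P.testBit p <;> simp only [h1, h2, force_eq] at h <;> refine ⟨_, _, h, ?_⟩
  · rw [cv_xor f hp, h2]; simp
  · rw [cv_xor f hp, cv_swap, cv_xor f hp, cv_swap, h1, h2]
    linear_combination (norm := (simp; abel)) -h3 (f p)
  all_goals rw [cv_swap, cv_xor f hp, cv_swap, h1]; simp [add_comm]

/-- a signed sum of points -/
def sg (f : ℕ → V) (l : List ℕ) : V := (l.map fun a => (-1 : ℤ) ^ a • f (a / 2)).sum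

variable {act : ℕ → ℕ → ℕ} {n : ℕ} {f : ℕ → V} (h3 : ∀ v : V, v + v + v = 0)
  (ha : ∀ h p, Val h → p < n → act h p < n → ρ (φ h) (f p) = f (act h p))

include h3 ha in
theorem accP_spec {h : ℕ} (hh : Val (h / 2)) {l : List ℕ} (hl : ∀ a ∈ l, a / 2 < n) {g : ℕ → ℕ → Bool} {P N : ℕ}
    (hc : accP act n h l g P N = true) : ∃ P' N', g P' N' = true ∧ cv f n P' N' = cv f n P N + op ρ φ h (sg f l) := by
  induction l generalizing P N with
  | nil => exact ⟨P, N, hc, by simp [sg]⟩
  | cons a l ih =>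
    have ih := fun P N => ih (P := P) (N := N) fun b hb => hl b (List.mem_cons_of_mem _ hb)
    replace hc : force (act (h / 2) (a / 2)) (fun p => Nat.blt p n && Bool.rec (upd N P p fun N P => accP act n h l g P N)
      (upd P N p (accP act n h l g)) (Nat.beq ((h + a) % 2) 0)) = true := hc
    rw [force_eq, Bool.and_eq_true, Nat.blt_eq] at hc
    have h1 : op ρ φ h (sg f (a :: l)) = (-1 : ℤ) ^ ((h + a) % 2) • f (act (h / 2) (a / 2)) + op ρ φ h (sg f l) := by
      rw [← ha _ _ hh (hl a (by simp)) hc.1, ← neg_one_pow_eq_pow_mod_two, sg, List.map_cons, List.sum_cons, map_add]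
      rcases Nat.even_or_odd h with h | h <;> simp [op, h.neg_one_pow, pow_add, sg]
    rw [h1]
    rcases Nat.mod_two_eq_zero_or_one (h + a) with e | e <;> rw [e] at hc ⊢
    · obtain ⟨P1, N1, h4, h5⟩ := upd_spec h3 f hc.1 hc.2
      obtain ⟨P2, N2, h6, h7⟩ := ih _ _ h4
      exact ⟨P2, N2, h6, by simp [h7, h5, add_assoc]⟩
    · obtain ⟨P1, N1, h4, h5⟩ := upd_spec h3 f hc.1 hc.2
      obtain ⟨P2, N2, h6, h7⟩ := ih _ _ h4
      exact ⟨P2, N2, h6, by rw [h7, cv_swap, h5, cv_swap]; simp; abel⟩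

include M h3 ha in
theorem accS_spec {sd : ℕ → List ℕ} (hl : ∀ i, ∀ a ∈ sd i, a / 2 < n) (h0 : ∀ i, sg f (sd i) = 0) {l : List ℕ}
    {g : ℕ → ℕ → Bool} {P N : ℕ} (hc : accS vb act n sd l g P N = true) :
    ∃ P' N', g P' N' = true ∧ cv f n P' N' = cv f n P N := by
  induction l generalizing P N with
  | nil => exact ⟨P, N, hc, rfl⟩
  | cons a l ih =>
    replace hc : force (a / 4) (fun h => vb (h / 2) && accP act n h (sd (a % 4)) (accS vb act n sd l g) P N) = true := hc
    rw [force_eq, Bool.and_eq_true] at hc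
    obtain ⟨P1, N1, h4, h5⟩ := accP_spec ρ h3 ha (M.vb _ hc.1) (hl _) hc.2
    obtain ⟨P2, N2, h6, h7⟩ := ih h4
    exact ⟨P2, N2, h6, by rw [h7, h5, h0, map_zero, add_zero]⟩

include M in
theorem cact_spec {rp Z idx pt : ℕ → ℕ} (hr : ∀ p < n, Val (rp p)) {v : V} (hZ : ∀ i, Val (Z i) ∧ ρ (φ (Z i)) v = v)
    (h p : ℕ) (hh : Val h) (hp : p < n) (hq : cact mu n rp Z idx pt h p < n) :
    ρ (φ h) (ρ (φ (rp p)) v) = ρ (φ (rp (cact mu n rp Z idx pt h p))) v := by
  simp only [cact, force_eq] at hq ⊢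
  generalize hb : Nat.beq _ _ = b at hq ⊢
  cases b
  · exact absurd hq (lt_irrefl _)
  · change _ = ρ (φ (rp (pt _))) v
    rw [Nat.eq_of_beq_eq_true hb, M.φ_mu _ _ (M.val_mu _ _ hh (hr p hp)) (hZ _).1, M.φ_mu _ _ hh (hr p hp)]
    simp [(hZ _).2]

end Cfsg.Agent.H4.T8
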