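import Cfsg.Agent.H4.T8L
import Cfsg.Prelude.Def_Classical

/-!
Matrix groups over small fields coded by natural numbers.
-/

set_option autoImplicit false
set_option linter.unusedSectionVars false

namespace Cfsg.Agent.H4.T8

open BP

/-- a digit -/
def dg (w x j : ℕ) : ℕ := Nat.mod (Nat.shiftRight x (Nat.mul w j)) (Nat.pow 2 w)

/-- the number with given digits -/
noncomputable def pk (w : ℕ) (f : ℕ → ℕ) (m : ℕ) : ℕ → ℕ :=
  Nat.rec (motive := fun _ => ℕ → ℕ) (fun _ => 0)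
    (fun _ ih s => Nat.add (f s) (Nat.shiftLeft (ih (Nat.succ s)) w)) m

theorem dg_eq (w x j : ℕ) : dg w x j = x / (2 ^ w) ^ j % 2 ^ w := by
  rw [← pow_mul, ← Nat.shiftRight_eq_div_pow]; rfl

theorem dg_lt (w x j : ℕ) : dg w x j < 2 ^ w := Nat.mod_lt _ (by simp)

theorem dg_succ (w x j : ℕ) : dg w x (j + 1) = dg w (x / 2 ^ w) j := by
  rw [dg_eq, dg_eq, pow_succ', Nat.div_div_eq_div_mul]

theorem dg_pk {w : ℕ} {f : ℕ → ℕ} (hf : ∀ p, f p < 2 ^ w) {m j : ℕ} (hj : j < m) (s : ℕ) :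
    dg w (pk w f m s) j = f (s + j) := by
  induction m generalizing j s with
  | zero => omega
  | succ m ih =>
    rw [show pk w f (m + 1) s = f s + pk w f m (s + 1) * 2 ^ w from congrArg _ (Nat.shiftLeft_eq ..)]
    cases j with
    | zero => simp [dg_eq, Nat.mod_eq_of_lt (hf s)]
    | succ j =>
      rw [dg_succ, Nat.add_mul_div_right _ _ (by simp), Nat.div_eq_of_lt (hf s), zero_add, ih (by omega)]
      congr 1; omega

section
variable (w n : ℕ) (fa fm : ℕ → ℕ → ℕ)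

/-- an entry of a product -/
noncomputable def ent (a b i j k : ℕ) : ℕ :=
  Nat.rec (motive := fun _ => ℕ) 0 (fun k acc =>
    fa acc (fm (dg w a (Nat.add (Nat.mul n i) k)) (dg w b (Nat.add (Nat.mul n k) j)))) k

/-- matrix product -/
noncomputable def mm (a b : ℕ) : ℕ := force a fun a => force b fun b =>
  pk w (fun p => force (Nat.div p n) fun i => force (Nat.mod p n) fun j => ent w n fa fm a b i j n) (Nat.mul n n) 0

/-- conjugate transpose -/
noncomputable def ct (cj : ℕ → ℕ) (a : ℕ) : ℕ := pk w (fun p => cj (dg w a (n * (p % n) + p / n))) (n * n) 0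

/-- normalised product -/
noncomputable def pmu (mm : ℕ → ℕ → ℕ) (zc sel : ℕ → ℕ) (a b : ℕ) : ℕ := force (mm a b) fun c =>
  force (sel c) fun i => Bool.rec (mm (zc i) c) c (Nat.beq i 0)

end

variable {F : Type*} [CommRing F] {ι : Type} [Fintype ι] [DecidableEq ι] {w n : ℕ} (e : ι ≃ Fin n) (t : ℕ → F)

/-- the coded matrix -/
def toM (w : ℕ) (a : ℕ) : Matrix ι ι F := Matrix.of fun i j => t (dg w a (n * e i + e j))

theorem toM_pk {f : ℕ → ℕ} (hf : ∀ p, f p < 2 ^ w) (i j : ι) : toM e t w (pk w f (n * n) 0) i j = t (f (n * e i + e j)) := by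
  rw [toM, Matrix.of_apply, dg_pk hf (by nlinarith [(e i).2, (e j).2]), zero_add]

theorem idx_div (i j : Fin n) : (n * i + j) / n = i ∧ (n * i + j) % n = j := by
  have := j.2
  exact ⟨by rw [Nat.mul_add_div (by omega), Nat.div_eq_of_lt this, add_zero], by simp [Nat.mod_eq_of_lt this]⟩

/-- a coded ring -/
structure Cod (w : ℕ) (fa fm : ℕ → ℕ → ℕ) : Prop where
  zero : t 0 = 0
  add : ∀ a < 2 ^ w, ∀ b < 2 ^ w, fa a b < 2 ^ w ∧ t (fa a b) = t a + t b
  mul : ∀ a < 2 ^ w, ∀ b < 2 ^ w, fm a b < 2 ^ w ∧ t (fm a b) = t a * t b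

variable {t} {fa fm : ℕ → ℕ → ℕ}

theorem toM_mm (h : Cod t w fa fm) (a b : ℕ) : toM e t w (mm w n fa fm a b) = toM e t w a * toM e t w b := by
  have h1 : ∀ i j k, ent w n fa fm a b i j k < 2 ^ w ∧ t (ent w n fa fm a b i j k) =
      ∑ l ∈ Finset.range k, t (dg w a (n * i + l)) * t (dg w b (n * l + j)) := fun i j k => by
    induction k with
    | zero => exact ⟨by simp [ent], h.zero⟩
    | succ k ih =>
      have h2 := h.mul _ (dg_lt w a (n * i + k)) _ (dg_lt w b (n * k + j))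
      have h3 := h.add _ ih.1 _ h2.1
      exact ⟨h3.1, by rw [Finset.sum_range_succ, ← ih.2, ← h2.2, ← h3.2]; rfl⟩
  ext i j
  simp only [mm, force_eq]
  rw [show Nat.mul n n = n * n from rfl, toM_pk e t fun p => (h1 ..).1, (h1 ..).2, Matrix.mul_apply,
    show Nat.div (n * e i + e j) n = _ from (idx_div ..).1, show Nat.mod (n * e i + e j) n = _ from (idx_div ..).2,
    ← Fin.sum_univ_eq_sum_range (fun l => t (dg w a (n * e i + l)) * t (dg w b (n * l + e j))), ← e.sum_comp]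
  rfl

theorem toM_ct {cj : ℕ → ℕ} {σ : F → F} (h : ∀ a < 2 ^ w, cj a < 2 ^ w ∧ t (cj a) = σ (t a)) (a : ℕ) :
    toM e t w (ct w n cj a) = ((toM e t w a).map σ).transpose := by
  ext i j
  rw [ct, toM_pk e t fun p => (h _ (dg_lt ..)).1, (h _ (dg_lt ..)).2, (idx_div ..).1, (idx_div ..).2]; rfl

section
variable {S G M : Type*} [Group S] [Group G] [Monoid M] (j : S →* M) (π : S →* G) (T : ℕ → M)

/-- valid codes -/
def PV (a : ℕ) : Prop := ∃ s, j s = T a

open Classical in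
/-- the coded element -/
noncomputable def Pφ (a : ℕ) : G := if h : PV j T a then π h.choose else 1

variable {j π T} (hj : Function.Injective j) {mm : ℕ → ℕ → ℕ} (hm : ∀ a b, T (mm a b) = T a * T b)
include hj

theorem Pφ_eq {a : ℕ} {s : S} (h : j s = T a) : Pφ j π T a = π s := by
  have h1 : PV j T a := ⟨s, h⟩
  rw [Pφ, dif_pos h1, hj (h1.choose_spec.trans h.symm)]

include hm

theorem pmdl {e : ℕ} (he : T e = 1) {vb : ℕ → Bool} (hv : ∀ a, vb a = true → PV j T a) {zc : ℕ → ℕ}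
    (hz : ∀ i, ∃ s, j s = T (zc i) ∧ π s = 1) (sel : ℕ → ℕ) : Mdl (pmu mm zc sel) e vb (PV j T) (Pφ j π T) := by
  have key : ∀ a b, PV j T a → PV j T b → ∃ s, j s = T (pmu mm zc sel a b) ∧ π s = Pφ j π T a * Pφ j π T b := by
    rintro a b ⟨x, hx⟩ ⟨y, hy⟩
    rw [Pφ_eq hj hx, Pφ_eq hj hy, pmu, force_eq, force_eq]
    cases Nat.beq (sel (mm a b)) 0
    · obtain ⟨z, h1, h2⟩ := hz (sel (mm a b))
      exact ⟨z * (x * y), by simp [hm, h1, hx, hy], by simp [h2]⟩
    · exact ⟨x * y, by simp [hm, hx, hy], by simp⟩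
  exact ⟨hv, ⟨1, by rw [map_one, he]⟩, (Pφ_eq hj (by rw [map_one, he])).trans (map_one π),
    fun a b ha hb => (key a b ha hb).imp fun _ h => h.1,
    fun a b ha hb => let ⟨_, h1, h2⟩ := key a b ha hb; (Pφ_eq hj h1).trans h2⟩

theorem Pφ_ne (hk : ∀ s, π s = 1 → s ∈ Subgroup.center S) {a g : ℕ} (ha : PV j T a) (hg : PV j T g)
    (h : T (mm a g) ≠ T (mm g a)) : Pφ j π T a ≠ 1 := fun e => by
  obtain ⟨x, hx⟩ := ha
  obtain ⟨y, hy⟩ := hg
  rw [Pφ_eq hj hx] at e
  exact h (by rw [hm, hm, ← hx, ← hy, ← map_mul, ← map_mul, Subgroup.mem_center_iff.1 (hk x e) y])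

end

theorem exists_root {F : Type*} [Field F] [Fintype F] (p q : Polynomial F) (hq : q.Monic)
    (hd : q.natDegree < Fintype.card F) (h : ∀ x, p.eval x * q.eval x = x ^ Fintype.card F - x) : ∃ x, p.eval x = 0 := by
  by_contra! h1
  exact hq.ne_zero (Polynomial.eq_zero_of_natDegree_lt_card_of_eval_eq_zero q Function.injective_id
    (fun x => (mul_eq_zero.1 ((h x).trans (by rw [FiniteField.pow_card, sub_self]))).resolve_left (h1 x)) hd)

end Cfsg.Agent.H4.T8
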