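import Cfsg.Agent.H4.T8U0

/-!
`PSU₄(3)` is not a subgroup of `E₈(3)`.
-/

set_option autoImplicit false
set_option maxRecDepth 100000

namespace Cfsg.Agent.H4.T8.U4

open BP Module Matrix Polynomial

/-- a digit -/
def β (a i : ℕ) : ZMod 3 := ((a / 4 ^ i % 4 : ℕ) : ZMod 3)

theorem c_fld : allLt (fun a => Nat.blt (cj a) 16 && decide (β (cj a) 0 = β a 0 ∧ β (cj a) 1 = -β a 1) &&
    allLt (fun b => Nat.blt (fa a b) 16 && Nat.blt (fm a b) 16 && decide (β (fa a b) 0 = β a 0 + β b 0 ∧
      β (fa a b) 1 = β a 1 + β b 1 ∧ β (fm a b) 0 = β a 0 * β b 0 - β a 1 * β b 1 ∧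
      β (fm a b) 1 = β a 0 * β b 1 + β a 1 * β b 0)) 16) 16 = true := by decide +kernel

theorem arith : ∀ x ∈ L8, ∀ y ∈ L8, y.2.1 = x.2.2 → y.2.2 = 248 → x.2.2 ≠ 248 →
    0 ≤ 248 + 19 * x.2.2 - 8 * y.1 + 4 * x.2.1 - 16 * x.1 → (248 + 19 * x.2.2 - 8 * y.1 + 4 * x.2.1 - 16 * x.1) % 128 = 0 →
      x.2.2 = -8 ∧ y.1 = 0 ∧ x.2.1 = 8 ∧ x.1 = 0 := by decide +kernel

variable {F : Type*} [Field F] (f : ZMod 3 →+* F) (θ : F)

/-- the coded element -/
def t (a : ℕ) : F := f (β a 0) + f (β a 1) * θ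

theorem t_zero : t f θ 0 = 0 := by simp [t, β]

theorem t_one : t f θ 1 = 1 := by simp [t, β]

theorem t_two : t f θ 2 = -1 := by simp [t, β, show (2 : ZMod 3) = -1 from rfl]

theorem t_mod (a : ℕ) : t f θ (Nat.mod a 16) = t f θ a := by
  rw [t, t, β, β, β, β, show Nat.mod a 16 / 4 ^ 0 % 4 = a / 4 ^ 0 % 4 by change a % 16 / 1 % 4 = a / 1 % 4; omega,
    show Nat.mod a 16 / 4 ^ 1 % 4 = a / 4 ^ 1 % 4 by change a % 16 / 4 % 4 = a / 4 % 4; omega]

/-- the coded matrix -/
def T (a : ℕ) : Matrix (Fin 4) (Fin 4) F := toM (Equiv.refl _) (t f θ) 4 a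

theorem T_diag (i : ℕ) : ∃ c, T f θ (zc i) = diagonal fun _ => c := by
  have h : ∀ c < 16, T f θ (c * 1152922604119523329) = diagonal fun _ => t f θ c := fun c hc => by
    have h1 : ∀ c < 16, ∀ i j : Fin 4, dg 4 (c * 1152922604119523329) (4 * i + j) = if i = j then c else 0 := by decide +kernel
    ext i j
    rw [T, toM, of_apply, Equiv.refl_apply, Equiv.refl_apply, h1 c hc, diagonal_apply, apply_ite (t f θ), t_zero]
  have := gt_mem [1152922604119523329, 4611690416478093316, 2305845208239046658, 9223380832956186632] 1152922604119523329 i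
  simp only [List.mem_cons, List.not_mem_nil, or_false] at this
  rw [zc]
  rcases this with h1 | h1 | h1 | h1 | h1 <;> rw [h1]
  exacts [⟨_, h 1 (by decide)⟩, ⟨_, h 1 (by decide)⟩, ⟨_, h 4 (by decide)⟩, ⟨_, h 2 (by decide)⟩, ⟨_, h 8 (by decide)⟩]

theorem T_e : T f θ 1152922604119523329 = 1 := by
  have h1 : ∀ i j : Fin 4, dg 4 1152922604119523329 (4 * i + j) = if i = j then 1 else 0 := by decide +kernel
  ext i j
  rw [T, toM, of_apply, Equiv.refl_apply, Equiv.refl_apply, h1, one_apply, apply_ite (t f θ), t_zero, t_one]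

variable {θ} (hθ : θ ^ 2 + 1 = 0)
include hθ

theorem cod : Cod (t f θ) 4 fa fm where
  zero := t_zero f θ
  add a ha b hb := by
    have h := allLt_spec c_fld a ha
    rw [Bool.and_eq_true] at h
    have h1 := allLt_spec h.2 b hb
    simp only [Bool.and_eq_true, Nat.blt_eq, decide_eq_true_eq] at h1
    refine ⟨h1.1.1, ?_⟩
    rw [t, h1.2.1, h1.2.2.1]
    simp only [t, map_add]
    ring
  mul a ha b hb := by
    have h := allLt_spec c_fld a ha
    rw [Bool.and_eq_true] at h
    have h1 := allLt_spec h.2 b hb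
    simp only [Bool.and_eq_true, Nat.blt_eq, decide_eq_true_eq] at h1
    refine ⟨h1.1.2, ?_⟩
    rw [t, h1.2.2.2.1, h1.2.2.2.2]
    simp only [t, map_add, map_sub, map_mul]
    linear_combination -(f (β a 1) * f (β b 1)) * hθ

theorem t_cj [CharP F 3] (a : ℕ) (ha : a < 2 ^ 4) : cj a < 2 ^ 4 ∧ t f θ (cj a) = frobenius F 3 (t f θ a) := by
  have h := allLt_spec c_fld a ha
  simp only [Bool.and_eq_true, Nat.blt_eq, decide_eq_true_eq] at h
  refine ⟨h.1.1, ?_⟩
  rw [t, h.1.2.1, h.1.2.2, t, map_add, map_mul, ← RingHom.comp_apply, ← RingHom.comp_apply,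
    Subsingleton.elim ((frobenius F 3).comp f) f, frobenius_def, map_neg]
  linear_combination -(f (β a 1) * θ) * hθ

theorem T_mul (a b : ℕ) : T f θ (m4 a b) = T f θ a * T f θ b := toM_mm _ (cod f hθ) a b

theorem t_d4 (a : ℕ) : t f θ (d4 a) = (T f θ a).det := by
  have h1 : ∀ a b, t f θ (fa' a b) = t f θ a + t f θ b := fun a b => by
    rw [fa', ((cod f hθ).add (Nat.mod a 16) (Nat.mod_lt _ (by decide)) (Nat.mod b 16) (Nat.mod_lt _ (by decide))).2,
      t_mod, t_mod]
  have h2 : ∀ a b, t f θ (fm' a b) = t f θ a * t f θ b := fun a b => by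
    rw [fm', ((cod f hθ).mul (Nat.mod a 16) (Nat.mod_lt _ (by decide)) (Nat.mod b 16) (Nat.mod_lt _ (by decide))).2,
      t_mod, t_mod]
  simp only [d4, mn, h1, h2, t_two]
  simp [T, toM, det_succ_row_zero, Fin.sum_univ_succ, Fin.succAbove]
  ring

/-- the embedding -/
abbrev jj (F : Type*) [Field F] : SU 4 F 3 →* Matrix (Fin 4) (Fin 4) F := (slToMat 4 F).comp (Subgroup.subtype _)

omit hθ in
theorem jj_inj : Function.Injective (jj F) := fun _ _ e => Subtype.ext (Subtype.ext e)

theorem mdl [CharP F 3] : Mdl mu 1152922604119523329 vb (PV (jj F) (T f θ))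
    (Pφ (jj F) (QuotientGroup.mk' (Subgroup.center (SU 4 F 3))) (T f θ)) := by
  have hv : ∀ a, vb a = true → PV (jj F) (T f θ) a := fun a h => by
    rw [vb, force_eq, Bool.and_eq_true] at h
    have h1 := congrArg (T f θ) (Nat.eq_of_beq_eq_true h.1)
    rw [T_mul f hθ, T_e, show T f θ (ct 4 4 cj a) = _ from toM_ct _ (t_cj f hθ) a] at h1
    refine ⟨⟨⟨T f θ a, by rw [← t_d4 f hθ, Nat.eq_of_beq_eq_true h.2, t_one]⟩, fun u v => ?_⟩, rfl⟩
    have h2 : ∀ u v : Fin 4 → F, hermForm 4 F 3 u v = (frobenius F 3 ∘ v) ⬝ᵥ u := fun u v => dotProduct_comm u _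
    change hermForm 4 F 3 (T f θ a *ᵥ u) (T f θ a *ᵥ v) = _
    rw [h2, h2, show frobenius F 3 ∘ (T f θ a *ᵥ v) = _ from funext (RingHom.map_mulVec _ _ _), ← vecMul_transpose,
      ← dotProduct_mulVec, mulVec_mulVec]
    exact congrArg (fun M => _ ⬝ᵥ M *ᵥ u) h1 |>.trans (by rw [one_mulVec])
  refine pmdl jj_inj (T_mul f hθ) (T_e f θ) hv (fun i => ?_) _
  obtain ⟨s, hs⟩ := hv (zc i) (by
    have := gt_mem [1152922604119523329, 4611690416478093316, 2305845208239046658, 9223380832956186632] 1152922604119523329 i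
    simp only [List.mem_cons, List.not_mem_nil, or_false] at this
    rw [zc]
    rcases this with h1 | h1 | h1 | h1 | h1 <;> rw [h1] <;> decide +kernel)
  obtain ⟨c, hc⟩ := T_diag f θ i
  exact ⟨s, hs, (QuotientGroup.eq_one_iff _).2 (Subgroup.mem_center_iff.2 fun g => jj_inj (by
    rw [map_mul, map_mul, hs, hc, ← smul_one_eq_diagonal]; simp))⟩

omit hθ in
attribute [local irreducible] zK zE yC mu elsC op sop pwN in
theorem aux {G : Type*} [Group G] {Val : ℕ → Prop} {φ : ℕ → G} (M : Mdl mu 1152922604119523329 vb Val φ)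
    (hu : φ 2305845208237998081 ≠ 1) {V : Type*} [AddCommGroup V] [Module (ZMod 3) V]
    [FiniteDimensional (ZMod 3) V] (ρ : G →* End (ZMod 3) V) : ¬ Fac ρ := fun h => by
  have hr : ∀ j < 8, _ := fun j hj => M.vb _ (allLt_spec (f := fun j => vb (rep j)) (by decide +kernel) j hj)
  have h1 := grpB_spec M ρ (by decide) hr cK
  have h2 := grpB_spec M ρ (by decide) hr cE
  have h3 := grpB_spec M ρ (by decide) hr cC
  have h4 := h.tri M (b := rep 3) (c := rep 1) (hr 4 (by norm_num)) (by decide +kernel) (by decide +kernel)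
    (by decide +kernel)
  have h5 := h.tri M (b := rep 1) (c := rep 0) (hr 2 (by norm_num)) (by decide +kernel) (by decide +kernel)
    (by decide +kernel)
  have h6 : tau ⊤ (ρ (φ (rep 1))) ≠ 248 := h.tau_ne hu
  have h0 : tau ⊤ (ρ (φ (rep 0))) = 248 := (congrArg (fun x => tau ⊤ (ρ x)) M.φ_e).trans h.tau_one
  simp only [Finset.sum_range_succ, Finset.sum_range_zero, h0, List.getD_cons_succ, List.getD_cons_zero,
    show zK.length = 7 by decide +kernel, show zE.length = 4 by decide +kernel,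
    show (zE ++ yC).length = 6 by decide +kernel] at h1 h2 h3
  have h7 : finrank (ZMod 3) (fx (zE.map (op ρ φ))) = 8 ∧ finrank (ZMod 3) (fx ((zE ++ yC).map (op ρ φ))) = 2 := by
    have := arith _ h4 _ h5 rfl h0 h6 (by simp only; omega) (by simp only; omega)
    simp only at this
    omega
  clear h1 h2 h3 h4 h5
  have hE := (grpB_chain M ρ cE).1
  have hc := sop_mem M ρ hE (ys := yC) (by decide +kernel) (by decide +kernel)
  have hf := sop_five M ρ hE (a := 9377762247398462593) (by decide +kernel) (by decide +kernel)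
  have h8 := finrank_le_one (fx (zE.map (op ρ φ)) ⊓ (ρ (φ 9377762247398462593)).eigenspace 1) _ _
    (fun v hv => hc.2 2460164157385876034 (by decide +kernel) v (mem_inf_eig.1 hv).1) fun v hv h0 => by
      have := cert M ρ three (by decide +kernel) (gt_pw M ρ (a := 9377762247398462593) (n := 5) (M.vb _ (by decide +kernel))
        (mem_inf_eig.1 hv).2 (L := Z1) (by decide +kernel)) (p := 0) (by decide) (by decide +kernel) (by
          simp only [sd1, List.forall_mem_cons, List.not_mem_nil, false_imp_iff, implies_true, and_true]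
          exact ⟨_, _, hc.1, by decide +kernel, h0⟩) c1
      rwa [cv_one _ (by decide), cv_self, show rp1 0 = 1152922604119523329 by decide +kernel, M.φ_e, map_one] at this
  have h9 := card_mod _ _ (nrmB_two M ρ hE (r := 9377762247398462593) (by decide +kernel)) hf.1
  rw [← dm, h7.2] at h8
  rw [h7.1] at h9
  have h10 : dm (fx (zE.map (op ρ φ))) (ρ (φ 9377762247398462593)) 1 = 0 := by
    generalize dm (fx (zE.map (op ρ φ))) (ρ (φ 9377762247398462593)) 1 = d at h8 h9
    interval_cases d <;> first | rfl | exact absurd h9 (by decide)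
  have h11 := finrank_zero_of (fx ((zE ++ yC).map (op ρ φ))) fun v hv => by
    have h12 := (fx_app ρ).1 hv
    have h13 := fun r hr => eq_zero_of_mem h10 (hf.2.2 r hr v h12.1)
    have := cert M ρ three (by decide +kernel) (gt_pw M ρ (a := 11889503405657292885) (n := 4) (M.vb _ (by decide +kernel))
      (fx_two ρ h12.2 (by decide +kernel)) (L := Z2) (by decide +kernel)) (p := 0) (by decide) (by decide +kernel) (by
        simp only [sd2, List.forall_mem_cons, List.not_mem_nil, false_imp_iff, implies_true, and_true]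
        exact ⟨⟨_, _, hf.2.1, by decide +kernel, h13 9390289207127320706 (by decide +kernel)⟩,
          ⟨_, _, hf.2.1, by decide +kernel, h13 95139412597328384 (by decide +kernel)⟩,
          ⟨_, _, hf.2.1, by decide +kernel, h13 18604423949660473602 (by decide +kernel)⟩⟩) c2
    rwa [cv_one _ (by decide), cv_self, show rp2 0 = 1152922604119523329 by decide +kernel, M.φ_e, map_one] at this
  omega

omit hθ in
theorem not_fac [Fintype F] (hF : Fintype.card F = 9) {V : Type*} [AddCommGroup V] [Module (ZMod 3) V]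
    [FiniteDimensional (ZMod 3) V] (ρ : PSU 4 F 3 →* End (ZMod 3) V) : ¬ Fac ρ := by
  have : CharP F 3 := charP_of_card_eq_prime_pow (p := 3) (f := 2) hF
  obtain ⟨θ, hθ⟩ := exists_root (F := F) (X ^ 2 + 1) (X ^ 7 - X ^ 5 + X ^ 3 - X)
    (by monicity!) (lt_of_le_of_lt (show _ ≤ 7 by compute_degree) (by omega)) fun x => by
      simp only [hF, eval_add, eval_sub, eval_pow, eval_X, eval_one]
      ring
  simp only [eval_add, eval_pow, eval_X, eval_one] at hθ
  let f := ZMod.castHom (dvd_refl 3) F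
  have M := mdl f hθ
  refine aux M (Pφ_ne (π := QuotientGroup.mk' (Subgroup.center _)) jj_inj (T_mul f hθ)
    (fun s => (QuotientGroup.eq_one_iff s).1) (M.vb _ (by decide +kernel)) (M.vb 4503604190773504 (by decide +kernel)) fun e => ?_) ρ
  rw [show m4 2305845208237998081 4503604190773504 = 9007208113111296 by decide +kernel,
    show m4 4503604190773504 2305845208237998081 = 4503604459209216 by decide +kernel] at e
  have h1 := (t_one f θ).symm.trans ((congrFun (congrFun e 0) 2).trans (t_two f θ))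
  exact one_ne_zero (by linear_combination (CharP.cast_eq_zero F 3) - h1 : (1 : F) = 0)

end Cfsg.Agent.H4.T8.U4
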